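import Cfsg.Agent.H269.CubeJ3_mg_m3
import Cfsg.Agent.H800.IFx.Gen_m3
import Mathlib
import Cfsg.Agent.H30.IF.Frob_m3
import Cfsg.Agent.H163.PG.PslAut
import Cfsg.Agent.H245.RankOneOrth
import Cfsg.Agent.ClassicalGeometry.PSL2Basic
import Cfsg.Agent.S0286
import Cfsg.Agent.S0287
import Cfsg.Agent.H242.StrP.FCUni
import Cfsg.Agent.H277.ClsPsl
import Cfsg.Agent.H277.ClsPsu
import Cfsg.Agent.S2699
import Cfsg.Agent.S2706
import Cfsg.Agent.H716.FC.Sc
import Cfsg.Agent.H923.FC.Base
import Cfsg.Agent.H716.FC.TwoFin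
import Cfsg.Agent.H886.FC.Base
import Cfsg.Agent.H198.FC.DefsB
import Cfsg.Agent.H961.LinePSU3
import Cfsg.Agent.LieClassical.HermBasic
import Mathlib.LinearAlgebra.Projectivization.Cardinality
import Cfsg.Agent.H956.IF.Central
import Cfsg.Agent.H209.EPX.Defs_m3
import Cfsg.Agent.LieClassical.SUBasic
import Cfsg.Agent.H705.ComPSU_m3
import Cfsg.Agent.H452.FprPsu3A
import Cfsg.Agent.H667.TwoPSUGrp
import Cfsg.Agent.H417.TI.Psl_m3
import Cfsg.Agent.LieClassical.HermPerfect
import Cfsg.Agent.S0245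
import Cfsg.Agent.S0277
import Cfsg.Agent.S2148
import Cfsg.Agent.S2150
import Cfsg.Agent.H672.IF.Th_m3
import Cfsg.Agent.H597.L2Aut
import Cfsg.Agent.H199.PslGraphField
import Cfsg.Agent.H199.PslField
import Cfsg.Agent.S2697
import Cfsg.Agent.H242.StrP.FCLin
import Cfsg.Agent.S2698
import Cfsg.Agent.S2704
import Cfsg.Agent.ClassicalGeometry.GUBasic
import Cfsg.Agent.H886.FC.ClassB
import Cfsg.Agent.ClassicalGeometry.HermOrthonormal
import Cfsg.Agent.H195.FC.NormU
import Cfsg.Agent.H567.FC.Main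
import Cfsg.Agent.H567.FC.ZMap
import Cfsg.Agent.S0279
import Cfsg.Agent.H202.Psu
import Cfsg.Agent.S0282
import Cfsg.Agent.H914.Gs.SpBase
import Cfsg.Agent.S0752
import Cfsg.Agent.LieClassical.SympCenter
import Cfsg.Agent.FastGrp
import Cfsg.Agent.Prune
set_option linter.all false

section
prune_inst 0x7ffca8f8a9b829dfdfff7e7da698cdfc39901fffa4dff9433fe021cf0bdf030009c5238d09e000fe0e82401400a87803f97eceffe26bd87ffffd1ff41ffbee0fe5f7b500519488340fbc0ff603f0678e7f3fffffffffffffffffffffffffffaeffbdffffffff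

-- part: H618/IF/FiTT
section
set_option linter.all false
open scoped Cfsg.Agent.FastGrp

/-!
# S5719, `|A|` odd: `Fi22` (helper618)

* `out_Fi22` : `2 ^ 7` divides `|C_T(σ)|` for the outer involutions `σ`;
* `killO_Fi22`.
-/

set_option autoImplicit false

namespace Cfsg.Agent.H618.IF.FiTT

open Subgroup Cfsg Cfsg.Agent.H383.Cube Cfsg.Agent.H819.CubeGen Cfsg.Agent.H546.IFO
open Cfsg.Agent.H833.Flip (flipA flipA_gen flipA_flipA)
open Cfsg.Agent.Fischer.Fi22PtsRep (gen gen_sq)
open Cfsg.Agent.H836.EightPts (Cs mem_Cs)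

/-- orbit and stabiliser for conjugation -/
theorem card_orbit_eq {K : Type*} [Group K] (M : Subgroup K) (c : K) (S : Set K) (h : ∀ m ∈ M, m * c * m⁻¹ ∈ S)
    (ht : ∀ s ∈ S, ∃ m ∈ M, m * c * m⁻¹ = s) :
    Nat.card ↥M = S.ncard * Nat.card ↥(M ⊓ centralizer ({c} : Set K)) := by
  let act : MulAction ↥M K := MulAction.compHom K ((MulAut.conj : K →* MulAut K).comp M.subtype)
  have hs : ∀ (m : ↥M) (x : K), m • x = (m : K) * x * (m : K)⁻¹ := fun m x => rfl
  have h1 := Nat.card_congr (MulAction.orbitProdStabilizerEquivGroup ↥M c)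
  have h2 : MulAction.orbit ↥M c = S := by
    ext s
    constructor
    · rintro ⟨m, rfl⟩
      exact h m m.2
    · intro hs'
      obtain ⟨m, hm, hms⟩ := ht s hs'
      exact ⟨⟨m, hm⟩, hms⟩
  have h3 : MulAction.stabilizer ↥M c = (M ⊓ centralizer ({c} : Set K)).subgroupOf M := by
    ext m
    rw [MulAction.mem_stabilizer_iff, mem_subgroupOf, hs]
    constructor
    · intro hm
      exact ⟨m.2, mem_centralizer_singleton_iff.2 (mul_inv_eq_iff_eq_mul.1 hm)⟩
    · rintro ⟨-, hm⟩
      exact mul_inv_eq_iff_eq_mul.2 (mem_centralizer_singleton_iff.1 hm)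
  rw [Nat.card_prod, h3, Nat.card_congr (subgroupOfEquivOfLe inf_le_left).toEquiv, h2, Nat.card_coe_set_eq] at h1
  exact h1.symm

theorem card_d : Nat.card ↥(Cs ⊓ centralizer ({gen .d} : Set Cfsg.Spor.Fi22)) = 2903040 := by
  have hdT : gen .d ∈ Cfsg.Agent.R01.Fi22Facts.T := Cfsg.Agent.R01.Fi22Facts.gen_mem .d
  have hdC : gen .d ∈ Cs := Cfsg.Agent.H836.EightMain.d_mem
  have h := card_orbit_eq Cs (gen .d) (Cfsg.Agent.R01.Fi22Facts.T ∩ (Cs : Set Cfsg.Spor.Fi22))
    (fun m hm => ⟨Cfsg.Agent.R08.AutT.tFacts.conj _ _ hdT, mul_mem (mul_mem hm hdC) (inv_mem hm)⟩)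
    (fun s hs => by
      obtain ⟨m, hm, h1⟩ := Cfsg.Agent.H836.EightMain.transitive hdT hdC hs.1 hs.2
      exact ⟨m, hm, h1⟩)
  rw [Cfsg.Agent.H836.EightMain.card_Cs, Cfsg.Agent.H836.EightMain.ncard_fixed] at h
  omega

/-- **`2 ^ 7` divides the order of the centraliser of an outer involution.** -/
theorem out_Fi22 : OutP Cfsg.Spor.Fi22 fun σ => 2 ^ 7 ∣ Nat.card (fix σ) := by
  intro σ hσ hout
  have := Cfsg.Agent.R01.Fi22Facts.finite
  have h := Cfsg.Agent.H830.OutInv22.outer_inv σ hσ (by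
    rintro ⟨g, hg⟩
    exact hout g hg.symm)
  rw [card_fix]
  rcases h with h | h | h <;> rw [card_fix_congr h, ← card_fix]
  · refine dvd_fix (B := Cs) (fun b hb => mem_Cs.1 hb) ?_
    rw [Cfsg.Agent.H836.EightMain.card_Cs]
    norm_num
  · refine dvd_fix (B := Cs ⊓ centralizer ({gen .d} : Set Cfsg.Spor.Fi22)) ?_ (by rw [card_d]; norm_num)
    rintro x ⟨hx1, hx2⟩
    replace hx2 := mem_centralizer_singleton_iff.1 hx2
    change flipA (gen .d * x * (gen .d)⁻¹) = x
    rw [← hx2, mul_inv_cancel_right]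
    exact hx1
  · refine dvd_fix (B := Cfsg.Agent.H833.SixPts.Ct) (fun x hx => Cfsg.Agent.H833.SixPts.mem_Ct.1 hx) ?_
    rw [Cfsg.Agent.H833.SixEnd.card_Ct]
    norm_num

/-- **`Fi22`, `|A|` odd.** -/
theorem killO_fi22 : Cfsg.Agent.H209.Fxy.KillO Cfsg.Spor.Fi22 := by
  have := Cfsg.Agent.R01.Fi22Facts.finite
  have I := Cfsg.Agent.H836.inv_of_iso (MulEquiv.refl Cfsg.Spor.Fi22)
  have C := I.ctx
  have := Cfsg.Agent.R01.Fi22Facts.isSimple
  refine killO_cube ?_ Cfsg.Agent.H383.Cube.FiTT.cube_fi22 out_Fi22 ?_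
  · obtain ⟨a, ha, b, hb, h⟩ : ∃ a ∈ Cfsg.Agent.KFacts.FiTT.TK (MulEquiv.refl Cfsg.Spor.Fi22), ∃ b ∈
        Cfsg.Agent.KFacts.FiTT.TK (MulEquiv.refl Cfsg.Spor.Fi22), a * b ≠ b * a := by
      obtain ⟨a, ha, -⟩ := C.mupos
      obtain ⟨b, hb, h⟩ : {e | e ∈ Cfsg.Agent.KFacts.FiTT.TK (MulEquiv.refl Cfsg.Spor.Fi22) ∧ a * e ≠ e * a}.Nonempty := by
        rw [← Set.ncard_pos, C.far ha]; norm_num
      exact ⟨a, ha, b, hb, h⟩
    exact ⟨a, b, h⟩
  · rw [C.card]
    norm_num

end Cfsg.Agent.H618.IF.FiTT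
end

-- part: H5/IFO/Num_mg
section
prune_inst 0x305005601c62020000002086010000000800050000008c0004010000000120000d00000001000003580201000000002002000080404000000400040000050000008000040000000002008e000100000000000000000000000000000000010000200000000
set_option linter.all false
open scoped Cfsg.Agent.FastGrp

-- part: H5/IFO/Ineq
section
/-!
# S5719, the graph automorphism of `PSL_n`, `PSU_n`, `n` odd: the inequalities (helper5)

`q_le_of` etc. : elementary estimates, no group theory.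
-/

set_option autoImplicit false

namespace Cfsg.Agent.H5.IFO

theorem four_pow_mul {q k : ℕ} (hq : 2 ≤ q) (hk : 2 ≤ k) : 3 * q ^ k ≤ 4 * (q ^ k - 1) := by
  have h1 : 4 ≤ q ^ k := by
    calc 4 = 2 ^ 2 := by norm_num
      _ ≤ q ^ 2 := Nat.pow_le_pow_left hq 2
      _ ≤ q ^ k := Nat.pow_le_pow_right (by omega) hk
  omega

/-- the factors of `|O⁺_{2m}(q)|` -/
theorem prod_even {q : ℕ} (hq : 2 ≤ q) (k : ℕ) :
    3 ^ k * q ^ (k * (k + 1)) ≤ 4 ^ k * ∏ i ∈ Finset.range k, (q ^ (2 * (i + 1)) - 1) := by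
  induction k with
  | zero => simp
  | succ k ih =>
    rw [Finset.prod_range_succ]
    have h1 := four_pow_mul hq (show 2 ≤ 2 * (k + 1) by omega)
    calc 3 ^ (k + 1) * q ^ ((k + 1) * (k + 1 + 1))
        = (3 ^ k * q ^ (k * (k + 1))) * (3 * q ^ (2 * (k + 1))) := by ring
      _ ≤ (4 ^ k * ∏ i ∈ Finset.range k, (q ^ (2 * (i + 1)) - 1)) * (4 * (q ^ (2 * (k + 1)) - 1)) :=
          Nat.mul_le_mul ih h1
      _ = _ := by ring

theorem card_plus_le {q m : ℕ} (hq : 2 ≤ q) (hm : 2 ≤ m) :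
    2 * 3 ^ m * q ^ (2 * m ^ 2 - m) ≤
      4 ^ m * (2 * q ^ (m * (m - 1)) * (q ^ m - 1) * ∏ i ∈ Finset.range (m - 1), (q ^ (2 * (i + 1)) - 1)) := by
  obtain ⟨k, rfl⟩ := Nat.exists_eq_add_of_le' (show 1 ≤ m by omega)
  rw [Nat.add_sub_cancel]
  have h1 := four_pow_mul hq hm
  have h2 := prod_even hq k
  have h3 : 2 * (k + 1) ^ 2 - (k + 1) = (k + 1) * k + (k + 1) + k * (k + 1) := by
    have : 2 * (k + 1) ^ 2 = ((k + 1) * k + (k + 1) + k * (k + 1)) + (k + 1) := by ring
    omega
  rw [h3]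
  calc 2 * 3 ^ (k + 1) * q ^ ((k + 1) * k + (k + 1) + k * (k + 1))
      = 2 * q ^ ((k + 1) * k) * ((3 * q ^ (k + 1)) * (3 ^ k * q ^ (k * (k + 1)))) := by ring
    _ ≤ 2 * q ^ ((k + 1) * k) * ((4 * (q ^ (k + 1) - 1)) * (4 ^ k * ∏ i ∈ Finset.range k, (q ^ (2 * (i + 1)) - 1))) :=
        Nat.mul_le_mul_left _ (Nat.mul_le_mul h1 h2)
    _ = _ := by ring

/-- `(q-1) ∏ (q^i - 1)` -/
theorem prod_psl {q : ℕ} (k : ℕ) :
    (q - 1) * ∏ i ∈ Finset.range k, (q ^ (i + 2) - 1) ≤ q ^ ((k + 1) * (k + 2) / 2) := by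
  induction k with
  | zero => simp only [_root_.Finset.range_zero, _root_.Finset.prod_empty, _root_.mul_one, _root_.zero_add, _root_.one_mul, _root_.Order.lt_two_iff, _root_.zero_le, _root_.Nat.div_self, _root_.pow_one, _root_.tsub_le_iff_right, _root_.le_add_iff_nonneg_right]
  | succ k ih =>
    rw [Finset.prod_range_succ, ← mul_assoc]
    calc _ ≤ q ^ ((k + 1) * (k + 2) / 2) * q ^ (k + 2) := Nat.mul_le_mul ih (Nat.sub_le _ _)
      _ = _ := by
        rw [← pow_add]
        congr 1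
        have : (k + 1 + 1) * (k + 1 + 2) = (k + 1) * (k + 2) + (k + 2) * 2 := by ring
        rw [this, Nat.add_mul_div_right _ _ (by norm_num)]

/-- `(q+1) ∏ (q^i - (-1)^i)` -/
theorem prod_psu {q : ℕ} (hq : 2 ≤ q) (k : ℕ) :
    (q + 1) * ∏ i ∈ Finset.range (2 * k + 1), (if Even i then q ^ (i + 2) - 1 else q ^ (i + 2) + 1) ≤
      2 ^ (k + 1) * q ^ ((k + 1) * (2 * k + 3)) := by
  have key : ∀ j : ℕ, 1 ≤ j → (q ^ j + 1) * (q ^ (j + 1) - 1) ≤ 2 * q ^ (2 * j + 1) := by
    intro j hj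
    have h1 : 1 ≤ q ^ j := Nat.one_le_pow _ _ (by omega)
    calc (q ^ j + 1) * (q ^ (j + 1) - 1) ≤ (2 * q ^ j) * q ^ (j + 1) := Nat.mul_le_mul (by omega) (Nat.sub_le _ _)
      _ = _ := by ring
  induction k with
  | zero =>
    have := key 1 (le_refl 1)
    simpa only [_root_.MulZeroClass.mul_zero, _root_.zero_add, _root_.Finset.range_one, _root_.Finset.prod_singleton, _root_.Even.zero, ↓ _root_.reduceIte, _root_.pow_one, _root_.one_mul, _root_.ge_iff_le, _root_.Nat.reduceAdd, _root_.mul_one] using this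
  | succ k ih =>
    rw [show 2 * (k + 1) + 1 = 2 * k + 1 + 1 + 1 by ring, Finset.prod_range_succ, Finset.prod_range_succ]
    have e1 : ¬ Even (2 * k + 1) := by
      rw [Nat.not_even_iff_odd]; exact ⟨k, rfl⟩
    have e2 : Even (2 * k + 1 + 1) := ⟨k + 1, by ring⟩
    rw [if_neg e1, if_pos e2]
    have h1 := key (2 * k + 1 + 2) (by omega)
    calc _ = ((q + 1) * ∏ i ∈ Finset.range (2 * k + 1), (if Even i then q ^ (i + 2) - 1 else q ^ (i + 2) + 1)) *
          ((q ^ (2 * k + 1 + 2) + 1) * (q ^ (2 * k + 1 + 2 + 1) - 1)) := by ring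
      _ ≤ (2 ^ (k + 1) * q ^ ((k + 1) * (2 * k + 3))) * (2 * q ^ (2 * (2 * k + 1 + 2) + 1)) := Nat.mul_le_mul ih h1
      _ = _ := by ring

/-- `m = 1` -/
theorem fin_one {q e f N : ℕ} (hq : 3 ≤ q) (he : e = 1 ∨ e = 3 ∧ 4 ≤ q) (hf : f ^ 6 < N)
    (hP : q * (q ^ 2 - 1) ≤ e * (3 * f)) (hN : N ≤ (q + 1) * (q ^ 3 * (q ^ 2 - 1))) : False := by
  obtain ⟨k, rfl⟩ := Nat.exists_eq_add_of_le' hq
  have e1 : (k + 3) ^ 2 - 1 = (k + 2) * (k + 4) := by
    have : (k + 3) ^ 2 = (k + 2) * (k + 4) + 1 := by ring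
    omega
  rw [e1] at hP hN
  have h1 : ((k + 3) * ((k + 2) * (k + 4))) ^ 6 ≤ (e * (3 * f)) ^ 6 := Nat.pow_le_pow_left hP 6
  have h2 : (e * (3 * f)) ^ 6 = (3 * e) ^ 6 * f ^ 6 := by ring
  have h3 : (3 * e) ^ 6 * f ^ 6 < (3 * e) ^ 6 * ((k + 4) * ((k + 3) ^ 3 * ((k + 2) * (k + 4)))) :=
    Nat.mul_lt_mul_of_pos_left (hf.trans_le hN) (by rcases he with h | h <;> [subst h; (rw [h.1])] <;> norm_num)
  have h4 : ((k + 3) ^ 3 * (k + 4) * ((k + 2) * (k + 4))) * ((k + 3) ^ 3 * (k + 2) * ((k + 2) * (k + 4)) ^ 4) <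
      ((k + 3) ^ 3 * (k + 4) * ((k + 2) * (k + 4))) * (3 * e) ^ 6 := by
    calc _ = ((k + 3) * ((k + 2) * (k + 4))) ^ 6 := by ring
      _ < (3 * e) ^ 6 * ((k + 4) * ((k + 3) ^ 3 * ((k + 2) * (k + 4)))) := by rw [← h2] at h3; omega
      _ = _ := by ring
  have h5 := Nat.lt_of_mul_lt_mul_left h4
  rcases he with h | ⟨h, h'⟩
  · subst h
    have : 3 ^ 3 * 2 * (2 * 4) ^ 4 ≤ (k + 3) ^ 3 * (k + 2) * ((k + 2) * (k + 4)) ^ 4 := by gcongr <;> omega
    norm_num at this h5
    omega
  · subst h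
    obtain ⟨j, rfl⟩ := Nat.exists_eq_add_of_le' (show 1 ≤ k by omega)
    have : 4 ^ 3 * 3 * (3 * 5) ^ 4 ≤ (j + 1 + 3) ^ 3 * (j + 1 + 2) * ((j + 1 + 2) * (j + 1 + 4)) ^ 4 := by gcongr <;> omega
    norm_num at this h5
    omega

/-- `m ≥ 2` -/
theorem fin_two {q e f N P m : ℕ} (hq : 2 ≤ q) (hm : 2 ≤ m) (hen : e ∣ 2 * m + 1) (he : m = 2 → e ≠ 1 → 4 ≤ q) (hf : f ^ 6 < N)
    (hP : P ≤ e * ((2 * m + 1) * f)) (hN : N ≤ 2 ^ m * q ^ (2 * (m * (2 * m + 1))))
    (hP2 : 2 * 3 ^ m * q ^ (2 * m ^ 2 - m) ≤ 4 ^ m * P) : False := by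
  have he0 : 0 < e := Nat.pos_of_dvd_of_pos hen (by omega)
  have h1 : (2 * 3 ^ m * q ^ (2 * m ^ 2 - m)) ^ 6 ≤ (4 ^ m * (e * ((2 * m + 1) * f))) ^ 6 :=
    Nat.pow_le_pow_left (hP2.trans (Nat.mul_le_mul_left _ hP)) 6
  have h2 : (4 ^ m * (e * ((2 * m + 1) * f))) ^ 6 = (4 ^ m * (e * (2 * m + 1))) ^ 6 * f ^ 6 := by ring
  have h3 : (4 ^ m * (e * (2 * m + 1))) ^ 6 * f ^ 6 <
      (4 ^ m * (e * (2 * m + 1))) ^ 6 * (2 ^ m * q ^ (2 * (m * (2 * m + 1)))) :=
    Nat.mul_lt_mul_of_pos_left (hf.trans_le hN) (by positivity)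
  have hmm : 2 * m ≤ m ^ 2 := by nlinarith only [hm]
  have e0 : (2 * m ^ 2 - m) * 6 = 2 * (m * (2 * m + 1)) + 8 * (m ^ 2 - m) := by
    have a1 : m * (2 * m + 1) = 2 * m ^ 2 + m := by ring
    (clear * - hmm a1; omega)
  have h4 : q ^ (2 * (m * (2 * m + 1))) * (64 * 3 ^ (6 * m) * q ^ (8 * (m ^ 2 - m))) <
      q ^ (2 * (m * (2 * m + 1))) * (2 ^ m * (4 ^ m * (e * (2 * m + 1))) ^ 6) := by
    calc _ = (2 * 3 ^ m * q ^ (2 * m ^ 2 - m)) ^ 6 := by
          rw [mul_pow, mul_pow, ← pow_mul, ← pow_mul, e0, pow_add]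
          ring
      _ < _ := by rw [← h2] at h3; exact h1.trans_lt h3
      _ = _ := by ring
  have h5 := Nat.lt_of_mul_lt_mul_left h4
  rcases Nat.lt_or_ge m 3 with hm3 | hm3
  · obtain rfl : m = 2 := by omega
    have h6 : e = 1 ∨ e = 5 := (Nat.dvd_prime (by norm_num)).1 (by simpa using hen)
    rcases h6 with rfl | rfl
    · have : 64 * 3 ^ (6 * 2) * 2 ^ (8 * (2 ^ 2 - 2)) ≤ 64 * 3 ^ (6 * 2) * q ^ (8 * (2 ^ 2 - 2)) :=
        Nat.mul_le_mul_left _ (Nat.pow_le_pow_left hq _)
      norm_num only [] at this h5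
      omega
    · have h4 := he rfl (by norm_num)
      have : 64 * 3 ^ (6 * 2) * 4 ^ (8 * (2 ^ 2 - 2)) ≤ 64 * 3 ^ (6 * 2) * q ^ (8 * (2 ^ 2 - 2)) :=
        Nat.mul_le_mul_left _ (Nat.pow_le_pow_left h4 _)
      norm_num only [] at this h5
      omega
  · have h6 : 2 * m + 1 ≤ 2 ^ m := by
      clear * - hm3
      induction m, hm3 using Nat.le_induction with
      | base => norm_num
      | succ k hk ih =>
        rw [pow_succ]
        omega
    have h7 : e ≤ 2 ^ m := (Nat.le_of_dvd (by omega) hen).trans h6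
    have h8 : 2 ^ m * (4 ^ m * (e * (2 * m + 1))) ^ 6 ≤ 2 ^ (25 * m) := by
      calc _ ≤ 2 ^ m * (4 ^ m * (2 ^ m * 2 ^ m)) ^ 6 :=
            Nat.mul_le_mul_left _ (Nat.pow_le_pow_left (Nat.mul_le_mul_left _ (Nat.mul_le_mul h7 h6)) 6)
        _ = _ := by
          rw [show (4 : ℕ) = 2 ^ 2 by norm_num, ← pow_mul, ← pow_add, ← pow_add, ← pow_mul, ← pow_add]
          congr 1
          ring
    have h9 : 2 ^ (25 * m) ≤ 64 * 3 ^ (6 * m) * q ^ (8 * (m ^ 2 - m)) := by
      calc 2 ^ (25 * m) ≤ 2 ^ (6 + 9 * m + 8 * (m ^ 2 - m)) := by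
            apply Nat.pow_le_pow_right (by norm_num)
            have a1 : 3 * m ≤ m ^ 2 := by nlinarith only [hm3]
            omega
        _ = 64 * (2 ^ 9) ^ m * 2 ^ (8 * (m ^ 2 - m)) := by
            rw [pow_add, pow_add, ← pow_mul]
            norm_num
        _ ≤ 64 * (3 ^ 6) ^ m * q ^ (8 * (m ^ 2 - m)) :=
            Nat.mul_le_mul (Nat.mul_le_mul_left _ (Nat.pow_le_pow_left (by norm_num) _)) (Nat.pow_le_pow_left hq _)
        _ = _ := by rw [← pow_mul]
    omega

end Cfsg.Agent.H5.IFO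
end

-- part: H5/IFO/NumBase
section
/-!
# S5719, the graph automorphism of `PSL_n`, `PSU_n`, `n` odd: the group part (helper5)

* `cent_le` : `|I ⊓ C(σ)| ≤ e n fx` if `|C_A(σ)| ≤ n` and `|I : Inn T| = e`;
* `card_pgo_one`, `card_pgo` : lower bounds of `|PGO_{2m+1}(q)|`.
-/

set_option autoImplicit false

namespace Cfsg.Agent.H5.IFO

open Subgroup Cfsg Matrix Cfsg.Agent.H209.Fxy Cfsg.Agent.H163.PG

theorem cent_le {T : Type*} [Group T] [Finite T] (hZ : center T = ⊥) {A : Subgroup T} {Γ : Subgroup (MulAut T)}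
    (h : IF A Γ) {σ : MulAut T} (hσ : σ ∈ Γ) (ho : orderOf σ = 2) {I : Subgroup (MulAut T)} (hI : Inn T ≤ I) {e n : ℕ}
    (hcI : Nat.card I = e * Nat.card T) (hup : Nat.card {a // a ∈ A ∧ σ a = a} ≤ n) :
    Nat.card ↥(I ⊓ centralizer {σ}) ≤ e * (n * fx A σ) ∧ fx A σ ^ 6 < A.index := by
  refine ⟨?_, h.small σ hσ ho⟩
  have hfin : Finite (MulAut T) := inferInstance
  let B : Subgroup T :=
    { carrier := {t | σ t = t}
      one_mem' := map_one σ
      mul_mem' := fun {a b} ha hb => by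
        show σ (a * b) = a * b
        rw [map_mul, show σ a = a from ha, show σ b = b from hb]
      inv_mem' := fun {a} ha => by
        show σ a⁻¹ = a⁻¹
        rw [map_inv, show σ a = a from ha] }
  have hB : ∀ b ∈ B, σ b = b := fun b hb => hb
  -- |B| ≤ n fx
  have h1 : Nat.card B ≤ n * fx A σ := by
    have h2 : Nat.card (A.subgroupOf B) * (A.subgroupOf B).index = Nat.card B := (A.subgroupOf B).card_mul_index
    have h3 : Nat.card (A.subgroupOf B) ≤ Nat.card {a // a ∈ A ∧ σ a = a} := by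
      refine Nat.card_le_card_of_injective (fun x : A.subgroupOf B => ⟨((x : B) : T), mem_subgroupOf.1 x.2, x.1.2⟩) ?_
      intro a b hab
      have h3 := congrArg Subtype.val hab
      exact Subtype.ext (Subtype.ext h3)
    rw [← h2]
    exact Nat.mul_le_mul (h3.trans hup) (H371.IFx.relIndex_le_fx A hB)
  -- the inner part of the centraliser
  set C := I ⊓ centralizer {σ} with hC
  have h4 : Nat.card ((Inn T).subgroupOf C) ≤ Nat.card B := by
    refine Nat.card_le_card_of_injective (fun x : (Inn T).subgroupOf C =>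
      (⟨(mem_subgroupOf.1 x.2).choose, ?_⟩ : B)) ?_
    · have hx := (mem_subgroupOf.1 x.2).choose_spec
      set t := (mem_subgroupOf.1 x.2).choose
      have h5 : MulAut.conj t ∈ centralizer ({σ} : Set (MulAut T)) := by
        rw [hx]
        exact (x : C).2.2
      rw [mem_centralizer_singleton_iff] at h5
      show σ t = t
      apply conj_injective hZ
      have h6 : σ * MulAut.conj t * σ⁻¹ = MulAut.conj (σ t) := by
        ext y
        simp only [MulAut.mul_apply, MulAut.conj_apply, map_mul, map_inv, _root_.MulAut.mul_apply, _root_.MulAut.inv_apply, _root_.MulAut.conj_apply, _root_.map_mul, _root_.MulEquiv.apply_symm_apply, _root_.map_inv]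
      rw [← h6, ← h5, mul_inv_cancel_right]
    · intro a b hab
      have ha := (mem_subgroupOf.1 a.2).choose_spec
      have hb := (mem_subgroupOf.1 b.2).choose_spec
      have h5 := congrArg Subtype.val hab
      simp only at h5
      apply Subtype.ext
      apply Subtype.ext
      rw [← ha, ← hb, h5]
  have h5 : ((Inn T).subgroupOf C).index ≤ e := by
    have h6 : (Inn T).relIndex C ≤ (Inn T).relIndex I :=
      relIndex_le_of_le_right inf_le_left (by
        have : (Inn T).relIndex I ∣ Nat.card I := relIndex_dvd_card _ _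
        intro h0
        rw [h0, zero_dvd_iff] at this
        exact Nat.card_pos.ne' this)
    have h7 : (Inn T).relIndex I = e := by
      have h8 := card_A hZ hI
      rw [hcI] at h8
      exact (Nat.eq_of_mul_eq_mul_right Nat.card_pos h8).symm
    rw [h7] at h6
    exact h6
  rw [← ((Inn T).subgroupOf C).card_mul_index, mul_comm e]
  exact Nat.mul_le_mul (h4.trans h1) h5

section

universe u

variable {F : Type u} [Field F]

/-- a group of similarities with few scalars -/
theorem card_le_projQuot {ι : Type} [Fintype ι] [DecidableEq ι] [Finite F] {H : Subgroup (GL ι F)} {K : Type*} [Group K] {k : ℕ}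
    [NeZero k] (f : K →* H) (hf : Function.Injective f)
    (hc : ∀ (x : K) (c : Fˣ), ((f x : GL ι F) : Matrix ι ι F) = (c : F) • (1 : Matrix ι ι F) → c ^ k = 1) :
    Nat.card K ≤ k * Nat.card (projQuot H) := by
  have hfin : Finite H := Subtype.finite
  let g : K →* projQuot H := (QuotientGroup.mk' _).comp f
  have h1 : ∀ x : K, x ∈ g.ker → ∃ c : Fˣ, ((f x : GL ι F) : Matrix ι ι F) = (c : F) • (1 : Matrix ι ι F) := by
    intro x hx
    have h2 : f x ∈ (Geo.scalars ι F).subgroupOf H := (QuotientGroup.eq_one_iff _).1 (MonoidHom.mem_ker.1 hx)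
    rw [mem_subgroupOf, Geo.mem_scalars_iff] at h2
    exact h2
  have h3 : Nat.card g.ker ≤ k := by
    refine le_trans (Nat.card_le_card_of_injective (fun x : g.ker => (⟨(h1 x x.2).choose,
      hc x _ (h1 x x.2).choose_spec⟩ : rootsOfUnity k F)) ?_) (card_rootsOfUnity F k)
    intro a b hab
    have h4 := congrArg Subtype.val hab
    simp only at h4
    have ha := (h1 a a.2).choose_spec
    have hb := (h1 b b.2).choose_spec
    rw [h4, ← hb] at ha
    exact Subtype.ext (hf (Subtype.ext (Units.ext ha)))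
  have h2 : Nat.card g.ker * Nat.card g.range = Nat.card K := by
    rw [← index_ker, card_mul_index]
  rw [← h2]
  exact Nat.mul_le_mul h3
    (Nat.card_le_card_of_injective _ (Subtype.val_injective : Function.Injective (Subtype.val : g.range → projQuot H)))

/-- `m = 1` -/
theorem card_pgo_one [Fintype F] {q : ℕ} (hF : Fintype.card F = q) :
    q * (q ^ 2 - 1) ≤ Nat.card (PGO F (quadFormOdd 1 F)) := by
  classical
  have hfin : Finite (PGO F (quadFormOdd 1 F)) := Quotient.finite _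
  have hq : 2 ≤ q := hF ▸ Fintype.one_lt_card
  obtain ⟨p, hc, f, hp, hpf⟩ := FiniteField.card' F
  rcases Nat.even_or_odd q with hev | hodd
  · have h2 : p = 2 := by
      have h3 : 2 ∣ p ^ (f : ℕ) := by rw [← hpf, hF]; exact hev.two_dvd
      exact ((Nat.prime_dvd_prime_iff_eq Nat.prime_two hp).1 (Nat.prime_two.dvd_of_dvd_pow h3)).symm
    subst h2
    have h6 := Nat.le_of_dvd Nat.card_pos (H245.RankOneOrth.card_dvd (F := F))
    refine le_trans (le_of_eq ?_) h6
    have h7 := Cfsg.Agent.ClassicalGeometry.PSL2Basic.card_SL_mul (Fin 2) F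
    rw [Matrix.card_GL_field, hF] at h7
    apply Nat.eq_of_mul_eq_mul_right (show 0 < q - 1 by omega)
    rw [h7, Fin.prod_univ_two]
    obtain ⟨k, rfl⟩ := Nat.exists_eq_add_of_le' hq
    have e1 : (k + 2) ^ 2 - 1 = (k + 1) * (k + 3) := by
      have : (k + 2) ^ 2 = (k + 1) * (k + 3) + 1 := by ring
      omega
    have e2 : (k + 2) ^ 2 - (k + 2) = (k + 1) * (k + 2) := by
      have : (k + 2) ^ 2 = (k + 1) * (k + 2) + (k + 2) := by ring
      omega
    simp only [Fin.val_zero, Fin.val_one, pow_zero, pow_one]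
    rw [e1, e2, show k + 2 - 1 = k + 1 by omega]
    ring
  · have h1 := S0286.result hF hodd 1
    have hle : isometryGroup F (quadFormOdd 1 F) ≤ Geo.quadSimilarityGroup (F := F) (quadFormOdd 1 F) := by
      intro g hg
      refine ⟨1, fun v => ?_⟩
      rw [Units.val_one, one_mul]
      exact hg v v
    have h2 := card_le_projQuot (k := 2) (Subgroup.inclusion hle) (Subgroup.inclusion_injective hle) (by
      intro x c hx
      have h3 := x.2 (fun i => if i = Sum.inl () then 1 else 0) 0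
      have h5 : (((Subgroup.inclusion hle x : Geo.quadSimilarityGroup (F := F) (quadFormOdd 1 F)) :
        GL (Unit ⊕ (Fin 1 ⊕ Fin 1)) F) : Matrix (Unit ⊕ (Fin 1 ⊕ Fin 1)) (Unit ⊕ (Fin 1 ⊕ Fin 1)) F) =
        ((x : GL (Unit ⊕ (Fin 1 ⊕ Fin 1)) F) : Matrix (Unit ⊕ (Fin 1 ⊕ Fin 1)) (Unit ⊕ (Fin 1 ⊕ Fin 1)) F) := rfl
      rw [h5] at hx
      have h4 : (Units.coeHom (Matrix (Unit ⊕ (Fin 1 ⊕ Fin 1)) (Unit ⊕ (Fin 1 ⊕ Fin 1)) F))
        (x : GL (Unit ⊕ (Fin 1 ⊕ Fin 1)) F) = ((x : GL (Unit ⊕ (Fin 1 ⊕ Fin 1)) F) :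
        Matrix (Unit ⊕ (Fin 1 ⊕ Fin 1)) (Unit ⊕ (Fin 1 ⊕ Fin 1)) F) := rfl
      rw [h4, hx, Matrix.smul_mulVec, Matrix.one_mulVec] at h3
      simp only [quadFormOdd, _root_.Cfsg.quadFormOdd, _root_.Pi.smul_apply, ↓ _root_.reduceIte, _root_.smul_eq_mul, _root_.mul_one, _root_.Finset.univ_unique, _root_.Fin.default_eq_zero, _root_.Fin.isValue, _root_.reduceCtorEq, _root_.MulZeroClass.mul_zero, _root_.Finset.sum_const_zero, _root_.add_zero, _root_.one_pow, _root_.sq_eq_one_iff, _root_.Units.val_eq_one, _root_.Units.val_eq_neg_one] at h3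
      rcases h3 with h3 | h3 <;> rw [h3] <;> simp only [_root_.one_pow, _root_.even_two, _root_.Even.neg_pow])
    rw [h1, Finset.prod_range_one, zero_add, mul_one, one_pow, pow_one, mul_assoc] at h2
    exact Nat.le_of_mul_le_mul_left h2 two_pos

/-- `1 ⊕ g` -/
def oneSum {m : ℕ} : GL (Fin m ⊕ Fin m) F →* GL (Unit ⊕ (Fin m ⊕ Fin m)) F :=
  MonoidHom.toHomUnits
    { toFun := fun g => Matrix.fromBlocks (1 : Matrix Unit Unit F) 0 0 (g : Matrix (Fin m ⊕ Fin m) (Fin m ⊕ Fin m) F)
      map_one' := by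
        rw [Units.val_one, Matrix.fromBlocks_one]
      map_mul' := fun g h => by
        rw [Matrix.fromBlocks_multiply]
        simp }

theorem coe_oneSum {m : ℕ} (g : GL (Fin m ⊕ Fin m) F) : ((oneSum g : GL (Unit ⊕ (Fin m ⊕ Fin m)) F) : Matrix _ _ F) =
    Matrix.fromBlocks (1 : Matrix Unit Unit F) 0 0 (g : Matrix (Fin m ⊕ Fin m) (Fin m ⊕ Fin m) F) := rfl

theorem card_pgo [Fintype F] {m : ℕ} :
    Nat.card (isometryGroup F (quadFormPlus m F)) ≤ Nat.card (PGO F (quadFormOdd m F)) := by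
  classical
  have hmem : ∀ g : isometryGroup F (quadFormPlus m F), oneSum (g : GL (Fin m ⊕ Fin m) F) ∈
      Geo.quadSimilarityGroup (F := F) (quadFormOdd m F) := by
    intro g
    refine ⟨1, fun v => ?_⟩
    rw [Units.val_one, one_mul, coe_oneSum]
    have h1 : ∀ w : Fin m ⊕ Fin m → F, quadFormPlus m F (((g : GL (Fin m ⊕ Fin m) F) : Matrix _ _ F) *ᵥ w) = quadFormPlus m F w :=
      fun w => g.2 w w
    have h2 : ∀ w : Unit ⊕ (Fin m ⊕ Fin m) → F, quadFormOdd m F w = w (Sum.inl ()) ^ 2 + quadFormPlus m F (fun i => w (Sum.inr i)) :=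
      fun w => rfl
    rw [h2, h2 v, Matrix.fromBlocks_mulVec]
    simp only [Sum.elim_inl, Sum.elim_inr, Matrix.one_mulVec, Matrix.zero_mulVec, add_zero, zero_add]
    congr 1
    exact h1 _
  let f : isometryGroup F (quadFormPlus m F) →* Geo.quadSimilarityGroup (F := F) (quadFormOdd m F) :=
    (oneSum.comp (isometryGroup F (quadFormPlus m F)).subtype).codRestrict _ hmem
  have h3 := card_le_projQuot (k := 1) f (by
    intro a b hab
    have h4 : oneSum (a : GL (Fin m ⊕ Fin m) F) = oneSum (b : GL (Fin m ⊕ Fin m) F) := congrArg Subtype.val hab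
    have h5 := congrArg Units.val h4
    rw [coe_oneSum, coe_oneSum] at h5
    exact Subtype.ext (Units.ext (Matrix.fromBlocks_inj.1 h5).2.2.2)) (by
    intro x c hx
    have h4 := congrFun (congrFun hx (Sum.inl ())) (Sum.inl ())
    have h5 : (((f x : Geo.quadSimilarityGroup (F := F) (quadFormOdd m F)) : GL (Unit ⊕ (Fin m ⊕ Fin m)) F) :
        Matrix (Unit ⊕ (Fin m ⊕ Fin m)) (Unit ⊕ (Fin m ⊕ Fin m)) F) =
      Matrix.fromBlocks (1 : Matrix Unit Unit F) 0 0 ((x : GL (Fin m ⊕ Fin m) F) : Matrix (Fin m ⊕ Fin m) (Fin m ⊕ Fin m) F) :=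
      rfl
    rw [h5] at h4
    simp at h4
    rw [pow_one]
    apply Units.ext
    rw [← h4, Units.val_one])
  rw [one_mul] at h3
  exact h3

end

end Cfsg.Agent.H5.IFO
end

-- part: H5/IFO/Num
section
/-!
# S5719, the graph automorphism of `PSL_n`, `PSU_n`, `n` odd (helper5)

`num_graph`, `num_U` : the numerical contradictions for a point stabiliser of odd order containing a Singer cycle.
-/

set_option autoImplicit false

namespace Cfsg.Agent.H5.IFO

open Subgroup Cfsg Matrix Cfsg.Agent.H209.Fxy Cfsg.Agent.H163.PG Cfsg.Agent.H242.StrP.FC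

universe u

theorem center_bot_of_simple {T : Type*} [Group T] [hs : IsSimpleGroup T] (hn : ¬ IsMulCommutative T) : center T = ⊥ := by
  rcases (inferInstance : (center T).Normal).eq_bot_or_eq_top with h | h
  · exact h
  · exfalso
    apply hn
    refine ⟨⟨fun a b => ?_⟩⟩
    have hb : b ∈ center T := by rw [h]; exact mem_top _
    exact mem_center_iff.1 hb a

/-- the common end -/
theorem fin_all {n m q e f N P : ℕ} (hn : 3 ≤ n) (hnm : n = 2 * m + 1) (hq : 2 ≤ q) (he : e ∣ n) (he4 : n ≤ 5 → e ≠ 1 → 4 ≤ q ∨ n = 3 ∧ q = 2)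
    (hbig : 729 < N) (hf : f ^ 6 < N) (hP : P ≤ e * (n * f))
    (hN1 : n = 3 → N ≤ (q + 1) * (q ^ 3 * (q ^ 2 - 1))) (hN : N ≤ 2 ^ m * q ^ (2 * (m * (2 * m + 1))))
    (hP1 : n = 3 → q * (q ^ 2 - 1) ≤ P) (hP2 : 2 ≤ m → 2 * 3 ^ m * q ^ (2 * m ^ 2 - m) ≤ 4 ^ m * P) : False := by
  rcases Nat.lt_or_ge m 2 with hm | hm
  · obtain rfl : m = 1 := by omega
    obtain rfl : n = 3 := by omega
    have h1 := hN1 rfl
    have hq3 : 3 ≤ q := by
      by_contra hcon
      obtain rfl : q = 2 := by omega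
      norm_num at h1
      omega
    refine fin_one hq3 ?_ hf ((hP1 rfl).trans hP) h1
    by_cases h2 : e = 1
    · exact Or.inl h2
    · refine Or.inr ⟨((Nat.dvd_prime Nat.prime_three).1 he).resolve_left h2, ?_⟩
      rcases he4 (by omega) h2 with h3 | h3
      · exact h3
      · omega
  · rw [hnm] at hP he
    refine fin_two hq hm he ?_ hf hP hN (hP2 hm)
    intro hm2 h
    rcases he4 (by omega) h with h1 | h1
    · exact h1
    · omega

/-- bounds of `PGO` -/
theorem pgo_bounds {F : Type u} [Field F] [Fintype F] {q : ℕ} (hF : Fintype.card F = q) {n m : ℕ} (hnm : n = 2 * m + 1) :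
    (n = 3 → q * (q ^ 2 - 1) ≤ Nat.card (PGO F (quadFormOdd m F))) ∧
    (2 ≤ m → 2 * 3 ^ m * q ^ (2 * m ^ 2 - m) ≤ 4 ^ m * Nat.card (PGO F (quadFormOdd m F))) := by
  have hq : 2 ≤ q := hF ▸ Fintype.one_lt_card
  constructor
  · intro h
    obtain rfl : m = 1 := by omega
    exact card_pgo_one hF
  · intro hm
    refine (card_plus_le hq hm).trans (Nat.mul_le_mul_left _ ?_)
    rw [← S0287.result hF m (by omega)]
    exact card_pgo

theorem num_graph {F : Type*} [Field F] [Fintype F] {n : ℕ} (hn : 3 ≤ n) (hodd : Odd n)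
    {A : Subgroup (ProjectiveSpecialLinearGroup (Fin n) F)} {Γ : Subgroup (MulAut (ProjectiveSpecialLinearGroup (Fin n) F))}
    (h : IF A Γ) (_hA : Odd (Nat.card A)) {σ : MulAut (ProjectiveSpecialLinearGroup (Fin n) F)} (hσ : σ ∈ Γ)
    (ho : orderOf σ = 2) (hcl : IsGraphAutClassPSL σ)
    (hlow : Fintype.card F ^ n - 1 ≤ (Fintype.card F - 1) * n.gcd (Fintype.card F - 1) * Nat.card A)
    (hup : Nat.card {a // a ∈ A ∧ σ a = a} ≤ n) : False := by
  classical
  have hfin : Finite (ProjectiveSpecialLinearGroup (Fin n) F) := Quotient.finite _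
  obtain ⟨m, hnm⟩ := hodd
  obtain ⟨p, -, k, hp, hpk⟩ := FiniteField.card' F
  have : Fact p.Prime := ⟨hp⟩
  set q := Fintype.card F with hqdef
  have hq : 2 ≤ q := Fintype.one_lt_card
  have hs : IsSimpleGroup (ProjectiveSpecialLinearGroup (Fin n) F) := simple_psl (by omega) (fun h => by omega)
  have hZ : center (ProjectiveSpecialLinearGroup (Fin n) F) = ⊥ := center_bot_of_simple (not_comm_psl hs)
  obtain ⟨e1⟩ := (S2699.result hpk k.pos hn hnm σ σ hcl ho hcl ho).1
  obtain ⟨hc, hf⟩ := cent_le hZ h hσ ho inn_le_psl (card_inndiag (F := F) (show 2 ≤ n by omega)) hup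
  rw [Nat.card_congr e1.toEquiv] at hc
  obtain ⟨b1, b2⟩ := pgo_bounds (F := F) hqdef.symm hnm
  -- the index
  have hcard := H277.ClsPsl.card_psl (F := F) hqdef.symm (show 2 ≤ n by omega)
  rw [← A.card_mul_index, show n - 1 = n - 2 + 1 by omega, Finset.prod_range_succ, show n - 2 + 2 = n by omega] at hcard
  have hidx : A.index ≤ (q - 1) * (q ^ (n * (n - 1) / 2) * ∏ i ∈ Finset.range (n - 2), (q ^ (i + 2) - 1)) := by
    have hpos : 0 < q ^ n - 1 := by
      have : 2 ^ 1 ≤ q ^ n := (Nat.pow_le_pow_left hq 1).trans (Nat.pow_le_pow_right (by omega) (by omega))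
      (clear * - hn hnm b1 b2 this; omega)
    apply Nat.le_of_mul_le_mul_left _ hpos
    calc (q ^ n - 1) * A.index ≤ ((q - 1) * n.gcd (q - 1) * Nat.card A) * A.index := Nat.mul_le_mul_right _ hlow
      _ = (q - 1) * (n.gcd (q - 1) * (Nat.card A * A.index)) := by ring
      _ = _ := by rw [show n * (n - 2 + 1) = n * (n - 1) by rw [show n - 2 + 1 = n - 1 by omega]] at hcard; rw [hcard]; ring
  refine fin_all hn hnm hq (Nat.gcd_dvd_left n (q - 1)) ?_ h.big hf hc ?_ ?_ b1 b2
  · intro _ he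
    left
    by_contra hcon
    apply he
    have h4 : q = 2 ∨ q = 3 := by omega
    rcases h4 with h4 | h4
    · rw [h4]; simp
    · rw [h4, hnm]
      have : Nat.Coprime (2 * m + 1) 2 := by
        rw [Nat.coprime_two_right]
        exact ⟨m, rfl⟩
      exact this
  · intro h3
    subst h3
    norm_num only [_root_.Finset.range_one, _root_.Finset.prod_singleton] at hidx
    exact hidx.trans (Nat.mul_le_mul_right _ (by omega))
  · refine hidx.trans ?_
    have h1 := prod_psl (q := q) (n - 2)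
    have h2 : (n - 2 + 1) * (n - 2 + 2) / 2 = m * (2 * m + 1) := by
      rw [show n - 2 + 1 = 2 * m by omega, show n - 2 + 2 = 2 * m + 1 by omega, mul_assoc, Nat.mul_div_cancel_left _ two_pos]
    have h3 : n * (n - 1) / 2 = m * (2 * m + 1) := by
      rw [show n - 1 = 2 * m by omega, hnm, show (2 * m + 1) * (2 * m) = 2 * (m * (2 * m + 1)) by ring,
        Nat.mul_div_cancel_left _ two_pos]
    rw [h2] at h1
    rw [h3]
    calc _ = q ^ (m * (2 * m + 1)) * ((q - 1) * ∏ i ∈ Finset.range (n - 2), (q ^ (i + 2) - 1)) := by ring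
      _ ≤ q ^ (m * (2 * m + 1)) * q ^ (m * (2 * m + 1)) := Nat.mul_le_mul_left _ h1
      _ = 1 * q ^ (2 * (m * (2 * m + 1))) := by rw [two_mul (m * (2 * m + 1)), pow_add, one_mul]
      _ ≤ _ := Nat.mul_le_mul_right _ Nat.one_le_two_pow

theorem num_U {F : Type*} [Field F] [Fintype F] {n q : ℕ} (hF : Fintype.card F = q ^ 2) (hn : 3 ≤ n) (hodd : Odd n)
    {A : Subgroup (PSU n F q)} {Γ : Subgroup (MulAut (PSU n F q))}
    (h : IF A Γ) (_hA : Odd (Nat.card A)) {σ : MulAut (PSU n F q)} (hσ : σ ∈ Γ)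
    (ho : orderOf σ = 2) (hcl : IsGraphAutClassPSU σ)
    (hlow : q ^ n + 1 ≤ (q + 1) * n.gcd (q + 1) * Nat.card A)
    (hup : Nat.card {a // a ∈ A ∧ σ a = a} ≤ n) : False := by
  classical
  have hfin : Finite (PSU n F q) := finite_psu
  obtain ⟨m, hnm⟩ := hodd
  obtain ⟨p, -, k, hp, hpk⟩ := FiniteField.card' F
  have : Fact p.Prime := ⟨hp⟩
  have hq : 2 ≤ q := by
    by_contra hcon
    have h1 : 1 < q ^ 2 := hF ▸ Fintype.one_lt_card
    have h2 : q ^ 2 ≤ 1 ^ 2 := Nat.pow_le_pow_left (by omega) 2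
    omega
  obtain ⟨j, hj, hqj⟩ : ∃ j : ℕ, 1 ≤ j ∧ q = p ^ j := by
    obtain ⟨j, -, hj⟩ := (Nat.dvd_prime_pow hp).1 (show q ∣ p ^ (k : ℕ) by
      rw [← hpk, hF]; exact dvd_pow_self _ two_ne_zero)
    refine ⟨j, ?_, hj⟩
    rcases j with _ | j
    · rw [pow_zero] at hj
      omega
    · omega
  -- the index
  have hcard := H277.ClsPsu.card_psu hF hn
  rw [← A.card_mul_index, show n - 1 = n - 2 + 1 by omega, Finset.prod_range_succ, show n - 2 + 2 = n by omega,
    if_neg (by rw [Nat.not_even_iff_odd, hnm]; exact ⟨m - 1, by omega⟩)] at hcard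
  have hidx : A.index ≤ (q + 1) * (q ^ (n * (n - 1) / 2) *
      ∏ i ∈ Finset.range (n - 2), (if Even i then q ^ (i + 2) - 1 else q ^ (i + 2) + 1)) := by
    apply Nat.le_of_mul_le_mul_left _ (show 0 < q ^ n + 1 by omega)
    calc (q ^ n + 1) * A.index ≤ ((q + 1) * n.gcd (q + 1) * Nat.card A) * A.index := Nat.mul_le_mul_right _ hlow
      _ = (q + 1) * (n.gcd (q + 1) * (Nat.card A * A.index)) := by ring
      _ = _ := by rw [show n * (n - 2 + 1) = n * (n - 1) by rw [show n - 2 + 1 = n - 1 by omega]] at hcard; rw [hcard]; ring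
  have hidx3 : n = 3 → A.index ≤ (q + 1) * (q ^ 3 * (q ^ 2 - 1)) := by
    intro h3
    subst h3
    norm_num only [_root_.Finset.range_one, _root_.Finset.prod_singleton, _root_.ite_true] at hidx
    exact hidx
  by_cases h32 : n = 3 ∧ q = 2
  · have h1 := hidx3 h32.1
    have h2 := h.big
    have h3 : (q + 1) * (q ^ 3 * (q ^ 2 - 1)) = 72 := by rw [h32.2]; norm_num
    omega
  have hs : IsSimpleGroup (PSU n F q) := simple_psu hF hn h32
  have hZ : center (PSU n F q) = ⊥ := center_bot_of_simple (not_comm_psu hs)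
  let _ : Fintype (GaloisField p j) := Fintype.ofFinite _
  have hF₀ : Fintype.card (GaloisField p j) = q := by
    rw [← Nat.card_eq_fintype_card, GaloisField.card p j (by omega), hqj]
  obtain ⟨e1⟩ := (S2706.result hqj hj hF hn h32 hnm (GaloisField p j) hF₀ σ σ hcl ho hcl ho).1
  obtain ⟨hc, hf⟩ := cent_le hZ h hσ ho (H169.UAut.inn_le_inndiag hF) (card_inndiag_psu hF hn hZ) hup
  rw [Nat.card_congr e1.toEquiv] at hc
  obtain ⟨b1, b2⟩ := pgo_bounds (F := GaloisField p j) hF₀ hnm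
  refine fin_all hn hnm hq (Nat.gcd_dvd_left n (q + 1)) ?_ h.big hf hc hidx3 ?_ b1 b2
  · intro hn5 he
    by_contra hcon
    rw [not_or] at hcon
    have h4 : q = 2 ∨ q = 3 := by omega
    have h5 : n = 3 ∨ n = 5 := by omega
    apply he
    rcases h4 with h4 | h4 <;> rcases h5 with h5 | h5
    · exact absurd ⟨h5, h4⟩ h32
    · rw [h4, h5]
      decide
    · rw [h4, h5]
      decide
    · rw [h4, h5]
      decide
  · refine hidx.trans ?_
    have h1 := prod_psu hq (m - 1)
    have h3 : n * (n - 1) / 2 = m * (2 * m + 1) := by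
      rw [show n - 1 = 2 * m by omega, hnm, show (2 * m + 1) * (2 * m) = 2 * (m * (2 * m + 1)) by ring,
        Nat.mul_div_cancel_left _ two_pos]
    rw [show 2 * (m - 1) + 1 = n - 2 by (clear * - hn hnm; omega), show m - 1 + 1 = m by omega, show 2 * (m - 1) + 3 = 2 * m + 1 by omega] at h1
    rw [h3]
    calc _ = q ^ (m * (2 * m + 1)) * ((q + 1) * ∏ i ∈ Finset.range (n - 2), (if Even i then q ^ (i + 2) - 1 else q ^ (i + 2) + 1)) := by
          ring
      _ ≤ q ^ (m * (2 * m + 1)) * (2 ^ m * q ^ (m * (2 * m + 1))) := Nat.mul_le_mul_left _ h1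
      _ = _ := by rw [two_mul (m * (2 * m + 1)), pow_add]; ring

end Cfsg.Agent.H5.IFO
end

-- part: H716/IFO/Jel
section
/-!
# S5719, `|A|` odd (helper716): elements of 2-power order

`exists_J` : from `a² = b² = 0`, `aba = a`, `bab = b`, `a ≠ 0` the element `J = (1+a)(1-b)(1+a) = 1 - ab - ba + a - b`
of determinant 1, `J⁴ = 1`, `cj J ≠ 1`.
-/

set_option autoImplicit false
set_option linter.unusedSectionVars false

namespace Cfsg.Agent.H716.IFO
open Cfsg.Agent.H198.FC Cfsg.Agent.H716.FC Module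

universe u v

variable {K : Type u} [Field K] {V : Type v} [AddCommGroup V] [Module K V]

/-- the element `J` -/
theorem exists_J [Finite K] {a b : R K V} (ha : a * a = 0) (hb : b * b = 0) (hab : a * b * a = a)
    (hba : b * a * b = b) (ha0 : a ≠ 0) :
    ∃ x : (R K V)ˣ, (x : R K V) = 1 - a * b - b * a + a - b ∧
      ((x⁻¹ : (R K V)ˣ) : R K V) = 1 - a * b - b * a - a + b ∧ LinearMap.det (x : R K V) = 1 ∧ x ^ 4 = 1 ∧
      cj K V x ≠ 1 := by
  have e1 : (1 + a) * (1 - b) * (1 + a) = 1 - a * b - b * a + a - b := by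
    have : (1 + a) * (1 - b) * (1 + a) = 1 + a + a + a * a - b - a * b - b * a - a * b * a := by noncomm_ring
    rw [this, ha, hab]; noncomm_ring
  have e2 : (1 - a) * (1 + b) * (1 - a) = 1 - a * b - b * a - a + b := by
    have : (1 - a) * (1 + b) * (1 - a) = 1 - a - a + a * a + b - a * b - b * a + a * b * a := by noncomm_ring
    rw [this, ha, hab]; noncomm_ring
  have u1 : (1 + a) * (1 - a) = 1 := by rw [mul_sub, mul_one, add_mul, one_mul, ha]; noncomm_ring
  have u2 : (1 - a) * (1 + a) = 1 := by rw [mul_add, mul_one, sub_mul, one_mul, ha]; noncomm_ring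
  have u3 : (1 + b) * (1 - b) = 1 := by rw [mul_sub, mul_one, add_mul, one_mul, hb]; noncomm_ring
  have u4 : (1 - b) * (1 + b) = 1 := by rw [mul_add, mul_one, sub_mul, one_mul, hb]; noncomm_ring
  have e3 : (1 + a) * (1 - b) * (1 + a) * ((1 - a) * (1 + b) * (1 - a)) = 1 := by
    calc _ = (1 + a) * ((1 - b) * (((1 + a) * (1 - a)) * (1 + b))) * (1 - a) := by simp only [mul_assoc]
      _ = 1 := by rw [u1, one_mul, u4, mul_one, u1]
  have e4 : (1 - a) * (1 + b) * (1 - a) * ((1 + a) * (1 - b) * (1 + a)) = 1 := by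
    calc _ = (1 - a) * ((1 + b) * (((1 - a) * (1 + a)) * (1 - b))) * (1 + a) := by simp only [mul_assoc]
      _ = 1 := by rw [u2, one_mul, u3, mul_one, u2]
  let x : (R K V)ˣ := ⟨(1 + a) * (1 - b) * (1 + a), (1 - a) * (1 + b) * (1 - a), e3, e4⟩
  have hx : (x : R K V) = 1 - a * b - b * a + a - b := e1
  have hxi : ((x⁻¹ : (R K V)ˣ) : R K V) = 1 - a * b - b * a - a + b := e2
  have p1 : a * b * (a * b) = a * b := by rw [← mul_assoc, hab]
  have p2 : b * a * (b * a) = b * a := by rw [← mul_assoc, hba]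
  have p3 : a * b * (b * a) = 0 := by
    calc a * b * (b * a) = a * (b * b) * a := by simp only [mul_assoc]
      _ = 0 := by rw [hb]; simp
  have p4 : b * a * (a * b) = 0 := by
    calc b * a * (a * b) = b * (a * a) * b := by simp only [mul_assoc]
      _ = 0 := by rw [ha]; simp
  have p5 : a * b * b = 0 := by rw [mul_assoc, hb, mul_zero]
  have p6 : b * a * a = 0 := by rw [mul_assoc, ha, mul_zero]
  have p7 : a * (a * b) = 0 := by rw [← mul_assoc, ha, zero_mul]
  have p8 : b * (b * a) = 0 := by rw [← mul_assoc, hb, zero_mul]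
  have p9 : a * (b * a) = a := by rw [← mul_assoc, hab]
  have p10 : b * (a * b) = b := by rw [← mul_assoc, hba]
  have hxx : (x : R K V) * x = 1 - a * b - b * a - a * b - b * a := by
    rw [hx]
    have : (1 - a * b - b * a + a - b) * (1 - a * b - b * a + a - b) =
        1 - a * b - b * a + a - b - (a * b - a * b * (a * b) - a * b * (b * a) + a * b * a - a * b * b)
        - (b * a - b * a * (a * b) - b * a * (b * a) + b * a * a - b * a * b)
        + (a - a * (a * b) - a * (b * a) + a * a - a * b) - (b - b * (a * b) - b * (b * a) + b * a - b * b) := by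
      noncomm_ring
    rw [this, p1, p2, p3, p4, p5, p6, p7, p8, p9, p10, hab, hba, ha, hb]
    noncomm_ring
  refine ⟨x, hx, hxi, ?_, ?_, ?_⟩
  · change LinearMap.det ((1 + a) * (1 - b) * (1 + a)) = 1
    rw [map_mul, map_mul, Cfsg.Agent.H923.FC.det_one_add ha, sub_eq_add_neg,
      Cfsg.Agent.H923.FC.det_one_add (N := -b) (by rw [neg_mul_neg, hb])]
    ring
  · apply Units.ext
    have h4 : x ^ 4 = (x * x) * (x * x) := by rw [← pow_two, ← pow_two, ← pow_mul]
    rw [h4, Units.val_mul, Units.val_mul, hxx, Units.val_one]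
    have : (1 - a * b - b * a - a * b - b * a) * (1 - a * b - b * a - a * b - b * a) =
        1 - 4 • (a * b) - 4 • (b * a) + 4 • (a * b * (a * b)) + 4 • (a * b * (b * a)) + 4 • (b * a * (a * b)) +
          4 • (b * a * (b * a)) := by noncomm_ring
    rw [this, p1, p2, p3, p4]
    noncomm_ring
  · intro hcj
    have h1 : cj K V x a = a := by rw [hcj]; rfl
    rw [cj_apply, hx, hxi] at h1
    have h2 : (1 - a * b - b * a + a - b) * a = -(b * a) := by
      have : (1 - a * b - b * a + a - b) * a = a - a * b * a - b * a * a + a * a - b * a := by noncomm_ring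
      rw [this, hab, p6, ha]; noncomm_ring
    have h3 : -(b * a) * (1 - a * b - b * a - a + b) = -b := by
      have : -(b * a) * (1 - a * b - b * a - a + b) =
          -(b * a) + b * a * (a * b) + b * a * (b * a) + b * a * a - b * a * b := by noncomm_ring
      rw [this, p4, p2, p6, hba]; noncomm_ring
    rw [h2, h3] at h1
    apply ha0
    have h4 : b = -a := by rw [← h1, neg_neg]
    rw [← hab, h4, mul_neg, ha, neg_zero, zero_mul]

end Cfsg.Agent.H716.IFO
end

-- part: H716/IFO/Frame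
section
/-!
# S5719, `|A|` odd, linear and unitary groups (helper716): the frame

Everything happens inside `Perm (End V)`: `X ≤ GL(V)` is `SL(V)` or `SU(V)`, `cj X` the simple group, `S ≤ RA K V`
the solvable group induced by the point stabiliser, `A = S ∩ cj X` of odd order.
-/

set_option autoImplicit false
set_option linter.unusedSectionVars false

namespace Cfsg.Agent.H716.IFO
open Cfsg.Agent.H198.FC Cfsg.Agent.H716.FC Module

universe u v

variable {K : Type u} [Field K] {V : Type v} [AddCommGroup V] [Module K V]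

/-- the frame -/
structure Fr (X : Subgroup (R K V)ˣ) (A S : Subgroup (Equiv.Perm (R K V))) : Prop where
  hn : 3 ≤ finrank K V
  hS : S ≤ RA K V
  sol : Group.IsSolvable S
  AX : A ≤ X.map (cj K V)
  AS : A ≤ S
  A1 : A ≠ ⊥
  neT : A ≠ X.map (cj K V)
  invX : ∀ f ∈ S, ∀ x ∈ X.map (cj K V), f * x * f⁻¹ ∈ X.map (cj K V)
  /-- `A` is maximal among the proper `S`-invariant subgroups -/
  max : ∀ B : Subgroup (Equiv.Perm (R K V)), A ≤ B → B ≤ X.map (cj K V) → (∀ f ∈ S, ∀ b ∈ B, f * b * f⁻¹ ∈ B) →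
    B = A ∨ B = X.map (cj K V)
  odd : Odd (Nat.card A)
  /-- simplicity -/
  simple : ∀ N : Subgroup (Equiv.Perm (R K V)), N ≤ X.map (cj K V) →
    (∀ t ∈ X.map (cj K V), ∀ x ∈ N, t * x * t⁻¹ ∈ N) → N = ⊥ ∨ N = X.map (cj K V)
  nab : ∃ x ∈ X.map (cj K V), ∃ y ∈ X.map (cj K V), x * y ≠ y * x

namespace Fr

variable {X : Subgroup (R K V)ˣ} {A S : Subgroup (Equiv.Perm (R K V))}

theorem nontriv (h : Fr X A S) : Nontrivial V :=
  Module.nontrivial_of_finrank_pos (R := K) (by have := h.hn; omega)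

/-- elements of 2-power order are not in `A` -/
theorem even_contra [Finite K] [Module.Finite K V] (h : Fr X A S) {t : Equiv.Perm (R K V)} (ht : t ∈ A) (k : ℕ)
    (h4 : t ^ (2 ^ k) = 1) : t = 1 := by
  haveI : Finite (R K V) := finite_R
  have h1 : orderOf t ∣ 2 ^ k := orderOf_dvd_of_pow_eq_one h4
  have h2 : orderOf t ∣ Nat.card A := by
    have h3 := orderOf_dvd_natCard (⟨t, ht⟩ : A)
    rwa [Subgroup.orderOf_mk] at h3
  have h3 : (2 ^ k).Coprime (Nat.card A) := Nat.Coprime.pow_left _ (Nat.coprime_two_left.2 h.odd)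
  exact orderOf_eq_one_iff.1 (Nat.eq_one_of_dvd_coprimes h3 h1 h2)

/-- (MAX) for a subgroup of `Perm (End V)` containing `S` -/
theorem eq_or (h : Fr X A S) (N : Subgroup (Equiv.Perm (R K V))) (hN : S ≤ N) :
    X.map (cj K V) ⊓ N = A ∨ X.map (cj K V) ≤ N := by
  rcases h.max (X.map (cj K V) ⊓ N) (le_inf h.AX (h.AS.trans hN)) inf_le_left (fun f hf b hb =>
    Subgroup.mem_inf.2 ⟨h.invX f hf b hb.1, N.mul_mem (N.mul_mem (hN hf) hb.2) (N.inv_mem (hN hf))⟩) with h1 | h1
  · exact Or.inl h1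
  · right
    rw [← h1]
    exact inf_le_right

/-- a 2-element in `N` shows that the simple group is contained in `N` -/
theorem le_of_even [Finite K] [Module.Finite K V] (h : Fr X A S) (N : Subgroup (Equiv.Perm (R K V))) (hN : S ≤ N)
    {t : Equiv.Perm (R K V)} (ht : t ∈ X.map (cj K V)) (htN : t ∈ N) (k : ℕ) (h4 : t ^ (2 ^ k) = 1) (h1 : t ≠ 1) :
    X.map (cj K V) ≤ N := by
  rcases h.eq_or N hN with h2 | h2
  · exfalso
    apply h1
    apply h.even_contra (k := k) _ h4
    rw [← h2]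
    exact ⟨ht, htN⟩
  · exact h2

/-- a nontrivial normal subgroup is everything -/
theorem eq_top (h : Fr X A S) (N : Subgroup (Equiv.Perm (R K V)))
    (hN : ∀ t ∈ X.map (cj K V), ∀ x ∈ N, t * x * t⁻¹ ∈ N) {y : Equiv.Perm (R K V)} (hy : y ∈ X.map (cj K V))
    (hyN : y ∈ N) (hy1 : y ≠ 1) : X.map (cj K V) ≤ N := by
  rcases h.simple (X.map (cj K V) ⊓ N) inf_le_left (fun t ht x hx =>
    Subgroup.mem_inf.2 ⟨Subgroup.mul_mem _ (Subgroup.mul_mem _ ht hx.1) (Subgroup.inv_mem _ ht), hN t ht x hx.2⟩) with h1 | h1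
  · exfalso
    apply hy1
    have h2 : y ∈ X.map (cj K V) ⊓ N := ⟨hy, hyN⟩
    rwa [h1, Subgroup.mem_bot] at h2
  · rw [← h1]
    exact inf_le_right

end Fr

/-- the stabiliser of a set of endomorphisms -/
def StS (D : Set (R K V)) : Subgroup (Equiv.Perm (R K V)) where
  carrier := {f | ∀ x, f x ∈ D ↔ x ∈ D}
  one_mem' := fun _ => Iff.rfl
  mul_mem' := by
    intro f g hf hg x
    exact (hf (g x)).trans (hg x)
  inv_mem' := by
    intro f hf x
    have h1 := hf (f⁻¹ x)
    have h2 : f (f⁻¹ x) = x := f.apply_symm_apply x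
    rw [h2] at h1
    exact h1.symm

theorem mem_StS_of [Finite K] [Module.Finite K V] {D : Set (R K V)} {f : Equiv.Perm (R K V)}
    (h : ∀ x ∈ D, f x ∈ D) : f ∈ StS D := by
  haveI : Finite (R K V) := finite_R
  intro x
  refine ⟨fun hx => ?_, h x⟩
  have h1 : Set.MapsTo f D D := h
  have h2 : Set.SurjOn f D D := by
    have h3 : Function.Surjective (h1.restrict f D D) :=
      Finite.surjective_of_injective (h1.restrict_inj.2 f.injective.injOn)
    intro y hy
    obtain ⟨z, hz⟩ := h3 ⟨y, hy⟩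
    exact ⟨z, z.2, congrArg Subtype.val hz⟩
  obtain ⟨y, hy, hyx⟩ := h2 hx
  rw [← f.injective hyx]
  exact hy

/-- the endomorphisms commuting with `SL(V)` are scalars -/
theorem sc_of_comm_SL [Nontrivial V] [Module.Finite K V] {Y : R K V}
    (h : ∀ a : R K V, a * a = 0 → a * Y = Y * a) : ∃ s : K, Y = s • (1 : R K V) := by
  apply LinearMap.exists_eq_smul_id_of_forall_notLinearIndependent
  intro v hli
  have hv0 : v ≠ 0 := hli.ne_zero 0
  have h2 : Y v ∉ Submodule.span K {v} := by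
    intro h3
    obtain ⟨s, hs⟩ := Submodule.mem_span_singleton.1 h3
    have h4 := (LinearIndependent.pair_iff.1 hli) s (-1) (by rw [hs]; simp)
    exact one_ne_zero (neg_eq_zero.1 h4.2)
  obtain ⟨φ, hφ1, hφ2⟩ := Submodule.exists_le_ker_of_notMem h2
  have hφv : φ v = 0 := hφ2 (Submodule.mem_span_singleton_self v)
  have h3 := h (φ.smulRight v) (by
    ext w
    simp [hφv])
  have h4 := congrArg (fun Z : R K V => Z v) h3
  simp only [Module.End.mul_apply, LinearMap.smulRight_apply, hφv, zero_smul, map_zero] at h4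
  rcases smul_eq_zero.1 h4 with h5 | h5
  · exact hφ1 h5
  · exact hv0 h5

end Cfsg.Agent.H716.IFO
end

-- part: H716/IFO/Cases
section
/-!
# S5719, `|A|` odd, linear groups (helper716): imprimitive, field extension, tensor and extraspecial cases
-/

set_option autoImplicit false
set_option linter.unusedSectionVars false

namespace Cfsg.Agent.H716.IFO
open Cfsg.Agent.H198.FC Cfsg.Agent.H716.FC Module

universe u v

variable {K : Type u} [Field K] {V : Type v} [AddCommGroup V] [Module K V]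

variable (K V) in
/-- `SL(V)` -/
def SLX : Subgroup (R K V)ˣ where
  carrier := {x | LinearMap.det (x : R K V) = 1}
  one_mem' := by
    change LinearMap.det ((1 : (R K V)ˣ) : R K V) = 1
    rw [Units.val_one, map_one]
  mul_mem' := by
    intro a b ha hb
    change LinearMap.det ((a * b : (R K V)ˣ) : R K V) = 1
    have ha' : LinearMap.det (a : R K V) = 1 := ha
    have hb' : LinearMap.det (b : R K V) = 1 := hb
    rw [Units.val_mul, map_mul, ha', hb', one_mul]
  inv_mem' := by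
    intro a ha
    have ha' : LinearMap.det (a : R K V) = 1 := ha
    have h1 : LinearMap.det (((a⁻¹ : (R K V)ˣ) : R K V) * (a : R K V)) = 1 := by rw [Units.inv_mul, map_one]
    rw [map_mul, ha', mul_one] at h1
    exact h1

theorem mem_SLX {x : (R K V)ˣ} : x ∈ SLX K V ↔ LinearMap.det (x : R K V) = 1 := Iff.rfl

theorem cj_mem {x : (R K V)ˣ} (hx : LinearMap.det (x : R K V) = 1) : cj K V x ∈ (SLX K V).map (cj K V) := ⟨x, hx, rfl⟩

/-- the unipotent element `1 + a` -/
theorem exists_un [Finite K] {a : R K V} (ha : a * a = 0) : ∃ x : (R K V)ˣ, (x : R K V) = 1 + a ∧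
    ((x⁻¹ : (R K V)ˣ) : R K V) = 1 - a ∧ LinearMap.det (x : R K V) = 1 :=
  ⟨Cfsg.Agent.H923.FC.un a ha, rfl, rfl, Cfsg.Agent.H923.FC.det_one_add ha⟩

/-- two orthogonal idempotents of the same rank -/
theorem exists_iso [Module.Finite K V] {p q : R K V} (hp : p * p = p) (hq : q * q = q) (hpq : p * q = 0)
    (hqp : q * p = 0) (hfr : finrank K (LinearMap.range p) = finrank K (LinearMap.range q)) :
    ∃ a b : R K V, a * b = q ∧ b * a = p ∧ a * p = a ∧ q * a = a ∧ b * q = b ∧ p * b = b := by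
  have e := LinearEquiv.ofFinrankEq (LinearMap.range p) (LinearMap.range q) hfr
  have hp' : ∀ v : V, p (p v) = p v := fun v => by rw [← Module.End.mul_apply, hp]
  have hq' : ∀ v : V, q (q v) = q v := fun v => by rw [← Module.End.mul_apply, hq]
  have hpr : ∀ w : LinearMap.range p, p (w : V) = w := by
    rintro ⟨_, v, rfl⟩
    exact hp' v
  have hqr : ∀ w : LinearMap.range q, q (w : V) = w := by
    rintro ⟨_, v, rfl⟩
    exact hq' v
  have hrp : ∀ w : LinearMap.range p, p.rangeRestrict (w : V) = w := fun w => Subtype.ext (hpr w)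
  have hrq : ∀ w : LinearMap.range q, q.rangeRestrict (w : V) = w := fun w => Subtype.ext (hqr w)
  refine ⟨(LinearMap.range q).subtype ∘ₗ (e : LinearMap.range p →ₗ[K] LinearMap.range q) ∘ₗ p.rangeRestrict,
    (LinearMap.range p).subtype ∘ₗ (e.symm : LinearMap.range q →ₗ[K] LinearMap.range p) ∘ₗ q.rangeRestrict,
    ?_, ?_, ?_, ?_, ?_, ?_⟩
  · ext v
    change ((e (p.rangeRestrict ((e.symm (q.rangeRestrict v) : LinearMap.range p) : V)) : LinearMap.range q) : V) = q v
    rw [hrp, LinearEquiv.apply_symm_apply]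
    rfl
  · ext v
    change ((e.symm (q.rangeRestrict ((e (p.rangeRestrict v) : LinearMap.range q) : V)) : LinearMap.range p) : V) = p v
    rw [hrq, LinearEquiv.symm_apply_apply]
    rfl
  · ext v
    change ((e (p.rangeRestrict (p v)) : LinearMap.range q) : V) = ((e (p.rangeRestrict v) : LinearMap.range q) : V)
    congr 2
    exact Subtype.ext (hp' v)
  · ext v
    change q ((e (p.rangeRestrict v) : LinearMap.range q) : V) = ((e (p.rangeRestrict v) : LinearMap.range q) : V)
    exact hqr _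
  · ext v
    change ((e.symm (q.rangeRestrict (q v)) : LinearMap.range p) : V) =
      ((e.symm (q.rangeRestrict v) : LinearMap.range p) : V)
    congr 2
    exact Subtype.ext (hq' v)
  · ext v
    change p ((e.symm (q.rangeRestrict v) : LinearMap.range p) : V) =
      ((e.symm (q.rangeRestrict v) : LinearMap.range p) : V)
    exact hpr _

namespace Fr

variable {A S : Subgroup (Equiv.Perm (R K V))} [Finite K] [Module.Finite K V]

/-- if the simple group normalizes the set `D`, and an element centralizes `D`, then `D` is scalar -/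
theorem sc_of_StS (h : Fr (SLX K V) A S) (D : Set (R K V)) (hD : (SLX K V).map (cj K V) ≤ StS D) {x : (R K V)ˣ}
    (hx : LinearMap.det (x : R K V) = 1) (hx1 : cj K V x ≠ 1) (hxD : ∀ Y ∈ D, (x : R K V) * Y = Y * x) :
    ∀ Y ∈ D, ∃ s : K, Y = s • (1 : R K V) := by
  haveI := h.nontriv
  let N : Subgroup (Equiv.Perm (R K V)) :=
    { carrier := {f | ∀ Y ∈ D, f Y = Y}
      one_mem' := fun _ _ => rfl
      mul_mem' := by
        intro f g hf hg Y hY
        change f (g Y) = Y
        rw [hg Y hY, hf Y hY]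
      inv_mem' := by
        intro f hf Y hY
        have h1 : f Y = Y := hf Y hY
        change f⁻¹ Y = Y
        nth_rewrite 1 [← h1]
        exact f.symm_apply_apply Y }
  have hcom : ∀ (z : (R K V)ˣ) (Y : R K V), (z : R K V) * Y = Y * z ↔ cj K V z Y = Y := by
    intro z Y
    rw [cj_apply]
    constructor
    · intro h1
      rw [h1, mul_assoc, Units.mul_inv, mul_one]
    · intro h1
      have h2 := congrArg (fun Z => Z * (z : R K V)) h1
      simp only [mul_assoc, Units.inv_mul, mul_one] at h2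
      exact h2
  have h1 : (SLX K V).map (cj K V) ≤ N := by
    refine h.eq_top N ?_ (cj_mem hx) ?_ hx1
    · intro t ht f hf Y hY
      have h2 : t⁻¹ ∈ StS D := inv_mem (hD ht)
      have h3 : t⁻¹ Y ∈ D := (h2 Y).2 hY
      change t (f (t⁻¹ Y)) = Y
      rw [hf _ h3]
      exact t.apply_symm_apply Y
    · intro Y hY
      exact (hcom x Y).1 (hxD Y hY)
  intro Y hY
  apply sc_of_comm_SL
  intro a ha
  obtain ⟨z, hz, -, hz1⟩ := exists_un ha
  have h2 := (hcom z Y).2 (h1 (cj_mem hz1) Y hY)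
  rw [hz, add_mul, mul_add, one_mul, mul_one] at h2
  exact add_left_cancel h2

/-- the imprimitive case -/
theorem case_C2 (h : Fr (SLX K V) A S) {k d : ℕ} {e : Fin k → R K V} (hk : 2 ≤ k) (hd : 1 ≤ d)
    (he : CompleteOrthogonalIdempotents e) (hfr : ∀ i, finrank K (LinearMap.range (e i)) = d)
    (hSe : ∀ f ∈ S, ∃ π : Equiv.Perm (Fin k), ∀ i, f (e i) = e (π i)) : False := by
  haveI := h.nontriv
  let i0 : Fin k := ⟨0, by omega⟩
  let i1 : Fin k := ⟨1, by omega⟩
  have h01 : i0 ≠ i1 := by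
    intro h1
    have h2 : (0 : ℕ) = 1 := congrArg Fin.val h1
    omega
  obtain ⟨a, b, hab, hba, hap, hqa, hbq, hpb⟩ := exists_iso (he.idem i0) (he.idem i1) (he.ortho h01) (he.ortho h01.symm)
    ((hfr i0).trans (hfr i1).symm)
  set p := e i0 with hp
  set q := e i1 with hq
  have hpp : p * p = p := he.idem i0
  have hqq : q * q = q := he.idem i1
  have hpq : p * q = 0 := he.ortho h01
  have hqp : q * p = 0 := he.ortho h01.symm
  have haa : a * a = 0 := by
    calc a * a = (a * p) * (q * a) := by rw [hap, hqa]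
      _ = a * (p * q) * a := by simp only [mul_assoc]
      _ = 0 := by rw [hpq]; simp
  have hbb : b * b = 0 := by
    calc b * b = (b * q) * (p * b) := by rw [hbq, hpb]
      _ = b * (q * p) * b := by simp only [mul_assoc]
      _ = 0 := by rw [hqp]; simp
  have hp0 : p ≠ 0 := by
    intro h1
    have h2 := hfr i0
    rw [← hp, h1, LinearMap.range_zero, finrank_bot] at h2
    omega
  have ha0 : a ≠ 0 := by
    rintro rfl
    rw [mul_zero] at hba
    exact hp0 hba.symm
  obtain ⟨x, hx, hxi, hx1, hx4, hxc⟩ := exists_J haa hbb (by rw [hab, hqa]) (by rw [hba, hpb]) ha0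
  have hpa : p * a = 0 := by rw [← hqa, ← mul_assoc, hpq, zero_mul]
  have haq : a * q = 0 := by rw [← hap, mul_assoc, hpq, mul_zero]
  have hqb : q * b = 0 := by rw [← hpb, ← mul_assoc, hqp, zero_mul]
  have hbp : b * p = 0 := by rw [← hbq, mul_assoc, hqp, mul_zero]
  let D : Set (R K V) := Set.range e
  have hN : S ≤ StS D := by
    intro f hf
    apply mem_StS_of
    rintro _ ⟨i, rfl⟩
    obtain ⟨π, hπ⟩ := hSe f hf
    exact ⟨π i, (hπ i).symm⟩
  have hJ : cj K V x ∈ StS D := by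
    apply mem_StS_of
    rintro _ ⟨i, rfl⟩
    rw [cj_apply, hx, hxi, hab, hba]
    by_cases h0 : i = i0
    · subst h0
      refine ⟨i1, ?_⟩
      rw [← hp, ← hq]
      have e1 : (1 - q - p + a - b) * p = a := by
        have : (1 - q - p + a - b) * p = p - q * p - p * p + a * p - b * p := by noncomm_ring
        rw [this, hqp, hpp, hap, hbp]; noncomm_ring
      have e2 : a * (1 - q - p - a + b) = q := by
        have : a * (1 - q - p - a + b) = a - a * q - a * p - a * a + a * b := by noncomm_ring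
        rw [this, haq, hap, haa, hab]; noncomm_ring
      rw [e1, e2]
    by_cases h1 : i = i1
    · subst h1
      refine ⟨i0, ?_⟩
      rw [← hp, ← hq]
      have e1 : (1 - q - p + a - b) * q = -b := by
        have : (1 - q - p + a - b) * q = q - q * q - p * q + a * q - b * q := by noncomm_ring
        rw [this, hqq, hpq, haq, hbq]; noncomm_ring
      have e2 : -b * (1 - q - p - a + b) = p := by
        have : -b * (1 - q - p - a + b) = -b + b * q + b * p + b * a - b * b := by noncomm_ring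
        rw [this, hbq, hbp, hba, hbb]; noncomm_ring
      rw [e1, e2]
    · refine ⟨i, ?_⟩
      have f1 : q * e i = 0 := he.ortho (Ne.symm h1)
      have f2 : p * e i = 0 := he.ortho (Ne.symm h0)
      have f3 : e i * q = 0 := he.ortho h1
      have f4 : e i * p = 0 := he.ortho h0
      have e1 : (1 - q - p + a - b) * e i = e i := by
        have : (1 - q - p + a - b) * e i = e i - q * e i - p * e i + a * e i - b * e i := by noncomm_ring
        have g1 : a * e i = 0 := by rw [← hap, mul_assoc, f2, mul_zero]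
        have g2 : b * e i = 0 := by rw [← hbq, mul_assoc, f1, mul_zero]
        rw [this, f1, f2, g1, g2]; noncomm_ring
      have e2 : e i * (1 - q - p - a + b) = e i := by
        have : e i * (1 - q - p - a + b) = e i - e i * q - e i * p - e i * a + e i * b := by noncomm_ring
        have g1 : e i * a = 0 := by rw [← hqa, ← mul_assoc, f3, zero_mul]
        have g2 : e i * b = 0 := by rw [← hpb, ← mul_assoc, f4, zero_mul]
        rw [this, f3, f4, g1, g2]; noncomm_ring
      rw [e1, e2]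
  have h3 := h.le_of_even (StS D) hN (cj_mem hx1) hJ 2 (by rw [show (2 : ℕ) ^ 2 = 4 from rfl, ← map_pow, hx4, map_one]) hxc
  -- but `1 + a` does not permute the idempotents
  obtain ⟨z, hz, hzi, hz1⟩ := exists_un haa
  have h4 : cj K V z p ∈ D := (h3 (cj_mem hz1) p).2 ⟨i0, rfl⟩
  rw [cj_apply, hz, hzi] at h4
  have h5 : (1 + a) * p * (1 - a) = p + a := by
    have : (1 + a) * p * (1 - a) = p - p * a + a * p - a * p * a := by noncomm_ring
    rw [this, hpa, hap, haa]; noncomm_ring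
  rw [h5] at h4
  obtain ⟨j, hj⟩ := h4
  have h6 : p * e j = p := by
    rw [hj, mul_add, hpp, hpa, add_zero]
  have h7 : j = i0 := by
    by_contra hne
    have h8 : p * e j = 0 := he.ortho (Ne.symm hne)
    rw [h8] at h6
    exact hp0 h6.symm
  rw [h7, ← hp] at hj
  exact ha0 (left_eq_add.1 hj)

/-- the tensor case -/
theorem case_C4 (h : Fr (SLX K V) A S) {u' y : ℕ}
    (Φ : Matrix (Fin u' × Fin y) (Fin u' × Fin y) K ≃ₐ[K] R K V) (hu : 2 ≤ u') (hy : 2 ≤ y)
    (hSΦ : ∀ f ∈ S, ∀ B : Matrix (Fin u') (Fin u') K, ∃ B' : Matrix (Fin u') (Fin u') K,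
      f (Φ (Matrix.kroneckerMap (· * ·) B (1 : Matrix (Fin y) (Fin y) K))) =
        Φ (Matrix.kroneckerMap (· * ·) B' (1 : Matrix (Fin y) (Fin y) K))) : False := by
  haveI := h.nontriv
  let D : Set (R K V) := Set.range fun B : Matrix (Fin u') (Fin u') K =>
    Φ (Matrix.kroneckerMap (· * ·) B (1 : Matrix (Fin y) (Fin y) K))
  have hN : S ≤ StS D := by
    intro f hf
    apply mem_StS_of
    rintro _ ⟨B, rfl⟩
    obtain ⟨B', hB'⟩ := hSΦ f hf B
    exact ⟨B', hB'.symm⟩
  let i0 : Fin u' := ⟨0, by omega⟩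
  let i1 : Fin u' := ⟨1, by omega⟩
  let j0 : Fin y := ⟨0, by omega⟩
  let j1 : Fin y := ⟨1, by omega⟩
  have h01 : i0 ≠ i1 := by
    intro h1
    have h2 : (0 : ℕ) = 1 := congrArg Fin.val h1
    omega
  have g01 : j0 ≠ j1 := by
    intro h1
    have h2 : (0 : ℕ) = 1 := congrArg Fin.val h1
    omega
  let L : Matrix (Fin u') (Fin u') K → R K V := fun B =>
    Φ (Matrix.kroneckerMap (· * ·) B (1 : Matrix (Fin y) (Fin y) K))
  let M : Matrix (Fin y) (Fin y) K → R K V := fun B =>
    Φ (Matrix.kroneckerMap (· * ·) (1 : Matrix (Fin u') (Fin u') K) B)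
  have hLmul : ∀ B B', L B * L B' = L (B * B') := by
    intro B B'
    change Φ _ * Φ _ = Φ _
    rw [← map_mul]
    congr 1
    have := Matrix.mul_kronecker_mul B B' (1 : Matrix (Fin y) (Fin y) K) (1 : Matrix (Fin y) (Fin y) K)
    rw [mul_one] at this
    exact this.symm
  have hMmul : ∀ B B', M B * M B' = M (B * B') := by
    intro B B'
    change Φ _ * Φ _ = Φ _
    rw [← map_mul]
    congr 1
    have := Matrix.mul_kronecker_mul (1 : Matrix (Fin u') (Fin u') K) (1 : Matrix (Fin u') (Fin u') K) B B'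
    rw [mul_one] at this
    exact this.symm
  have hLM : ∀ B C, L B * M C = M C * L B := by
    intro B C
    change Φ _ * Φ _ = Φ _ * Φ _
    rw [← map_mul, ← map_mul]
    congr 1
    have h1 := Matrix.mul_kronecker_mul B (1 : Matrix (Fin u') (Fin u') K) (1 : Matrix (Fin y) (Fin y) K) C
    have h2 := Matrix.mul_kronecker_mul (1 : Matrix (Fin u') (Fin u') K) B C (1 : Matrix (Fin y) (Fin y) K)
    rw [mul_one, one_mul] at h1 h2
    exact h1.symm.trans h2
  have hL1 : L 1 = 1 := by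
    change Φ (Matrix.kroneckerMap (fun x1 x2 => x1 * x2) 1 1) = 1
    rw [Matrix.one_kronecker_one, map_one]
  have hLsub : ∀ B B', L (B - B') = L B - L B' := by
    intro B B'
    change Φ _ = Φ _ - Φ _
    rw [← map_sub]
    congr 1
    ext i j
    simp [Matrix.kroneckerMap_apply, sub_mul]
  have hLadd : ∀ B B', L (B + B') = L B + L B' := by
    intro B B'
    change Φ _ = Φ _ + Φ _
    rw [← map_add]
    congr 1
    ext i j
    simp [Matrix.kroneckerMap_apply, add_mul]
  have hL0 : ∀ B, L B = 0 → B = 0 := by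
    intro B hB
    have h1 : Matrix.kroneckerMap (· * ·) B (1 : Matrix (Fin y) (Fin y) K) = 0 := by
      apply Φ.injective
      rw [map_zero]; exact hB
    ext i j
    have h2 := congrFun (congrFun h1 (i, j0)) (j, j0)
    simpa [Matrix.kroneckerMap_apply] using h2
  have hM0 : ∀ B, M B = 0 → B = 0 := by
    intro B hB
    have h1 : Matrix.kroneckerMap (· * ·) (1 : Matrix (Fin u') (Fin u') K) B = 0 := by
      apply Φ.injective
      rw [map_zero]; exact hB
    ext i j
    have h2 := congrFun (congrFun h1 (i0, i)) (i0, j)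
    simpa [Matrix.kroneckerMap_apply] using h2
  have hLz : L 0 = 0 := by rw [← sub_self (0 : Matrix (Fin u') (Fin u') K), hLsub, sub_self]
  have hMz : M 0 = 0 := by
    change Φ _ = 0
    rw [← map_zero Φ]
    congr 1
    ext i j
    simp [Matrix.kroneckerMap_apply]
  -- the elements
  set a0 : Matrix (Fin u') (Fin u') K := Matrix.single i1 i0 1 with ha0
  set b0 : Matrix (Fin u') (Fin u') K := Matrix.single i0 i1 1 with hb0
  set c0 : Matrix (Fin y) (Fin y) K := Matrix.single j1 j0 1 with hc0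
  set d0 : Matrix (Fin y) (Fin y) K := Matrix.single j0 j1 1 with hd0
  have s1 : a0 * a0 = 0 := by rw [ha0, Matrix.single_mul_single_of_ne _ _ _ _ h01]
  have s2 : b0 * b0 = 0 := by rw [hb0, Matrix.single_mul_single_of_ne _ _ _ _ h01.symm]
  have s3 : a0 * b0 * a0 = a0 := by
    rw [ha0, hb0, Matrix.single_mul_single_same, Matrix.single_mul_single_same]; simp
  have s4 : b0 * a0 * b0 = b0 := by
    rw [ha0, hb0, Matrix.single_mul_single_same, Matrix.single_mul_single_same]; simp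
  have t1 : c0 * c0 = 0 := by rw [hc0, Matrix.single_mul_single_of_ne _ _ _ _ g01]
  have t2 : d0 * d0 = 0 := by rw [hd0, Matrix.single_mul_single_of_ne _ _ _ _ g01.symm]
  have t3 : c0 * d0 * c0 = c0 := by
    rw [hc0, hd0, Matrix.single_mul_single_same, Matrix.single_mul_single_same]; simp
  have t4 : d0 * c0 * d0 = d0 := by
    rw [hc0, hd0, Matrix.single_mul_single_same, Matrix.single_mul_single_same]; simp
  have na : L a0 ≠ 0 := by
    intro h1
    have h2 := congrFun (congrFun (hL0 _ h1) i1) i0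
    rw [ha0, Matrix.single_apply_same] at h2
    exact one_ne_zero h2
  have nc : M c0 ≠ 0 := by
    intro h1
    have h2 := congrFun (congrFun (hM0 _ h1) j1) j0
    rw [hc0, Matrix.single_apply_same] at h2
    exact one_ne_zero h2
  obtain ⟨x, hx, hxi, hx1, hx4, hxc⟩ := exists_J (a := L a0) (b := L b0) (by rw [hLmul, s1, hLz])
    (by rw [hLmul, s2, hLz]) (by rw [hLmul, hLmul, s3]) (by rw [hLmul, hLmul, s4]) na
  obtain ⟨z, hz, hzi, hz1, hz4, hzc⟩ := exists_J (a := M c0) (b := M d0) (by rw [hMmul, t1, hMz])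
    (by rw [hMmul, t2, hMz]) (by rw [hMmul, hMmul, t3]) (by rw [hMmul, hMmul, t4]) nc
  have hJ : cj K V x ∈ StS D := by
    apply mem_StS_of
    rintro _ ⟨B, rfl⟩
    refine ⟨(1 - a0 * b0 - b0 * a0 + a0 - b0) * B * (1 - a0 * b0 - b0 * a0 - a0 + b0), ?_⟩
    change L _ = cj K V x (L B)
    rw [cj_apply, hx, hxi]
    simp only [← hLmul, hLsub, hLadd, hL1]
  have h3 := h.le_of_even (StS D) hN (cj_mem hx1) hJ 2 (by rw [show (2 : ℕ) ^ 2 = 4 from rfl, ← map_pow, hx4, map_one]) hxc
  have h4 := h.sc_of_StS D h3 hz1 hzc (by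
    rintro _ ⟨B, rfl⟩
    change (z : R K V) * L B = L B * z
    rw [hz]
    simp only [mul_sub, mul_add, sub_mul, add_mul, one_mul, mul_one, mul_assoc]
    have f1 := hLM B c0
    have f2 := hLM B d0
    have f3 : L B * (M c0 * M d0) = M c0 * (M d0 * L B) := by rw [← mul_assoc, f1, mul_assoc, f2]
    have f4 : L B * (M d0 * M c0) = M d0 * (M c0 * L B) := by rw [← mul_assoc, f2, mul_assoc, f1]
    rw [f3, f4, f1, f2])
  obtain ⟨s, hs⟩ := h4 (L a0) ⟨a0, rfl⟩
  have h5 : L a0 * L a0 = 0 := by rw [hLmul, s1, hLz]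
  rw [hs, smul_mul_smul_comm, mul_one] at h5
  have h6 : s * s = 0 := by
    rcases smul_eq_zero.1 h5 with h6 | h6
    · exact h6
    · exact absurd h6 one_ne_zero
  have h7 : s = 0 := mul_self_eq_zero.1 h6
  rw [h7, zero_smul] at hs
  exact na hs

end Fr

end Cfsg.Agent.H716.IFO
end

-- part: H5/IFO/Sing
section
/-!
# S5719, `|A|` odd, linear groups: the Singer structure (helper5)

`E` a subfield of `End_K(V)` with `dim_K E = dim_K V`, invariant under `S`.
* `sing_low` : `q^n - 1 ≤ (q - 1) gcd(n, q - 1) |A|`;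
* `sing_up_graph` : a `K`-linear anti-automorphism `f ∈ S` of order two has at most `n` fixed points on `A`, `n` odd.
-/

set_option autoImplicit false
set_option linter.unusedSectionVars false
set_option linter.style.haveILetI false

namespace Cfsg.Agent.H5.IFO

open Cfsg.Agent.H198.FC Cfsg.Agent.H716.FC Cfsg.Agent.H716.IFO Module

universe u v

variable {K : Type u} [Field K] {V : Type v} [AddCommGroup V] [Module K V]

/-- `dim_E V = 1`: the centraliser of `E` is `E` -/
theorem mem_of_comm [Nontrivial V] [Module.Finite K V] {E : Subalgebra K (R K V)} (hE : IsField E)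
    (hd : finrank K E = finrank K V) {Y : R K V} (hY : ∀ X ∈ E, Y * X = X * Y) : Y ∈ E := by
  obtain ⟨v, hv⟩ := exists_ne (0 : V)
  let φ : E →ₗ[K] V :=
    { toFun := fun X => (X : R K V) v
      map_add' := fun X Y => rfl
      map_smul' := fun s X => rfl }
  have hφ : Function.Injective φ := by
    rw [← LinearMap.ker_eq_bot, Submodule.eq_bot_iff]
    intro X hX
    have h1 : (X : R K V) v = 0 := hX
    by_contra h0
    obtain ⟨X', hX'⟩ := hE.mul_inv_cancel h0
    have h2 : (X' : R K V) * (X : R K V) = 1 := by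
      rw [hE.mul_comm] at hX'
      exact congrArg Subtype.val hX'
    apply hv
    calc v = ((X' : R K V) * (X : R K V)) v := by rw [h2]; rfl
      _ = 0 := by rw [Module.End.mul_apply, h1, map_zero]
  have hsurj : Function.Surjective φ := (LinearMap.injective_iff_surjective_of_finrank_eq_finrank hd).1 hφ
  obtain ⟨X, hX⟩ := hsurj (Y v)
  have h3 : Y = X := by
    ext w
    obtain ⟨Z, hZ⟩ := hsurj w
    have e1 : (X : R K V) v = Y v := hX
    have e2 : (Z : R K V) v = w := hZ
    have e3 : (Z : R K V) * X = X * Z := congrArg Subtype.val (hE.mul_comm Z X)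
    calc Y w = (Y * Z) v := by rw [Module.End.mul_apply, e2]
      _ = (Z : R K V) (Y v) := by rw [hY Z Z.2, Module.End.mul_apply]
      _ = ((Z : R K V) * X) v := by rw [← e1, Module.End.mul_apply]
      _ = (X : R K V) w := by rw [e3, Module.End.mul_apply, e2]
  rw [h3]
  exact X.2

section low

variable {A S : Subgroup (Equiv.Perm (R K V))} [Finite K] [Module.Finite K V]

/-- conjugations with values a scalar -/
theorem scalar_of_cj_one [Nontrivial V] {x : (R K V)ˣ} (hx : cj K V x = 1) : ∃ s : K, (x : R K V) = s • (1 : R K V) := by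
  apply sc_of_comm_SL
  intro a _
  have h1 : cj K V x a = a := by rw [hx]; rfl
  rw [cj_apply] at h1
  have h2 := congrArg (fun Z => Z * (x : R K V)) h1
  simp only [mul_assoc, Units.inv_mul, mul_one] at h2
  exact h2.symm

/-- the norm one elements of `E` -/
theorem card_unit_le [Nontrivial V] {E : Subalgebra K (R K V)} (hE : IsField E) (hd : finrank K E = finrank K V) :
    ∃ U : Subgroup (R K V)ˣ, (∀ u ∈ U, (u : R K V) ∈ E ∧ LinearMap.det (u : R K V) = 1) ∧
      Nat.card K ^ finrank K V - 1 ≤ (Nat.card K - 1) * Nat.card U ∧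
      Nat.card U ≤ (finrank K V).gcd (Nat.card K - 1) * Nat.card (U.map (cj K V)) := by
  classical
  have hfin : Finite (R K V) := finite_R
  have hfinu : Finite (R K V)ˣ := inferInstance
  let iE : Field E := hE.toField
  have : Finite E := inferInstance
  let ι : Eˣ →* (R K V)ˣ := Units.map (E.val : E →* R K V)
  have hι : Function.Injective ι := Units.map_injective Subtype.val_injective
  let δ : (R K V)ˣ →* Kˣ := Units.map (LinearMap.det : R K V →* K)
  let N : Subgroup Eˣ := (δ.comp ι).ker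
  have hN : Nat.card N * Nat.card (δ.comp ι).range = Nat.card Eˣ := by
    rw [← Subgroup.index_ker, Subgroup.card_mul_index]
  have hEu : Nat.card Eˣ = Nat.card K ^ finrank K V - 1 := by
    rw [Nat.card_units, ← hd, Module.natCard_eq_pow_finrank (K := K)]
  have hr : Nat.card (δ.comp ι).range ≤ Nat.card K - 1 := by
    rw [← Nat.card_units]
    exact Nat.card_le_card_of_injective _ (Subtype.val_injective : Function.Injective (Subtype.val : (δ.comp ι).range → Kˣ))
  refine ⟨N.map ι, ?_, ?_, ?_⟩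
  · rintro _ ⟨u, hu, rfl⟩
    exact ⟨(u : E).2, congrArg Units.val (MonoidHom.mem_ker.1 hu)⟩
  · rw [Subgroup.card_map_of_injective hι, ← hEu, ← hN, mul_comm]
    exact Nat.mul_le_mul_right _ hr
  · set U := N.map ι with hU
    let g : U →* Equiv.Perm (R K V) := (cj K V).comp U.subtype
    have h1 : Nat.card g.ker * Nat.card g.range = Nat.card U := by
      rw [← Subgroup.index_ker, Subgroup.card_mul_index]
    have h2 : g.range = U.map (cj K V) := by
      rw [MonoidHom.range_comp, Subgroup.range_subtype]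
    have h3 : Nat.card g.ker ≤ (finrank K V).gcd (Nat.card K - 1) := by
      have h4 : Nat.card (powMonoidHom (finrank K V) : Kˣ →* Kˣ).ker = (finrank K V).gcd (Nat.card K - 1) := by
        rw [IsCyclic.card_powMonoidHom_ker, Nat.card_units, Nat.gcd_comm]
      rw [← h4]
      have h5 : ∀ x : g.ker, ∃ s : Kˣ, s ∈ (powMonoidHom (finrank K V) : Kˣ →* Kˣ).ker ∧
          (((x : U) : (R K V)ˣ) : R K V) = (s : K) • (1 : R K V) := by
        intro x
        obtain ⟨s, hs⟩ := scalar_of_cj_one (x := ((x : U) : (R K V)ˣ)) (MonoidHom.mem_ker.1 x.2)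
        have hdet : LinearMap.det (((x : U) : (R K V)ˣ) : R K V) = 1 := by
          obtain ⟨u, hu, hux⟩ := (x : U).2
          rw [← hux]
          exact congrArg Units.val (MonoidHom.mem_ker.1 hu)
        rw [hs, LinearMap.det_smul, map_one, mul_one] at hdet
        have hs0 : s ≠ 0 := by
          rintro rfl
          rw [zero_pow (Module.finrank_pos (R := K) (M := V)).ne'] at hdet
          exact zero_ne_one hdet
        refine ⟨Units.mk0 s hs0, ?_, hs⟩
        rw [MonoidHom.mem_ker, powMonoidHom_apply]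
        apply Units.ext
        rw [Units.val_pow_eq_pow_val, Units.val_mk0, hdet, Units.val_one]
      choose c hc hc' using h5
      refine Nat.card_le_card_of_injective (fun x : g.ker => (⟨c x, hc x⟩ : (powMonoidHom (finrank K V) : Kˣ →* Kˣ).ker)) ?_
      intro x y hxy
      have h6 : c x = c y := congrArg Subtype.val hxy
      apply Subtype.ext
      apply Subtype.ext
      apply Units.ext
      rw [hc' x, hc' y, h6]
    rw [← h1, h2]
    exact Nat.mul_le_mul_right _ h3

theorem sing_eq (h : Fr (SLX K V) A S) {E : Subalgebra K (R K V)} (hE : IsField E) (hd : finrank K E = finrank K V)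
    (hSE : ∀ f ∈ S, ∀ X ∈ E, f X ∈ E) : (SLX K V).map (cj K V) ⊓ StS (E : Set (R K V)) = A := by
  haveI := h.nontriv
  rcases h.eq_or (StS (E : Set (R K V))) (fun f hf => mem_StS_of (hSE f hf)) with h1 | h1
  · exact h1
  · exfalso
    obtain ⟨U, hU, hU1, hU2⟩ := card_unit_le hE hd
    have hfin : Finite (R K V) := finite_R
    -- a non-scalar element of norm one
    have h2 : ∃ u ∈ U, cj K V u ≠ 1 := by
      by_contra hcon
      push Not at hcon
      have h3 : U.map (cj K V) = ⊥ := by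
        rw [Subgroup.eq_bot_iff_forall]
        rintro _ ⟨u, hu, rfl⟩
        exact hcon u hu
      rw [h3, Subgroup.card_bot, mul_one] at hU2
      have hq : 2 ≤ Nat.card K := Finite.one_lt_card
      have h4 : (finrank K V).gcd (Nat.card K - 1) ≤ Nat.card K - 1 := Nat.gcd_le_right _ (by omega)
      have h5 : Nat.card K ^ finrank K V - 1 ≤ (Nat.card K - 1) * (Nat.card K - 1) :=
        hU1.trans (Nat.mul_le_mul_left _ (hU2.trans h4))
      have h6 : Nat.card K ^ 3 ≤ Nat.card K ^ finrank K V := Nat.pow_le_pow_right (by omega) h.hn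
      obtain ⟨k, hk⟩ := Nat.exists_eq_add_of_le' hq
      rw [hk] at h5 h6
      have h7 : (k + 2) ^ 3 = (k + 1) * (k + 1) + (k ^ 3 + 5 * k ^ 2 + 10 * k + 7) := by ring
      have h8 : k + 2 - 1 = k + 1 := by omega
      rw [h8] at h5
      (clear * - h6 h5 h7; omega)
    obtain ⟨u, hu, hu1⟩ := h2
    obtain ⟨huE, hud⟩ := hU u hu
    obtain ⟨s, hs⟩ := h.sc_of_StS (E : Set (R K V)) h1 hud hu1
      (fun Y hY => congrArg Subtype.val (hE.mul_comm ⟨(u : R K V), huE⟩ ⟨Y, hY⟩)) _ huE
    apply hu1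
    apply Equiv.ext
    intro X
    have hc : (u : R K V) * X = X * u := by rw [hs, smul_mul_assoc, one_mul, mul_smul_comm, mul_one]
    rw [cj_apply, hc, mul_assoc, Units.mul_inv, mul_one]
    rfl

theorem sing_low (h : Fr (SLX K V) A S) {E : Subalgebra K (R K V)} (hE : IsField E) (hd : finrank K E = finrank K V)
    (hSE : ∀ f ∈ S, ∀ X ∈ E, f X ∈ E) :
    Nat.card K ^ finrank K V - 1 ≤ (Nat.card K - 1) * (finrank K V).gcd (Nat.card K - 1) * Nat.card A := by
  haveI := h.nontriv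
  have hfin : Finite (R K V) := finite_R
  obtain ⟨U, hU, hU1, hU2⟩ := card_unit_le hE hd
  have h1 : U.map (cj K V) ≤ A := by
    rw [← sing_eq h hE hd hSE]
    rintro _ ⟨u, hu, rfl⟩
    obtain ⟨huE, hud⟩ := hU u hu
    refine ⟨cj_mem hud, mem_StS_of ?_⟩
    intro Y hY
    have h2 : (u : R K V) * Y = Y * u := congrArg Subtype.val (hE.mul_comm ⟨(u : R K V), huE⟩ ⟨Y, hY⟩)
    have h3 : cj K V u Y = Y := by rw [cj_apply, h2, mul_assoc, Units.mul_inv, mul_one]
    rw [h3]
    exact hY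
  have h2 : Nat.card (U.map (cj K V)) ≤ Nat.card A := Subgroup.card_le_of_le h1
  calc _ ≤ (Nat.card K - 1) * Nat.card U := hU1
    _ ≤ (Nat.card K - 1) * ((finrank K V).gcd (Nat.card K - 1) * Nat.card (U.map (cj K V))) := Nat.mul_le_mul_left _ hU2
    _ ≤ (Nat.card K - 1) * ((finrank K V).gcd (Nat.card K - 1) * Nat.card A) :=
        Nat.mul_le_mul_left _ (Nat.mul_le_mul_left _ h2)
    _ = _ := by ring

theorem fix_one_of_cj {x : (R K V)ˣ} {Y : R K V} : cj K V x Y = Y ↔ (x : R K V) * Y = Y * x := by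
  rw [cj_apply]
  constructor
  · intro h1
    have h2 := congrArg (fun Z => Z * (x : R K V)) h1
    simp only [mul_assoc, Units.inv_mul, mul_one] at h2
    exact h2
  · intro h1
    rw [h1, mul_assoc, Units.mul_inv, mul_one]

/-- the fixed points of `f` on `A` embed in `Gal(E/K)` if `f` inverts the elements of `A` centralizing `E` -/
theorem card_le_of_inv (h : Fr (SLX K V) A S) {E : Subalgebra K (R K V)} (hE : IsField E)
    (hd : finrank K E = finrank K V) (hSE : ∀ f ∈ S, ∀ X ∈ E, f X ∈ E) {f : Equiv.Perm (R K V)}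
    (hinv : ∀ x : (R K V)ˣ, (x : R K V) ∈ E → cj K V x ∈ A → f * cj K V x = cj K V x * f → cj K V x = 1) :
    Nat.card {a // a ∈ A ∧ f * a = a * f} ≤ finrank K V := by
  classical
  haveI := h.nontriv
  have hfin : Finite (R K V) := finite_R
  let iE : Field E := hE.toField
  have : Finite E := inferInstance
  have hres : ∀ a : {a // a ∈ A ∧ f * a = a * f}, ∃ g : E →ₐ[K] E, ∀ X : E, (g X : R K V) = (a : Equiv.Perm (R K V)) X := by
    rintro ⟨a, ha, -⟩
    obtain ⟨x, -, rfl⟩ := h.AX ha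
    have hE' : ∀ X ∈ E, cj K V x X ∈ E := hSE _ (h.AS ha)
    refine ⟨AlgHom.ofLinearMap
      { toFun := fun X => ⟨cj K V x X, hE' X X.2⟩
        map_add' := fun X Y => Subtype.ext ((cj_mem_RP x).1 X Y)
        map_smul' := fun s X => Subtype.ext (by
          change (x : R K V) * (s • (X : R K V)) * ((x⁻¹ : (R K V)ˣ) : R K V) = s • (cj K V x X)
          rw [mul_smul_comm, smul_mul_assoc, cj_apply]) } ?_ ?_, fun X => rfl⟩
    · apply Subtype.ext
      change (x : R K V) * (1 : R K V) * ((x⁻¹ : (R K V)ˣ) : R K V) = 1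
      rw [mul_one, Units.mul_inv]
    · intro X Y
      exact Subtype.ext ((cj_mem_RP x).2 X Y)
  choose g hg using hres
  have hcard : Nat.card (E →ₐ[K] E) ≤ finrank K V := by
    rw [← hd]
    exact card_algHom_le_finrank K E E
  have : Finite (E →ₐ[K] E) := Finite.of_injective (fun φ : E →ₐ[K] E => (φ : E → E)) DFunLike.coe_injective
  refine le_trans (Nat.card_le_card_of_injective g ?_) hcard
  intro a b hab
  apply Subtype.ext
  have h1 : ∀ X ∈ E, (a : Equiv.Perm (R K V)) X = (b : Equiv.Perm (R K V)) X := by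
    intro X hX
    have h2 := congrArg (fun φ : E →ₐ[K] E => ((φ ⟨X, hX⟩ : E) : R K V)) hab
    simp only [hg] at h2
    exact h2
  -- `b⁻¹ a` centralizes `E`
  have h2 : (b : Equiv.Perm (R K V))⁻¹ * a ∈ A := A.mul_mem (A.inv_mem b.2.1) a.2.1
  obtain ⟨x, hx, hxab⟩ := h.AX h2
  have h3 : ∀ X ∈ E, cj K V x X = X := by
    intro X hX
    rw [hxab, Equiv.Perm.mul_apply, h1 X hX]
    exact (b : Equiv.Perm (R K V)).symm_apply_apply X
  have h4 : (x : R K V) ∈ E := mem_of_comm hE hd (fun X hX => fix_one_of_cj.1 (h3 X hX))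
  have h5 : f * cj K V x = cj K V x * f := by
    rw [hxab]
    have hb : f * (b : Equiv.Perm (R K V))⁻¹ = (b : Equiv.Perm (R K V))⁻¹ * f := by
      rw [mul_inv_eq_iff_eq_mul, mul_assoc, b.2.2, inv_mul_cancel_left]
    rw [← mul_assoc, hb, mul_assoc, a.2.2, mul_assoc]
  have h6 := hinv x h4 (by rw [hxab]; exact h2) h5
  rw [hxab] at h6
  exact (inv_mul_eq_one.1 h6).symm

theorem sing_up_graph (h : Fr (SLX K V) A S) {E : Subalgebra K (R K V)} (hE : IsField E)
    (hd : finrank K E = finrank K V) (hSE : ∀ f ∈ S, ∀ X ∈ E, f X ∈ E) (hn : Odd (finrank K V))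
    {f : Equiv.Perm (R K V)} (hf : f ∈ S) (hff : f * f = 1) (hanti : ∀ X Y, f (X * Y) = f Y * f X)
    (hlin : ∀ (s : K) X, f (s • X) = s • f X) : Nat.card {a // a ∈ A ∧ f * a = a * f} ≤ finrank K V := by
  classical
  haveI := h.nontriv
  have hfin : Finite (R K V) := finite_R
  let iE : Field E := hE.toField
  have : Finite E := inferInstance
  have hadd : ∀ X Y, f (X + Y) = f X + f Y := (h.hS hf).1
  have hffX : ∀ X, f (f X) = X := fun X => by rw [← Equiv.Perm.mul_apply, hff]; rfl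
  have hone : f 1 = 1 := by
    calc f 1 = f 1 * 1 := (mul_one _).symm
      _ = f 1 * f (f 1) := by rw [hffX]
      _ = f (f 1 * 1) := (hanti _ _).symm
      _ = 1 := by rw [mul_one, hffX]
  let φ : E →ₐ[K] E := AlgHom.ofLinearMap
      { toFun := fun X => ⟨f X, hSE f hf X X.2⟩
        map_add' := fun X Y => Subtype.ext (hadd X Y)
        map_smul' := fun s X => Subtype.ext (hlin s X) } (Subtype.ext hone) (fun X Y => by
          rw [hE.mul_comm X Y]
          exact Subtype.ext (hanti Y X))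
  have hφφ : φ.comp φ = AlgHom.id K E := by
    apply AlgHom.ext
    intro X
    exact Subtype.ext (hffX X)
  let ψ : E ≃ₐ[K] E := AlgEquiv.ofAlgHom φ φ hφφ hφφ
  have hψ : ψ ^ 2 = 1 := by
    rw [pow_two]
    apply AlgEquiv.ext
    intro X
    exact Subtype.ext (hffX X)
  have hgal : Nat.card (E ≃ₐ[K] E) = finrank K V := by
    rw [← hd]
    exact IsGalois.card_aut_eq_finrank K E
  have hψ1 : ψ = 1 := by
    have h1 : orderOf ψ ∣ 2 := orderOf_dvd_of_pow_eq_one hψ
    have h2 : orderOf ψ ∣ finrank K V := by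
      rw [← hgal]
      exact orderOf_dvd_natCard ψ
    exact orderOf_eq_one_iff.1 (Nat.eq_one_of_dvd_coprimes (Nat.coprime_two_left.2 hn) h1 h2)
  have hfix : ∀ X ∈ E, f X = X := by
    intro X hX
    have h1 := congrArg (fun ρ : E ≃ₐ[K] E => ((ρ ⟨X, hX⟩ : E) : R K V)) hψ1
    exact h1
  refine card_le_of_inv h hE hd hSE ?_
  intro x hx hxA hfx
  -- `f` inverts `cj x`
  have h1 : f * cj K V x = (cj K V x)⁻¹ * f := by
    apply Equiv.ext
    intro X
    rw [Equiv.Perm.mul_apply, Equiv.Perm.mul_apply, ← map_inv, cj_apply, cj_apply, inv_inv, hanti, hanti, hfix _ hx]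
    have hxi : ((x⁻¹ : (R K V)ˣ) : R K V) ∈ E := by
      apply mem_of_comm hE hd
      intro Y hY
      have h2 : (x : R K V) * Y = Y * x := congrArg Subtype.val (hE.mul_comm ⟨(x : R K V), hx⟩ ⟨Y, hY⟩)
      calc ((x⁻¹ : (R K V)ˣ) : R K V) * Y = ((x⁻¹ : (R K V)ˣ) : R K V) * (Y * x) * ((x⁻¹ : (R K V)ˣ) : R K V) := by
            rw [mul_assoc, mul_assoc, Units.mul_inv, mul_one]
        _ = ((x⁻¹ : (R K V)ˣ) : R K V) * ((x : R K V) * Y) * ((x⁻¹ : (R K V)ˣ) : R K V) := by rw [h2]
        _ = Y * ((x⁻¹ : (R K V)ˣ) : R K V) := by rw [← mul_assoc, Units.inv_mul, one_mul]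
    rw [hfix _ hxi, mul_assoc]
  rw [h1] at hfx
  have h2 : (cj K V x) ^ 2 = 1 := by
    have h3 := mul_right_cancel hfx
    rw [pow_two]
    nth_rewrite 1 [← h3]
    rw [inv_mul_cancel]
  exact h.even_contra hxA 1 h2

end low

end Cfsg.Agent.H5.IFO
end

-- part: H204/IFO/Inv
section
/-!
# S5719, block ODD: the inverting element of a group of symplectic type (helper204)

`X` a finite subgroup of the units of an `F`-algebra `𝓐`, `u ^ r = 1` on `X` (`r` an odd prime, `r ≠ 0` in `F`), the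
commutators of `X` are scalars and the centre of `X` consists of scalars.  Then there is `g ∈ 𝓐`, `g² = 1`, with
`u g u ∈ F g` for all `u ∈ X`; `g` commutes with the centralizer of `X` and is fixed by every anti-automorphism
inverting `X`.  For a pair `h, k` with `h k = c k h` : `J = (1/r) ∑ k⁻ⁱ hʲ k⁻ⁱ`.
-/

set_option autoImplicit false
set_option linter.unusedSectionVars false

namespace Cfsg.Agent.H204.IFO.Inv

open Finset

section E

variable {M : Type*} [Monoid M] {r : ℕ} [NeZero r]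

/-- `x ^ a`, `a ∈ ZMod r` -/
def E (x : M) (a : ZMod r) : M := x ^ a.val

theorem E_zero (x : M) : E x (0 : ZMod r) = 1 := by
  rw [E, ZMod.val_zero, pow_zero]

theorem E_add {x : M} (hx : x ^ r = 1) (a b : ZMod r) : E x (a + b) = E x a * E x b := by
  rw [E, E, E, ZMod.val_add, ← pow_eq_pow_mod _ hx, pow_add]

theorem E_one {x : M} (hx : x ^ r = 1) : E x (1 : ZMod r) = x := by
  rw [E, ZMod.val_one_eq_one_mod, ← pow_eq_pow_mod _ hx, pow_one]

theorem E_mul {x : M} (hx : x ^ r = 1) (a b : ZMod r) : E x (a * b) = x ^ (a.val * b.val) := by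
  rw [E, ZMod.val_mul, ← pow_eq_pow_mod _ hx]

end E

section alg

variable {F 𝓐 : Type*} [Field F] [Ring 𝓐] [Algebra F 𝓐]

/-- `h ^ m k ^ n = c ^ (m n) k ^ n h ^ m` -/
theorem pow_comm {h k : 𝓐} {c : F} (hk : h * k = c • (k * h)) (m n : ℕ) :
    h ^ m * k ^ n = c ^ (m * n) • (k ^ n * h ^ m) := by
  have h1 : ∀ n : ℕ, h * k ^ n = c ^ n • (k ^ n * h) := by
    intro n
    induction n with
    | zero => simp
    | succ n ih =>
      rw [pow_succ, ← mul_assoc, ih, smul_mul_assoc, mul_assoc, hk, mul_smul_comm, smul_smul, pow_succ, mul_assoc]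
  induction m with
  | zero => simp
  | succ m ih =>
    rw [pow_succ, mul_assoc, h1, mul_smul_comm, ← mul_assoc, ih, smul_mul_assoc, smul_smul, mul_assoc, ← pow_add]
    congr 2
    ring

variable {r : ℕ} [NeZero r]

theorem E_comm {h k : 𝓐} {c : F} (hk : h * k = c • (k * h)) (hc : c ^ r = 1) (a b : ZMod r) :
    E h a * E k b = E c (a * b) • (E k b * E h a) := by
  rw [E_mul hc]
  exact pow_comm hk _ _

/-- the projection on the fixed space of `h` -/
noncomputable def P (F : Type*) [Field F] {𝓐 : Type*} [Ring 𝓐] [Algebra F 𝓐] (r : ℕ) [NeZero r] (h : 𝓐) : 𝓐 :=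
  (r : F)⁻¹ • ∑ j : ZMod r, E h j

/-- the element inverting `h` and `k` -/
noncomputable def J (F : Type*) [Field F] {𝓐 : Type*} [Ring 𝓐] [Algebra F 𝓐] (r : ℕ) [NeZero r] (h k : 𝓐) : 𝓐 :=
  ∑ i : ZMod r, E k (-i) * P F r h * E k (-i)

theorem mul_P {h : 𝓐} (hh : h ^ r = 1) : h * P F r h = P F r h := by
  rw [P, mul_smul_comm, mul_sum]
  congr 1
  have h1 : ∀ j : ZMod r, h * E h j = E h (1 + j) := fun j => by rw [E_add hh, E_one hh]
  rw [sum_congr rfl fun j _ => h1 j]
  exact Fintype.sum_equiv (Equiv.addLeft (1 : ZMod r)) _ _ fun j => rfl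

theorem P_mul {h : 𝓐} (hh : h ^ r = 1) : P F r h * h = P F r h := by
  rw [P, smul_mul_assoc, sum_mul]
  congr 1
  have h1 : ∀ j : ZMod r, E h j * h = E h (j + 1) := fun j => by rw [E_add hh, E_one hh]
  rw [sum_congr rfl fun j _ => h1 j]
  exact Fintype.sum_equiv (Equiv.addRight (1 : ZMod r)) _ _ fun j => rfl

theorem E_mul_P {h : 𝓐} (hh : h ^ r = 1) (a : ZMod r) : E h a * P F r h = P F r h := by
  rw [E]
  generalize a.val = n
  induction n with
  | zero => rw [pow_zero, one_mul]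
  | succ n ih => rw [pow_succ, mul_assoc, mul_P hh, ih]

theorem P_mul_P (hr : (r : F) ≠ 0) {h : 𝓐} (hh : h ^ r = 1) : P F r h * P F r h = P F r h := by
  nth_rewrite 1 [P]
  rw [smul_mul_assoc, sum_mul, sum_congr rfl fun j _ => E_mul_P (F := F) hh j, sum_const, card_univ, ZMod.card,
    ← Nat.cast_smul_eq_nsmul F, smul_smul, inv_mul_cancel₀ hr, one_smul]

variable {h k : 𝓐} {c : F}

/-- `c` is a primitive `r`-th root of unity -/
theorem E_ne_one (hrp : r.Prime) (hc : c ^ r = 1) (hc1 : c ≠ 1) {a : ZMod r} (ha : a ≠ 0) : E c a ≠ 1 := by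
  intro h1
  have h2 : orderOf c = r := by
    rcases (Nat.dvd_prime hrp).1 (orderOf_dvd_of_pow_eq_one hc) with h2 | h2
    · exact absurd (orderOf_eq_one_iff.1 h2) hc1
    · exact h2
  have h3 : r ∣ a.val := (dvd_of_eq h2.symm).trans (orderOf_dvd_of_pow_eq_one h1)
  have h4 : a.val = 0 := Nat.eq_zero_of_dvd_of_lt h3 (ZMod.val_lt a)
  exact ha ((ZMod.val_eq_zero a).1 h4)

theorem sum_E (hrp : r.Prime) (hc : c ^ r = 1) (hc1 : c ≠ 1) {a : ZMod r} (ha : a ≠ 0) :
    ∑ i : ZMod r, E c (i * a) = 0 := by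
  have h1 : E c a * ∑ i : ZMod r, E c (i * a) = ∑ i : ZMod r, E c (i * a) := by
    rw [mul_sum]
    have h2 : ∀ i : ZMod r, E c a * E c (i * a) = E c ((1 + i) * a) := fun i => by
      rw [← E_add hc]
      congr 1
      ring
    rw [sum_congr rfl fun i _ => h2 i]
    exact Fintype.sum_equiv (Equiv.addLeft (1 : ZMod r)) _ _ fun j => rfl
  have h2 : (E c a - 1) * ∑ i : ZMod r, E c (i * a) = 0 := by
    rw [sub_mul, h1, one_mul, sub_self]
  exact (mul_eq_zero.1 h2).resolve_left (sub_ne_zero.2 (E_ne_one hrp hc hc1 ha))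

theorem P_E_P (hrp : r.Prime) (hh : h ^ r = 1) (hk : h * k = c • (k * h)) (hc : c ^ r = 1)
    (hc1 : c ≠ 1) {a : ZMod r} (ha : a ≠ 0) : P F r h * E k a * P F r h = 0 := by
  have h1 : P F r h * E k a * P F r h = E c a • (P F r h * E k a * P F r h) := by
    have h2 : h * E k a = E c a • (E k a * h) := by
      have := E_comm (r := r) hk hc 1 a
      rwa [E_one hh, one_mul] at this
    calc P F r h * E k a * P F r h = P F r h * h * E k a * P F r h := by rw [P_mul hh]
      _ = P F r h * (h * E k a) * P F r h := by rw [mul_assoc (P F r h) h]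
      _ = E c a • (P F r h * (E k a * (h * P F r h))) := by
        rw [h2, mul_smul_comm, smul_mul_assoc]
        congr 1
        simp only [mul_assoc]
      _ = E c a • (P F r h * E k a * P F r h) := by rw [mul_P hh, mul_assoc]
  have h2 : (E c a - 1) • (P F r h * E k a * P F r h) = 0 := by
    rw [sub_smul, one_smul, ← h1, sub_self]
  exact (smul_eq_zero.1 h2).resolve_left (sub_ne_zero.2 (E_ne_one hrp hc hc1 ha))

theorem sum_conj (hrp : r.Prime) (hr : (r : F) ≠ 0) (hkr : k ^ r = 1) (hk : h * k = c • (k * h))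
    (hc : c ^ r = 1) (hc1 : c ≠ 1) : ∑ i : ZMod r, E k (-i) * P F r h * E k i = 1 := by
  have h1 : ∀ i : ZMod r, E k (-i) * P F r h * E k i = (r : F)⁻¹ • ∑ j : ZMod r, E c (i * j) • E h j := by
    intro i
    rw [P, mul_smul_comm, smul_mul_assoc, mul_sum, sum_mul]
    congr 1
    refine sum_congr rfl fun j _ => ?_
    rw [mul_assoc, E_comm hk hc, mul_smul_comm, ← mul_assoc, ← E_add hkr, neg_add_cancel, E_zero, one_mul, mul_comm j i]
  rw [sum_congr rfl fun i _ => h1 i, ← smul_sum, sum_comm, sum_eq_single 0]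
  · rw [sum_congr rfl fun i _ => by rw [mul_zero, E_zero, one_smul], sum_const, card_univ, ZMod.card,
      ← Nat.cast_smul_eq_nsmul F, smul_smul, inv_mul_cancel₀ hr, one_smul, E_zero]
  · intro j _ hj
    rw [← sum_smul, sum_E hrp hc hc1 hj, zero_smul]
  · intro h0
    exact absurd (mem_univ _) h0

theorem J_sq (hrp : r.Prime) (hr : (r : F) ≠ 0) (hh : h ^ r = 1) (hkr : k ^ r = 1) (hk : h * k = c • (k * h))
    (hc : c ^ r = 1) (hc1 : c ≠ 1) : J F r h k * J F r h k = 1 := by
  rw [← sum_conj hrp hr hkr hk hc hc1]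
  nth_rewrite 1 [J]
  rw [sum_mul]
  refine sum_congr rfl fun i _ => ?_
  rw [J, mul_sum, sum_eq_single (-i)]
  · rw [neg_neg]
    calc E k (-i) * P F r h * E k (-i) * (E k i * P F r h * E k i)
        = E k (-i) * (P F r h * (E k (-i) * E k i) * P F r h) * E k i := by simp only [mul_assoc]
      _ = E k (-i) * P F r h * E k i := by rw [← E_add hkr, neg_add_cancel, E_zero, mul_one, P_mul_P hr hh]
  · intro j _ hj
    have h1 : -i + -j ≠ 0 := by
      intro h2
      exact hj (neg_eq_iff_eq_neg.1 (eq_neg_of_add_eq_zero_right h2 : -j = - -i) |>.trans (by rw [neg_neg]))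
    calc E k (-i) * P F r h * E k (-i) * (E k (-j) * P F r h * E k (-j))
        = E k (-i) * (P F r h * (E k (-i) * E k (-j)) * P F r h) * E k (-j) := by simp only [mul_assoc]
      _ = 0 := by rw [← E_add hkr, P_E_P hrp hh hk hc hc1 h1, mul_zero, zero_mul]
  · intro h0
    exact absurd (mem_univ _) h0

/-- `J` inverts `k` -/
theorem mul_J_mul_k (hkr : k ^ r = 1) : k * J F r h k * k = J F r h k := by
  rw [J, mul_sum, sum_mul]
  have h1 : ∀ i : ZMod r, k * (E k (-i) * P F r h * E k (-i)) * k = E k (1 + -i) * P F r h * E k (1 + -i) := fun i => by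
    rw [E_add hkr, E_one hkr]
    have h2 : k * E k (-i) = E k (-i) * k := by rw [E, ← pow_succ', pow_succ]
    simp only [mul_assoc, h2]
    rw [← mul_assoc k (E k (-i)), h2, mul_assoc]
  rw [sum_congr rfl fun i _ => h1 i]
  refine Fintype.sum_equiv (Equiv.subRight (1 : ZMod r)) _ _ fun i => ?_
  have h2 : 1 + -i = -(i - 1) := by ring
  rw [Equiv.subRight_apply, h2]

/-- `J` inverts `h` -/
theorem mul_J_mul_h (hh : h ^ r = 1) (hk : h * k = c • (k * h)) (hc : c ^ r = 1) :
    h * J F r h k * h = J F r h k := by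
  rw [J, mul_sum, sum_mul]
  refine sum_congr rfl fun i _ => ?_
  have h2 : h * E k (-i) = E c (-i) • (E k (-i) * h) := by
    have := E_comm (r := r) hk hc 1 (-i)
    rwa [E_one hh, one_mul] at this
  have h3 : E k (-i) * h = E c i • (h * E k (-i)) := by
    rw [h2, smul_smul, ← E_add hc, add_neg_cancel, E_zero, one_smul]
  calc h * (E k (-i) * P F r h * E k (-i)) * h = (h * E k (-i)) * P F r h * (E k (-i) * h) := by simp only [mul_assoc]
    _ = (E c (-i) • (E k (-i) * h)) * P F r h * (E c i • (h * E k (-i))) := by rw [← h2, ← h3]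
    _ = (E c (-i) * E c i) • (E k (-i) * (h * P F r h * h) * E k (-i)) := by
      rw [mul_comm (E c (-i)) (E c i)]
      simp only [smul_mul_assoc, mul_smul_comm, smul_smul, mul_assoc]
    _ = E k (-i) * P F r h * E k (-i) := by
      rw [← E_add hc, neg_add_cancel, E_zero, one_smul, mul_P hh, P_mul hh]

theorem E_commute {x : 𝓐} (hx : Commute x h) (a : ZMod r) : Commute x (E h a) := hx.pow_right _

theorem P_commute {x : 𝓐} (hx : Commute x h) : Commute x (P F r h) := by
  rw [P]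
  exact (Commute.sum_right _ _ _ fun j _ => E_commute hx j).smul_right _

theorem J_commute {x : 𝓐} (hx : Commute x h) (hx' : Commute x k) : Commute x (J F r h k) := by
  rw [J]
  exact Commute.sum_right _ _ _ fun j _ => ((E_commute hx' _).mul_right (P_commute hx)).mul_right (E_commute hx' _)

/-- an anti-automorphism -/
theorem star_pow {s : 𝓐 →+ 𝓐} (hs : ∀ x y, s (x * y) = s y * s x) (hs1 : s 1 = 1) (x : 𝓐) (n : ℕ) :
    s (x ^ n) = s x ^ n := by
  induction n with
  | zero => rw [pow_zero, pow_zero, hs1]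
  | succ n ih => rw [pow_succ, hs, ih, ← pow_succ']

theorem star_E {s : 𝓐 →+ 𝓐} (hs : ∀ x y, s (x * y) = s y * s x) (hs1 : s 1 = 1) (hh : h ^ r = 1) (hsh : s h * h = 1)
    (a : ZMod r) : s (E h a) = E h (-a) := by
  have h1 : s (E h a) = E (s h) a := star_pow hs hs1 _ _
  have hcm : Commute (s h) h := by
    have h2 : h * h ^ (r - 1) = 1 := by
      rw [← pow_succ', Nat.sub_add_cancel (NeZero.pos r), hh]
    have h3 : s h = h ^ (r - 1) := by
      calc s h = s h * (h * h ^ (r - 1)) := by rw [h2, mul_one]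
        _ = h ^ (r - 1) := by rw [← mul_assoc, hsh, one_mul]
    rw [h3]
    exact (Commute.refl h).pow_left _
  have h2 : E (s h) a * E h a = 1 := by
    rw [E, E, ← hcm.mul_pow, hsh, one_pow]
  have h3 : E h a * E h (-a) = 1 := by rw [← E_add hh, add_neg_cancel, E_zero]
  rw [h1]
  calc E (s h) a = E (s h) a * (E h a * E h (-a)) := by rw [h3, mul_one]
    _ = E h (-a) := by rw [← mul_assoc, h2, one_mul]

theorem star_P (hr : (r : F) ≠ 0) {s : 𝓐 →+ 𝓐} (hs : ∀ x y, s (x * y) = s y * s x) (hs1 : s 1 = 1) (hh : h ^ r = 1)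
    (hsh : s h * h = 1) : s (P F r h) = P F r h := by
  have h1 : (r : F) • P F r h = ∑ j : ZMod r, E h j := by
    rw [P, smul_smul, mul_inv_cancel₀ hr, one_smul]
  have h2 : (r : F) • s (P F r h) = ∑ j : ZMod r, E h j := by
    rw [Nat.cast_smul_eq_nsmul, ← map_nsmul, ← Nat.cast_smul_eq_nsmul F, h1, map_sum,
      sum_congr rfl fun j _ => star_E hs hs1 hh hsh j]
    exact Fintype.sum_equiv (Equiv.neg (ZMod r)) _ _ fun j => rfl
  rw [← h1] at h2
  calc s (P F r h) = (r : F)⁻¹ • ((r : F) • s (P F r h)) := by rw [smul_smul, inv_mul_cancel₀ hr, one_smul]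
    _ = P F r h := by rw [h2, smul_smul, inv_mul_cancel₀ hr, one_smul]

theorem star_J (hr : (r : F) ≠ 0) {s : 𝓐 →+ 𝓐} (hs : ∀ x y, s (x * y) = s y * s x) (hs1 : s 1 = 1) (hh : h ^ r = 1)
    (hkr : k ^ r = 1) (hsh : s h * h = 1) (hsk : s k * k = 1) : s (J F r h k) = J F r h k := by
  rw [J, map_sum]
  refine Fintype.sum_equiv (Equiv.neg (ZMod r)) _ _ fun i => ?_
  rw [hs, hs, star_E hs hs1 hkr hsk, star_P hr hs hs1 hh hsh, mul_assoc, Equiv.neg_apply]

end alg

section main

variable {F 𝓐 : Type*} [Field F] [Ring 𝓐] [Nontrivial 𝓐] [Algebra F 𝓐] {r : ℕ}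

/-- commutator scalars are `r`-th roots of unity -/
theorem root_of {h k : 𝓐ˣ} {c : F} (hh : h ^ r = 1) (hk : (h : 𝓐) * k = c • ((k : 𝓐) * h)) : c ^ r = 1 := by
  have h1 := pow_comm hk r 1
  have h2 : ((h : 𝓐)) ^ r = 1 := by rw [← Units.val_pow_eq_pow_val, hh, Units.val_one]
  rw [h2, pow_one, one_mul, mul_one, mul_one] at h1
  have h3 : (c ^ r - 1) • (k : 𝓐) = 0 := by rw [sub_smul, one_smul, ← h1, sub_self]
  rcases smul_eq_zero.1 h3 with h4 | h4
  · exact sub_eq_zero.1 h4
  · exact absurd h4 k.ne_zero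

/-- **The inverting element.** -/
theorem exists_inv [NeZero r] (hrp : r.Prime) (hr : (r : F) ≠ 0) (n : ℕ) : ∀ (X : Subgroup 𝓐ˣ) [Finite X],
    Nat.card X ≤ n → (∀ u ∈ X, u ^ r = 1) → (∀ u ∈ X, ∀ v ∈ X, ∃ c : F, (u : 𝓐) * v = c • ((v : 𝓐) * u)) →
    (∀ z ∈ X, (∀ u ∈ X, z * u = u * z) → ∃ c : F, (z : 𝓐) = c • (1 : 𝓐)) →
    ∃ g : 𝓐, g * g = 1 ∧ (∀ u ∈ X, ∃ c : F, c ≠ 0 ∧ (u : 𝓐) * g * u = c • g) ∧
      (∀ x : 𝓐, (∀ u ∈ X, Commute x (u : 𝓐)) → Commute x g) ∧
      (∀ s : 𝓐 →+ 𝓐, (∀ x y, s (x * y) = s y * s x) → s 1 = 1 → (∀ u ∈ X, s (u : 𝓐) * u = 1) → s g = g) := by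
  induction n with
  | zero =>
    intro X _ hX
    exact absurd hX (by have := Nat.card_pos (α := X); omega)
  | succ n ih =>
    intro X _ hX h1 h2 h3
    by_cases hcom : ∀ h ∈ X, ∀ k ∈ X, h * k = k * h
    · refine ⟨1, one_mul 1, fun u hu => ?_, fun x _ => Commute.one_right x, fun s _ h _ => h⟩
      obtain ⟨c, hc⟩ := h3 u hu (hcom u hu)
      refine ⟨c * c, ?_, ?_⟩
      · intro h4
        have h5 : c = 0 := mul_self_eq_zero.1 h4
        rw [h5, zero_smul] at hc
        exact u.ne_zero hc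
      · rw [hc, mul_one, smul_mul_smul_comm, one_mul]
    push Not at hcom
    obtain ⟨h, hh, k, hk, hne⟩ := hcom
    obtain ⟨c, hc⟩ := h2 h hh k hk
    have hc1 : c ≠ 1 := by
      rintro rfl
      rw [one_smul] at hc
      exact hne (Units.ext hc)
    have hcr : c ^ r = 1 := root_of (h1 h hh) hc
    have hhr : (h : 𝓐) ^ r = 1 := by rw [← Units.val_pow_eq_pow_val, h1 h hh, Units.val_one]
    have hkr : (k : 𝓐) ^ r = 1 := by rw [← Units.val_pow_eq_pow_val, h1 k hk, Units.val_one]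
    -- the centralizer
    let X₁ : Subgroup 𝓐ˣ := X ⊓ Subgroup.centralizer ({h, k} : Set 𝓐ˣ)
    have hm : ∀ u : 𝓐ˣ, u ∈ X₁ ↔ u ∈ X ∧ u * h = h * u ∧ u * k = k * u := by
      intro u
      rw [Subgroup.mem_inf, Subgroup.mem_centralizer_iff]
      constructor
      · rintro ⟨h4, h5⟩
        exact ⟨h4, (h5 h (by simp)).symm, (h5 k (by simp)).symm⟩
      · rintro ⟨h4, h5, h6⟩
        refine ⟨h4, ?_⟩
        rintro x (rfl | rfl)
        · exact h5.symm
        · exact h6.symm
    have hle : X₁ ≤ X := inf_le_left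
    have hlt : X₁ < X := by
      refine lt_of_le_of_ne hle ?_
      intro h4
      have h5 : h ∈ X₁ := by rw [h4]; exact hh
      exact hne ((hm h).1 h5).2.2
    have : Finite X₁ := Finite.of_injective _ (Subgroup.inclusion_injective hle)
    have hcard : Nat.card X₁ ≤ n := by
      have h4 : Nat.card X₁ < Nat.card X := by
        have := Set.ncard_lt_ncard (SetLike.coe_ssubset_coe.2 hlt) (Set.toFinite (X : Set 𝓐ˣ))
        rwa [← Nat.card_coe_set_eq, ← Nat.card_coe_set_eq] at this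
      omega
    -- every element is a product
    have hdec : ∀ u ∈ X, ∃ m l : ℕ, h ^ m * k ^ l * u ∈ X₁ := by
      intro u hu
      obtain ⟨a, ha⟩ := h2 h hh u hu
      obtain ⟨b, hb⟩ := h2 k hk u hu
      have har : a ^ r = 1 := root_of (h1 h hh) ha
      have hbr : b ^ r = 1 := root_of (h1 k hk) hb
      have hprim : IsPrimitiveRoot c r := by
        have h4 : orderOf c = r := by
          rcases (Nat.dvd_prime hrp).1 (orderOf_dvd_of_pow_eq_one hcr) with h4 | h4
          · exact absurd (orderOf_eq_one_iff.1 h4) hc1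
          · exact h4
        rw [← h4]
        exact IsPrimitiveRoot.orderOf c
      obtain ⟨l, -, hl⟩ := hprim.eq_pow_of_pow_eq_one (ξ := a⁻¹) (by rw [inv_pow, har, inv_one])
      obtain ⟨m, -, hm'⟩ := hprim.eq_pow_of_pow_eq_one (ξ := b) hbr
      have ha0 : a ≠ 0 := by
        rintro rfl
        rw [zero_pow hrp.ne_zero] at har
        exact zero_ne_one har
      have hc0 : c ≠ 0 := by
        rintro rfl
        rw [zero_pow hrp.ne_zero] at hcr
        exact zero_ne_one hcr
      refine ⟨m, l, (hm _).2 ⟨X.mul_mem (X.mul_mem (X.pow_mem hh _) (X.pow_mem hk _)) hu, ?_, ?_⟩⟩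
      · apply Units.ext
        push_cast
        have e1 : (h : 𝓐) * (k : 𝓐) ^ l = c ^ l • ((k : 𝓐) ^ l * h) := by
          have := pow_comm hc 1 l
          rwa [pow_one, one_mul] at this
        symm
        calc (h : 𝓐) * ((h : 𝓐) ^ m * (k : 𝓐) ^ l * u) = (h : 𝓐) ^ m * ((h : 𝓐) * (k : 𝓐) ^ l) * u := by
              rw [← mul_assoc, ← mul_assoc, ← pow_succ', pow_succ]
              simp only [mul_assoc]
          _ = c ^ l • ((h : 𝓐) ^ m * (k : 𝓐) ^ l * ((h : 𝓐) * u)) := by
              rw [e1]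
              simp only [smul_mul_assoc, mul_smul_comm, mul_assoc]
          _ = (h : 𝓐) ^ m * (k : 𝓐) ^ l * u * h := by
              rw [ha, mul_smul_comm, smul_smul, hl, inv_mul_cancel₀ ha0, one_smul]
              simp only [mul_assoc]
      · apply Units.ext
        push_cast
        have e1 : (h : 𝓐) ^ m * (k : 𝓐) = c ^ m • ((k : 𝓐) * (h : 𝓐) ^ m) := by
          have := pow_comm hc m 1
          rwa [pow_one, mul_one] at this
        have e2 : (k : 𝓐) * (h : 𝓐) ^ m = (c ^ m)⁻¹ • ((h : 𝓐) ^ m * k) := by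
          rw [e1, smul_smul, inv_mul_cancel₀ (pow_ne_zero _ hc0), one_smul]
        symm
        calc (k : 𝓐) * ((h : 𝓐) ^ m * (k : 𝓐) ^ l * u) = ((k : 𝓐) * (h : 𝓐) ^ m) * (k : 𝓐) ^ l * u := by
              simp only [mul_assoc]
          _ = (c ^ m)⁻¹ • ((h : 𝓐) ^ m * (k : 𝓐) ^ l * ((k : 𝓐) * u)) := by
              rw [e2]
              simp only [smul_mul_assoc, mul_assoc]
              rw [← mul_assoc (k : 𝓐) ((k : 𝓐) ^ l), ← pow_succ', pow_succ]
              simp only [mul_assoc]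
          _ = (h : 𝓐) ^ m * (k : 𝓐) ^ l * u * k := by
              rw [hb, mul_smul_comm, smul_smul, hm', inv_mul_cancel₀ (by
                rw [← hm']
                exact pow_ne_zero _ hc0), one_smul]
              simp only [mul_assoc]
    obtain ⟨g₁, e1, e2, e3, e4⟩ := ih X₁ hcard (fun u hu => h1 u (hle hu)) (fun u hu v hv => h2 u (hle hu) v (hle hv)) (by
      intro z hz hzc
      refine h3 z (hle hz) fun u hu => ?_
      obtain ⟨m, l, hml⟩ := hdec u hu
      have h4 := hzc _ hml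
      have h5 : Commute z (h ^ m * k ^ l) :=
        (Commute.pow_right ((hm z).1 hz).2.1 m).mul_right (Commute.pow_right ((hm z).1 hz).2.2 l)
      have h6 : Commute z ((h ^ m * k ^ l)⁻¹ * (h ^ m * k ^ l * u)) := h5.inv_right.mul_right h4
      rwa [inv_mul_cancel_left] at h6)
    have hJ1 : ∀ u ∈ X₁, Commute (J F r (h : 𝓐) k) (u : 𝓐) := fun u hu => by
      have h4 := (hm u).1 hu
      exact (J_commute (congrArg Units.val h4.2.1) (congrArg Units.val h4.2.2)).symm
    have hJg : Commute (J F r (h : 𝓐) k) g₁ := e3 _ hJ1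
    have hhg : Commute (h : 𝓐) g₁ := e3 _ fun u hu => (congrArg Units.val ((hm u).1 hu).2.1).symm
    have hkg : Commute (k : 𝓐) g₁ := e3 _ fun u hu => (congrArg Units.val ((hm u).1 hu).2.2).symm
    have hJJ := J_sq hrp hr hhr hkr hc hcr hc1
    have hgg : J F r (h : 𝓐) k * g₁ * (J F r (h : 𝓐) k * g₁) = 1 := by
      rw [mul_assoc, ← mul_assoc g₁, ← hJg.eq, mul_assoc, e1, mul_one, hJJ]
    have hg0 : J F r (h : 𝓐) k * g₁ ≠ 0 := by
      intro h4
      rw [h4, mul_zero] at hgg
      exact zero_ne_one hgg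
    -- the elements inverted by `g`
    have gmul : ∀ u ∈ X, ∀ v ∈ X, (∃ c : F, c ≠ 0 ∧ (u : 𝓐) * (J F r (h : 𝓐) k * g₁) * u = c • (J F r (h : 𝓐) k * g₁)) →
        (∃ c : F, c ≠ 0 ∧ (v : 𝓐) * (J F r (h : 𝓐) k * g₁) * v = c • (J F r (h : 𝓐) k * g₁)) →
        ∃ c : F, c ≠ 0 ∧ ((u * v : 𝓐ˣ) : 𝓐) * (J F r (h : 𝓐) k * g₁) * (u * v : 𝓐ˣ) = c • (J F r (h : 𝓐) k * g₁) := by
      rintro u hu v hv ⟨a, ha0, ha⟩ ⟨b, hb0, hb⟩
      obtain ⟨e, he⟩ := h2 u hu v hv
      have he0 : e ≠ 0 := by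
        rintro rfl
        rw [zero_smul, ← Units.val_mul] at he
        exact (u * v).ne_zero he
      refine ⟨e * (b * a), mul_ne_zero he0 (mul_ne_zero hb0 ha0), ?_⟩
      push_cast
      calc (u : 𝓐) * v * (J F r (h : 𝓐) k * g₁) * (u * v) = u * (v * (J F r (h : 𝓐) k * g₁)) * (e • ((v : 𝓐) * u)) := by
            rw [← he]
            simp only [mul_assoc]
        _ = e • (u * (v * (J F r (h : 𝓐) k * g₁) * v) * u) := by
            rw [mul_smul_comm]
            simp only [mul_assoc]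
        _ = (e * (b * a)) • (J F r (h : 𝓐) k * g₁) := by
            rw [hb, mul_smul_comm, smul_mul_assoc, ha, smul_smul, smul_smul, mul_assoc]
    have ginv : ∀ u : 𝓐ˣ, (∃ c : F, c ≠ 0 ∧ (u : 𝓐) * (J F r (h : 𝓐) k * g₁) * u = c • (J F r (h : 𝓐) k * g₁)) →
        ∃ c : F, c ≠ 0 ∧ ((u⁻¹ : 𝓐ˣ) : 𝓐) * (J F r (h : 𝓐) k * g₁) * (u⁻¹ : 𝓐ˣ) = c • (J F r (h : 𝓐) k * g₁) := by
      rintro u ⟨a, ha0, ha⟩
      refine ⟨a⁻¹, inv_ne_zero ha0, ?_⟩
      have h5 : J F r (h : 𝓐) k * g₁ = a⁻¹ • ((u : 𝓐) * (J F r (h : 𝓐) k * g₁) * u) := by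
        rw [ha, smul_smul, inv_mul_cancel₀ ha0, one_smul]
      nth_rewrite 1 [h5]
      rw [mul_smul_comm, smul_mul_assoc]
      congr 1
      rw [mul_assoc (u : 𝓐), Units.inv_mul_cancel_left, mul_assoc, Units.mul_inv, mul_one]
    have gone : ∃ c : F, c ≠ 0 ∧ ((1 : 𝓐ˣ) : 𝓐) * (J F r (h : 𝓐) k * g₁) * (1 : 𝓐ˣ) = c • (J F r (h : 𝓐) k * g₁) :=
      ⟨1, one_ne_zero, by rw [Units.val_one, one_mul, mul_one, one_smul]⟩
    have gh : ∃ c : F, c ≠ 0 ∧ (h : 𝓐) * (J F r (h : 𝓐) k * g₁) * h = c • (J F r (h : 𝓐) k * g₁) := by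
      refine ⟨1, one_ne_zero, ?_⟩
      rw [one_smul, mul_assoc, mul_assoc, ← hhg.eq, ← mul_assoc, ← mul_assoc, mul_J_mul_h hhr hc hcr]
    have gk : ∃ c : F, c ≠ 0 ∧ (k : 𝓐) * (J F r (h : 𝓐) k * g₁) * k = c • (J F r (h : 𝓐) k * g₁) := by
      refine ⟨1, one_ne_zero, ?_⟩
      rw [one_smul, mul_assoc, mul_assoc, ← hkg.eq, ← mul_assoc, ← mul_assoc, mul_J_mul_k hkr]
    have gpow : ∀ v ∈ X, (∃ c : F, c ≠ 0 ∧ (v : 𝓐) * (J F r (h : 𝓐) k * g₁) * v = c • (J F r (h : 𝓐) k * g₁)) →
        ∀ m : ℕ, ∃ c : F, c ≠ 0 ∧ ((v ^ m : 𝓐ˣ) : 𝓐) * (J F r (h : 𝓐) k * g₁) * (v ^ m : 𝓐ˣ) =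
          c • (J F r (h : 𝓐) k * g₁) := by
      intro v hv h4 m
      induction m with
      | zero => rw [pow_zero]; exact gone
      | succ m ihm =>
        rw [pow_succ]
        exact gmul _ (X.pow_mem hv m) v hv ihm h4
    refine ⟨J F r (h : 𝓐) k * g₁, hgg, fun u hu => ?_, fun x hx => ?_, fun s hs hs1 hsu => ?_⟩
    · obtain ⟨m, l, hml⟩ := hdec u hu
      have h4 : ∃ c : F, c ≠ 0 ∧ ((h ^ m * k ^ l * u : 𝓐ˣ) : 𝓐) * (J F r (h : 𝓐) k * g₁) * (h ^ m * k ^ l * u : 𝓐ˣ) =
          c • (J F r (h : 𝓐) k * g₁) := by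
        obtain ⟨a, ha0, ha⟩ := e2 _ hml
        refine ⟨a, ha0, ?_⟩
        rw [← mul_assoc, ← (hJ1 _ hml).eq, mul_assoc, mul_assoc, ← mul_assoc _ g₁, ha, mul_smul_comm]
      have h5 := gmul _ (X.inv_mem (X.mul_mem (X.pow_mem hh m) (X.pow_mem hk l))) _ (hle hml)
        (ginv _ (gmul _ (X.pow_mem hh m) _ (X.pow_mem hk l) (gpow h hh gh m) (gpow k hk gk l))) h4
      rwa [inv_mul_cancel_left] at h5
    · exact (J_commute (hx h hh) (hx k hk)).mul_right (e3 x fun u hu => hx u (hle hu))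
    · rw [hs, e4 s hs hs1 fun u hu => hsu u (hle hu), star_J hr hs hs1 hhr hkr (hsu h hh) (hsu k hk), hJg.eq]

end main

end Cfsg.Agent.H204.IFO.Inv
end

-- part: H204/IFO/CSix
section
/-!
# S5719, block ODD: the inverting element for `C6Data`, `r` odd (helper204)

* `c6_inv` : `g ∈ SL(V)`, `g² = 1`, inverting `A`;
* `c6_inv_isom` : the same with `g` an isometry of `b`, for `S ≤ RB b`.
-/

set_option autoImplicit false
set_option linter.unusedSectionVars false

namespace Cfsg.Agent.H204.IFO.CSix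

open Cfsg.Agent.H198.FC Cfsg.Agent.H886.FC Cfsg.Agent.H204.IFO.Inv Module

universe u v

section

variable {K : Type u} [Field K] {V : Type v} [AddCommGroup V] [Module K V]

/-- the product formula in class two -/
theorem mul_pow_of {u v : (R K V)ˣ} {c : K} (hc : (u : R K V) * v = c • ((v : R K V) * u)) (n : ℕ) :
    ∃ m : ℕ, 2 * m = n * (n - 1) ∧ (u : R K V) ^ n * (v : R K V) ^ n = c ^ (m + n) • ((v : R K V) * u) ^ n := by
  induction n with
  | zero => exact ⟨0, rfl, by simp⟩
  | succ n ih =>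
    obtain ⟨m, hm, h⟩ := ih
    refine ⟨m + n, ?_, ?_⟩
    · rw [Nat.add_sub_cancel]
      rcases n with - | n
      · omega
      · rw [Nat.add_sub_cancel] at hm
        linarith [hm]
    · have h1 : (u : R K V) * (v : R K V) ^ n = c ^ n • ((v : R K V) ^ n * u) := by
        have := pow_comm hc 1 n
        rwa [pow_one, one_mul] at this
      calc (u : R K V) ^ (n + 1) * (v : R K V) ^ (n + 1) = (u : R K V) ^ n * ((u : R K V) * (v : R K V) ^ n) * v := by
            rw [pow_succ, pow_succ]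
            simp only [mul_assoc]
        _ = c ^ n • (((u : R K V) ^ n * (v : R K V) ^ n) * ((u : R K V) * v)) := by
            rw [h1]
            simp only [smul_mul_assoc, mul_smul_comm, mul_assoc]
        _ = c ^ (m + n + (n + 1)) • ((v : R K V) * u) ^ (n + 1) := by
            rw [h, hc, smul_mul_smul_comm, smul_smul, ← pow_succ]
            congr 1
            ring

/-- the scalar of a commutator -/
theorem exists_comm {A : Subgroup (Equiv.Perm (R K V))} (hA : ∀ f ∈ A, ∀ g ∈ A, f * g = g * f) {u v : (R K V)ˣ}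
    (hu : cj K V u ∈ A) (hv : cj K V v ∈ A) : ∃ c : K, (u : R K V) * v = c • ((v : R K V) * u) := by
  have h1 : cj K V (u * v * (v * u)⁻¹) = 1 := by
    rw [map_mul, map_inv, map_mul, map_mul, hA _ hu _ hv, mul_inv_cancel]
  obtain ⟨c, hc⟩ := cj_eq_one h1
  refine ⟨c, ?_⟩
  have h2 : (u : R K V) * v = ((u * v * (v * u)⁻¹ : (R K V)ˣ) : R K V) * ((v * u : (R K V)ˣ) : R K V) := by
    rw [← Units.val_mul, ← Units.val_mul, inv_mul_cancel_right]
  rw [h2, hc, smul_mul_assoc, one_mul, Units.val_mul]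

variable [Nontrivial V]

theorem scal_ne {c : K} {x : (R K V)ˣ} (h : (x : R K V) = c • (1 : R K V)) : c ≠ 0 := by
  rintro rfl
  rw [zero_smul] at h
  exact x.ne_zero h

/-- product formula, `r` odd -/
theorem mul_pow_root {r : ℕ} (hr : Odd r) {u v : (R K V)ˣ} {c : K} (hc : (u : R K V) * v = c • ((v : R K V) * u))
    (hcr : c ^ r = 1) : (u * v) ^ r = u ^ r * v ^ r := by
  have hc0 : c ≠ 0 := by
    rintro rfl
    rw [zero_smul, ← Units.val_mul] at hc
    exact (u * v).ne_zero hc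
  have hc' : (v : R K V) * u = c⁻¹ • ((u : R K V) * v) := by
    rw [hc, smul_smul, inv_mul_cancel₀ hc0, one_smul]
  obtain ⟨m, hm, h⟩ := mul_pow_of hc r
  have h2 : c ^ m = 1 := by
    obtain ⟨s, hs⟩ := hr
    have h3 : m = r * s := by
      have h4 : r - 1 = 2 * s := by omega
      rw [h4] at hm
      linarith only [hm]
    rw [h3, pow_mul, hcr, one_pow]
  apply Units.ext
  push_cast
  rw [h, pow_add, h2, hcr, one_mul, one_smul, hc, smul_pow, hcr, one_smul]

end

section data

variable {K : Type u} [Field K] {V : Type v} [AddCommGroup V] [Module K V] [Nontrivial V]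
  {S A : Subgroup (Equiv.Perm (R K V))} {r a : ℕ}

/-- the scalars of commutators are `r`-th roots of unity -/
theorem root {u v : (R K V)ˣ} (hu : cj K V u ^ r = 1) {c : K} (hc : (u : R K V) * v = c • ((v : R K V) * u)) :
    c ^ r = 1 := by
  rw [← map_pow] at hu
  obtain ⟨d, hd⟩ := cj_eq_one hu
  have hd0 : d ≠ 0 := scal_ne hd
  have h1 := pow_comm hc r 1
  rw [pow_one, ← Units.val_pow_eq_pow_val, hd, smul_mul_assoc, one_mul, mul_smul_comm, mul_one, mul_one, smul_smul] at h1
  have h3 : ((c ^ r - 1) * d) • (v : R K V) = 0 := by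
    rw [sub_mul, one_mul, sub_smul, ← h1, sub_self]
  rcases smul_eq_zero.1 h3 with h4 | h4
  · exact sub_eq_zero.1 ((mul_eq_zero.1 h4).resolve_right hd0)
  · exact absurd h4 v.ne_zero

/-- the lifts of order `r` -/
def X (hr : Odd r) (A : Subgroup (Equiv.Perm (R K V))) (hA : ∀ f ∈ A, ∀ g ∈ A, f * g = g * f)
    (hAr : ∀ f ∈ A, f ^ r = 1) : Subgroup (R K V)ˣ where
  carrier := {u | cj K V u ∈ A ∧ u ^ r = 1}
  one_mem' := ⟨by rw [map_one]; exact A.one_mem, one_pow r⟩
  mul_mem' := by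
    rintro u v ⟨hu, hu'⟩ ⟨hv, hv'⟩
    refine ⟨by rw [map_mul]; exact A.mul_mem hu hv, ?_⟩
    obtain ⟨c, hc⟩ := exists_comm hA hu hv
    rw [mul_pow_root hr hc (root (hAr _ hu) hc), hu', hv', one_mul]
  inv_mem' := by
    rintro u ⟨hu, hu'⟩
    exact ⟨by rw [map_inv]; exact A.inv_mem hu, by rw [inv_pow, hu', inv_one]⟩

/-- every element of `A` has a lift of order `r` -/
theorem map_X [Finite K] [Module.Finite K V] (hS : S ≤ RA K V) (hrp : r.Prime) (hr : Odd r)
    (hA : ∀ f ∈ A, ∀ g ∈ A, f * g = g * f) (hAr : ∀ f ∈ A, f ^ r = 1) (hAI : A ≤ IN K V)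
    (hn : ∀ g ∈ S, ∀ f ∈ A, g * f * g⁻¹ ∈ A) (hcard : r < Nat.card A)
    (hmin : ∀ B : Subgroup (Equiv.Perm (R K V)), B ≤ A → (∀ g ∈ S, ∀ f ∈ B, g * f * g⁻¹ ∈ B) → B = ⊥ ∨ B = A) :
    (X hr A hA hAr).map (cj K V) = A := by
  have : NeZero r := ⟨hrp.ne_zero⟩
  have : Finite (R K V) := Module.finite_of_finite K
  rcases hmin ((X hr A hA hAr).map (cj K V)) (by
    rintro _ ⟨u, hu, rfl⟩
    exact hu.1) (by
    rintro g hg _ ⟨u, hu, rfl⟩
    have h1 : (fU g (hS hg) u) ^ r = 1 := by
      apply Units.ext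
      rw [Units.val_pow_eq_pow_val]
      show (g (u : R K V)) ^ r = 1
      rw [← ra_pow (hS hg), ← Units.val_pow_eq_pow_val, hu.2, Units.val_one, ra_one (hS hg)]
    rcases (hS hg).2 with h | h
    · rw [conj_cj_rp (hS hg) h]
      exact ⟨_, ⟨fU_mem (hS hg) (hn g hg) hu.1, h1⟩, rfl⟩
    · rw [conj_cj_anti (hS hg) h, ← map_inv]
      exact ⟨_, (X hr A hA hAr).inv_mem ⟨fU_mem (hS hg) (hn g hg) hu.1, h1⟩, rfl⟩) with h0 | h0
  swap
  · exact h0
  exfalso
  -- pigeonhole
  obtain ⟨γ, hγ⟩ := IsCyclic.exists_generator (α := Kˣ)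
  have hlift : ∀ f : A, ∃ (x : (R K V)ˣ) (m : ℕ), cj K V x = f ∧ ((x ^ r : (R K V)ˣ) : R K V) =
      ((γ ^ m : Kˣ) : K) • (1 : R K V) := by
    rintro ⟨f, hf⟩
    obtain ⟨x, hx⟩ := hAI hf
    have h1 : cj K V (x ^ r) = 1 := by rw [map_pow, hx, hAr f hf]
    obtain ⟨c, hc⟩ := cj_eq_one h1
    have hc0 : c ≠ 0 := scal_ne hc
    obtain ⟨m, hm⟩ : ∃ m : ℕ, γ ^ m = Units.mk0 c hc0 := by
      have h2 := hγ (Units.mk0 c hc0)
      rw [← mem_powers_iff_mem_zpowers] at h2
      exact Submonoid.mem_powers_iff _ _ |>.1 h2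
    refine ⟨x, m, hx, ?_⟩
    rw [hm, hc, Units.val_mk0]
  choose x m hx hm using hlift
  have hinj : Function.Injective fun f : A => (m f : ZMod r) := by
    intro f g hfg
    have h1 : ∃ t : ℤ, (m f : ℤ) - m g = r * t := by
      have h2 : ((m f : ℤ) : ZMod r) = ((m g : ℤ) : ZMod r) := by simpa only [_root_.Int.cast_natCast] using hfg
      exact (ZMod.intCast_eq_intCast_iff_dvd_sub _ _ _).1 h2.symm
    obtain ⟨t, ht⟩ := h1
    -- the corrected quotient
    have hs : ∀ e : Kˣ, ∃ y : (R K V)ˣ, (y : R K V) = (e : K) • (1 : R K V) := fun e =>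
      ⟨⟨(e : K) • 1, ((e⁻¹ : Kˣ) : K) • 1, by rw [smul_mul_smul_comm, ← Units.val_mul, mul_inv_cancel, one_mul,
        Units.val_one, one_smul], by rw [smul_mul_smul_comm, ← Units.val_mul, inv_mul_cancel, one_mul,
        Units.val_one, one_smul]⟩, rfl⟩
    obtain ⟨y, hy⟩ := hs (γ ^ (-t))
    have hxf : cj K V (x f) ∈ A := by rw [hx]; exact f.2
    have hxg : cj K V (x g)⁻¹ ∈ A := by rw [map_inv, hx]; exact A.inv_mem g.2
    have hyc : cj K V y = 1 := cj_scalar hy
    obtain ⟨c, hc⟩ := exists_comm hA hxf hxg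
    have h3 : (x f * (x g)⁻¹) ^ r = x f ^ r * (x g)⁻¹ ^ r := mul_pow_root hr hc (root (hAr _ hxf) hc)
    have hyC : ∀ z : (R K V)ˣ, y * z = z * y := by
      intro z
      apply Units.ext
      rw [Units.val_mul, Units.val_mul, hy, smul_mul_assoc, one_mul, mul_smul_comm, mul_one]
    have h4 : (y * (x f * (x g)⁻¹)) ^ r = 1 := by
      rw [(show Commute y (x f * (x g)⁻¹) from hyC _).mul_pow, h3, inv_pow, ← mul_assoc, mul_inv_eq_one]
      apply Units.ext
      rw [Units.val_mul, Units.val_pow_eq_pow_val, hy, hm, hm, smul_pow, one_pow, smul_mul_smul_comm, mul_one,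
        ← Units.val_pow_eq_pow_val, ← Units.val_mul]
      congr 2
      rw [← zpow_natCast, ← zpow_mul, ← zpow_natCast, ← zpow_add, ← zpow_natCast]
      congr 1
      linarith only [ht]
    have h5 : cj K V (y * (x f * (x g)⁻¹)) ∈ (X hr A hA hAr).map (cj K V) := by
      refine ⟨_, ⟨?_, h4⟩, rfl⟩
      rw [map_mul, hyc, one_mul, map_mul]
      exact A.mul_mem hxf hxg
    rw [h0, Subgroup.mem_bot, map_mul, hyc, one_mul, map_mul, map_inv, hx, hx, mul_inv_eq_one] at h5
    exact Subtype.ext h5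
  have h6 := Nat.card_le_card_of_injective _ hinj
  rw [Nat.card_zmod] at h6
  omega

/-- an element commuting with the lifts of order `r` is a scalar -/
theorem central_of {hr : Odd r} {hA : ∀ f ∈ A, ∀ g ∈ A, f * g = g * f} {hAr : ∀ f ∈ A, f ^ r = 1}
    (hX : (X hr A hA hAr).map (cj K V) = A)
    (hsp : Submodule.span K {X : R K V | ∃ x : (R K V)ˣ, (x : R K V) = X ∧ cj K V x ∈ A} = ⊤) {z : R K V}
    (hz : ∀ u ∈ X hr A hA hAr, z * (u : R K V) = u * z) : ∃ c : K, z = c • (1 : R K V) := by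
  apply exists_scalar_of_central
  intro Y
  have hY : Y ∈ Submodule.span K {X : R K V | ∃ x : (R K V)ˣ, (x : R K V) = X ∧ cj K V x ∈ A} := by
    rw [hsp]; trivial
  induction hY using Submodule.span_induction with
  | mem Y hY =>
    obtain ⟨x, rfl, hx⟩ := hY
    rw [← hX] at hx
    obtain ⟨u, hu, hux⟩ := hx
    have h1 : cj K V (x * u⁻¹) = 1 := by rw [map_mul, map_inv, hux, mul_inv_cancel]
    obtain ⟨c, hc⟩ := cj_eq_one h1
    have h2 : (x : R K V) = c • (u : R K V) := by
      have h3 : (x : R K V) = ((x * u⁻¹ : (R K V)ˣ) : R K V) * u := by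
        rw [← Units.val_mul, inv_mul_cancel_right]
      rw [h3, hc, smul_mul_assoc, one_mul]
    rw [h2, mul_smul_comm, smul_mul_assoc, hz u hu]
  | zero => rw [mul_zero, zero_mul]
  | add Y Y' _ _ h h' => rw [mul_add, add_mul, h, h']
  | smul c Y _ h => rw [mul_smul_comm, smul_mul_assoc, h]

omit [Nontrivial V] in
theorem nontrivial_of (h : C6Data S A r a) : Nontrivial V := by
  apply Module.nontrivial_of_finrank_pos (R := K)
  rw [h.2.2.1]
  exact pow_pos h.1.pos _

theorem card_lt (h : C6Data S A r a) : r < Nat.card A := by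
  rw [h.2.2.2.2.2.1]
  calc r < r ^ 2 := by nlinarith [h.1.two_le]
    _ ≤ r ^ (2 * a) := Nat.pow_le_pow_right h.1.pos (by have := h.2.1; omega)

theorem map_X' [Finite K] [Module.Finite K V] (hS : S ≤ RA K V) (h : C6Data S A r a) (hr : Odd r) :
    (X hr A h.2.2.2.2.2.2.2.1 h.2.2.2.2.2.2.1).map (cj K V) = A :=
  map_X hS h.1 hr _ _ h.2.2.2.2.1 h.2.2.2.2.2.2.2.2.2.1 (card_lt h) h.2.2.2.2.2.2.2.2.2.2

/-- the lifts of order `r` do not commute -/
theorem exists_noncomm [Finite K] [Module.Finite K V] (hS : S ≤ RA K V) (h : C6Data S A r a) (hr : Odd r) :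
    ∃ u : (R K V)ˣ, cj K V u ∈ A ∧ u ^ r = 1 ∧ ∃ v : (R K V)ˣ, cj K V v ∈ A ∧ v ^ r = 1 ∧
      ∃ c : K, (u : R K V) * v = c • ((v : R K V) * u) ∧ c ^ r = 1 ∧ c ≠ 1 := by
  by_contra hcon
  push Not at hcon
  have hAr := h.2.2.2.2.2.2.1
  have hA := h.2.2.2.2.2.2.2.1
  have h1 : ∀ f ∈ A, f = 1 := by
    intro f hf
    rw [← map_X' hS h hr] at hf
    obtain ⟨u, hu, rfl⟩ := hf
    obtain ⟨c, hc⟩ := central_of (z := (u : R K V)) (map_X' hS h hr) h.2.2.2.2.2.2.2.2.1 fun v hv => by
      obtain ⟨c, hc⟩ := exists_comm hA hu.1 hv.1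
      have hcr := root (hAr _ hu.1) hc
      rw [hcon u hu.1 hu.2 v hv.1 hv.2 c hc hcr, one_smul] at hc
      exact hc
    exact cj_scalar hc
  have h2 : Nat.card A = 1 := by
    rw [Nat.card_eq_one_iff_unique]
    exact ⟨⟨fun x y => Subtype.ext (by rw [h1 x x.2, h1 y y.2])⟩, ⟨1⟩⟩
  have h3 := card_lt h
  have h4 := h.1.two_le
  omega

theorem cast_ne [Finite K] [Module.Finite K V] (hS : S ≤ RA K V) (h : C6Data S A r a) (hr : Odd r) : (r : K) ≠ 0 := by
  intro h0
  obtain ⟨u, -, -, v, -, -, c, -, hcr, hc1⟩ := exists_noncomm hS h hr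
  have : Fact r.Prime := ⟨h.1⟩
  have h1 : ringChar K ∣ r := (ringChar.spec K r).1 h0
  have h2 : ringChar K = r := by
    rcases (Nat.dvd_prime h.1).1 h1 with h2 | h2
    · exact absurd h2 (CharP.ringChar_ne_one (R := K))
    · exact h2
  have : CharP K r := ringChar.of_eq h2
  have h3 : (c - 1) ^ r = 0 := by rw [sub_pow_char, hcr, one_pow, sub_self]
  exact hc1 (sub_eq_zero.1 (pow_eq_zero_iff h.1.ne_zero |>.1 h3))

/-- the inverting element, general form -/
theorem c6_core [Finite K] [Module.Finite K V] (hS : S ≤ RA K V) (h : C6Data S A r a) (hr : Odd r) :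
    ∃ g : R K V, g * g = 1 ∧
      (∀ u : (R K V)ˣ, cj K V u ∈ A → u ^ r = 1 → ∃ c : K, c ≠ 0 ∧ (u : R K V) * g * u = c • g) ∧
      (∀ s : R K V →+ R K V, (∀ x y, s (x * y) = s y * s x) → s 1 = 1 →
        (∀ u : (R K V)ˣ, cj K V u ∈ A → u ^ r = 1 → s (u : R K V) * u = 1) → s g = g) := by
  have : NeZero r := ⟨h.1.ne_zero⟩
  have : Finite (R K V) := Module.finite_of_finite K
  have hAr := h.2.2.2.2.2.2.1
  have hA := h.2.2.2.2.2.2.2.1
  obtain ⟨g, e1, e2, -, e4⟩ := exists_inv (F := K) h.1 (cast_ne hS h hr) _ (X hr A hA hAr) le_rfl (fun u hu => hu.2)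
    (fun u hu v hv => exists_comm hA hu.1 hv.1) (fun z hz hzc => central_of (map_X' hS h hr) h.2.2.2.2.2.2.2.2.1
      fun u hu => congrArg Units.val (hzc u hu))
  exact ⟨g, e1, fun u hu hu' => e2 u ⟨hu, hu'⟩, fun s hs hs1 hsu => e4 s hs hs1 fun u hu => hsu u hu.1 hu.2⟩

theorem inverts [Finite K] [Module.Finite K V] (hS : S ≤ RA K V) (h : C6Data S A r a) (hr : Odd r) {g : (R K V)ˣ}
    (hg : g * g = 1) (hgu : ∀ u : (R K V)ˣ, cj K V u ∈ A → u ^ r = 1 → ∃ c : K, c ≠ 0 ∧ (u : R K V) * g * u = c • (g : R K V))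
    {f : Equiv.Perm (R K V)} (hf : f ∈ A) : cj K V g * f * (cj K V g)⁻¹ = f⁻¹ := by
  rw [← map_X' hS h hr] at hf
  obtain ⟨u, hu, rfl⟩ := hf
  obtain ⟨c, -, hc⟩ := hgu u hu.1 hu.2
  rw [eq_inv_iff_mul_eq_one, ← map_inv, ← map_mul, ← map_mul, ← map_mul]
  have hgi : g⁻¹ = g := inv_eq_of_mul_eq_one_left hg
  refine cj_scalar (c := c) ?_
  rw [hgi]
  push_cast
  calc (g : R K V) * u * g * u = g * ((u : R K V) * g * u) := by simp only [mul_assoc]
    _ = c • (1 : R K V) := by rw [hc, mul_smul_comm, ← Units.val_mul, hg, Units.val_one]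

end data

/-- **The inverting element of determinant one.** -/
theorem c6_inv {K : Type u} [Field K] [Finite K] {V : Type v} [AddCommGroup V] [Module K V] [Module.Finite K V]
    {S A : Subgroup (Equiv.Perm (R K V))} {r a : ℕ} (hS : S ≤ RA K V) (h : C6Data S A r a) (hr2 : r ≠ 2) :
    ∃ g : (R K V)ˣ, g * g = 1 ∧ LinearMap.det (g : R K V) = 1 ∧
      ∀ f ∈ A, cj K V g * f * (cj K V g)⁻¹ = f⁻¹ := by
  have : Nontrivial V := nontrivial_of h
  have hr : Odd r := h.1.odd_of_ne_two hr2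
  obtain ⟨g, e1, e2, -⟩ := c6_core hS h hr
  have hd : LinearMap.det g * LinearMap.det g = 1 := by rw [← map_mul, e1, map_one]
  have hd0 : LinearMap.det g ≠ 0 := fun h0 => by
    rw [h0, mul_zero] at hd
    exact zero_ne_one hd
  have e1' : (LinearMap.det g • g) * (LinearMap.det g • g) = 1 := by
    rw [smul_mul_smul_comm, hd, one_smul, e1]
  let g' : (R K V)ˣ := ⟨LinearMap.det g • g, LinearMap.det g • g, e1', e1'⟩
  have hg' : g' * g' = 1 := Units.ext e1'
  refine ⟨g', hg', ?_, fun f hf => inverts hS h hr hg' (fun u hu hu' => ?_) hf⟩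
  · show LinearMap.det (LinearMap.det g • g) = 1
    rw [LinearMap.det_smul, h.2.2.1]
    obtain ⟨s, hs⟩ := hr.pow (n := a)
    rw [hs, pow_succ, pow_mul, pow_two, hd, one_pow, one_mul, hd]
  · obtain ⟨c, hc0, hc⟩ := e2 u hu hu'
    refine ⟨c, hc0, ?_⟩
    show (u : R K V) * (LinearMap.det g • g) * u = c • (LinearMap.det g • g)
    rw [mul_smul_comm, smul_mul_assoc, hc, smul_comm]

end Cfsg.Agent.H204.IFO.CSix
end

private theorem dce_f8dbf7e6a1af : _root_.True := by
  try have : _root_.True := by simp only [_root_.Cfsg.Agent.H204.IFO.Inv.P.eq_1]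
  try have : _root_.True := by simp only [_root_.Cfsg.Agent.H204.IFO.Inv.J.eq_1]
  try have : _root_.True := by simp only [_root_.Cfsg.Agent.H204.IFO.Inv.E.eq_1]
  try have : _root_.True := by simp only [_root_.Cfsg.Agent.H204.IFO.Inv.P.congr_simp]
  try have : _root_.True := by simp only [_root_.Cfsg.Agent.H204.IFO.Inv.J.congr_simp]
  exact _root_.True.intro
end

-- part: H66/IFU/Three_mg
section
prune_inst 0x55000600140000000002514702000000400002000000800808201400000800004820000080000061200010100040000000000800040000004000000000401000000800080080000000000000100000000000000000000000000000000010000200000000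
set_option linter.all false
open scoped Cfsg.Agent.FastGrp

-- part: H66/IFU/Fin
section
/-!
# S5719, `PSU_3(q)`, `q` odd: generation (helper66)

Elements of `SUJ σ` (antidiagonal form, `σ` an involution of `F`): `up c b` (upper unitriangular), `lo b` (lower
long root element), `hd s` (torus), `t0 = diag (-1, 1, -1)`.
`conj_mem` : a subgroup containing the two opposite long root groups and elements `up (c (ω - 1)) _`, `ω` of norm one,
contains all conjugates of the unitriangular group.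
-/

set_option autoImplicit false
set_option linter.unusedSectionVars false
set_option linter.unusedVariables false

namespace Cfsg.Agent.H66.IFU

open Cfsg Matrix Cfsg.Agent.LieRecognition.PSUThreeSylow Cfsg.Agent.H961.LinePSU3

variable {F : Type*} [Field F] {σ : F →+* F}

theorem ext_mt {g h : SUJ σ} (e : g.1.1 = h.1.1) : g = h := Subtype.ext (Subtype.ext e)

theorem mt_mul (g h : SUJ σ) : (g * h).1.1 = g.1.1 * h.1.1 := rfl

theorem mt_one : (1 : SUJ σ).1.1 = 1 := rfl

/-- upper unitriangular element -/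
def up (hσ : ∀ x, σ (σ x) = x) (c b : F) (h : b + σ b + c * σ c = 0) : SUJ σ :=
  ⟨⟨umt (-σ c) b c, det_umt _ _ _⟩, umt_form hσ h⟩

theorem up_val (hσ : ∀ x, σ (σ x) = x) {c b : F} (h : b + σ b + c * σ c = 0) :
    (up hσ c b h).1.1 = umt (-σ c) b c := rfl

theorem up_mul (hσ : ∀ x, σ (σ x) = x) {c b c' b' : F} (h : b + σ b + c * σ c = 0) (h' : b' + σ b' + c' * σ c' = 0)
    (h'' : (b + b' - σ c * c') + σ (b + b' - σ c * c') + (c + c') * σ (c + c') = 0) :
    up hσ c b h * up hσ c' b' h' = up hσ (c + c') (b + b' - σ c * c') h'' := by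
  apply ext_mt
  rw [mt_mul]
  ext i j
  (revert i j; simp only [up_val, umt, Matrix.mul_apply, Fin.sum_univ_three, _root_.Fin.forall_fin_succ, _root_.Matrix.of_apply, _root_.Matrix.cons_val', _root_.Matrix.cons_val_fin_one, Fin.isValue, _root_.Matrix.cons_val_zero, _root_.Matrix.cons_val_one, _root_.Matrix.cons_val, _root_.map_add, _root_.neg_add_rev, _root_.mul_one, _root_.MulZeroClass.mul_zero, _root_.add_zero, _root_.Matrix.cons_val_succ, _root_.mul_neg, _root_.forall_const, _root_.true_and, _root_.one_mul, _root_.neg_mul, _root_.add_eq_right, _root_.neg_eq_zero, _root_.mul_eq_zero, _root_.map_eq_zero, _root_.true_or, _root_.MulZeroClass.zero_mul, _root_.zero_add, _root_.and_self, _root_.implies_true, _root_.and_true]) <;> (repeat' with_reducible apply And.intro) <;> ring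

theorem up_cond (hσ : ∀ x, σ (σ x) = x) {c b c' b' : F} (h : b + σ b + c * σ c = 0) (h' : b' + σ b' + c' * σ c' = 0) :
    (b + b' - σ c * c') + σ (b + b' - σ c * c') + (c + c') * σ (c + c') = 0 := by
  rw [map_sub, map_add, map_mul, map_add, hσ]
  linear_combination h + h'

theorem exists_up_mul (hσ : ∀ x, σ (σ x) = x) {c b c' b' : F} (h : b + σ b + c * σ c = 0)
    (h' : b' + σ b' + c' * σ c' = 0) :
    ∃ b'' h'', up hσ c b h * up hσ c' b' h' = up hσ (c + c') b'' h'' :=
  ⟨_, _, up_mul hσ h h' (up_cond hσ h h')⟩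

theorem up_inv (hσ : ∀ x, σ (σ x) = x) {c b : F} (h : b + σ b + c * σ c = 0) :
    ∃ b' h', (up hσ c b h)⁻¹ = up hσ (-c) b' h' := by
  have h' : σ b + σ (σ b) + (-c) * σ (-c) = 0 := by
    rw [hσ, map_neg]
    linear_combination h
  refine ⟨σ b, h', ?_⟩
  rw [inv_eq_iff_mul_eq_one]
  apply ext_mt
  rw [mt_mul, mt_one]
  ext i j
  (revert i j; simp only [up_val, umt, Matrix.mul_apply, Fin.sum_univ_three, _root_.Fin.forall_fin_succ, _root_.map_neg, _root_.neg_neg, _root_.Matrix.of_apply, _root_.Matrix.cons_val', _root_.Matrix.cons_val_fin_one, Fin.isValue, _root_.Matrix.cons_val_zero, _root_.Matrix.cons_val_one, _root_.Matrix.cons_val, _root_.mul_one, _root_.MulZeroClass.mul_zero, _root_.add_zero, _root_.Matrix.cons_val_succ, _root_.mul_neg, _root_.IsEmpty.forall_iff, _root_.Matrix.one_apply_eq, _root_.one_mul, _root_.add_neg_cancel, Nat.reduceAdd, _root_.Fin.succ_zero_eq_one, _root_.ne_eq, _root_.zero_ne_one, _root_.not_false_eq_true, _root_.Matrix.one_apply_ne,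 _root_.neg_mul, _root_.Fin.succ_one_eq_two, Fin.reduceEq, _root_.Fin.succ_ne_zero, _root_.MulZeroClass.zero_mul, _root_.zero_add, _root_.neg_add_cancel, _root_.neg_zero, _root_.and_true, _root_.true_and]) <;> (repeat' with_reducible apply And.intro)
  linear_combination h

/-- lower long root element -/
def lo (hσ : ∀ x, σ (σ x) = x) (b : F) (h : b + σ b = 0) : SUJ σ :=
  ⟨⟨!![1, 0, 0; 0, 1, 0; b, 0, 1], by rw [Matrix.det_fin_three]; simp⟩, by
    change (!![1, 0, 0; 0, 1, 0; b, 0, 1] : Matrix (Fin 3) (Fin 3) F)ᵀ * Jm F *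
      (!![1, 0, 0; 0, 1, 0; b, 0, 1] : Matrix (Fin 3) (Fin 3) F).map σ = Jm F
    ext i j
    (revert i j; simp only [Jm, Matrix.mul_apply, Fin.sum_univ_three, _root_.Fin.forall_fin_succ, _root_.Matrix.transpose_apply, _root_.Matrix.of_apply, _root_.Matrix.cons_val', _root_.Matrix.cons_val_fin_one, Fin.isValue, _root_.Matrix.cons_val_zero, _root_.Matrix.cons_val_one, _root_.Matrix.cons_val, _root_.Matrix.map_apply, _root_.MulZeroClass.mul_zero, _root_.add_zero, _root_.mul_one, _root_.zero_add, _root_.map_one, _root_.map_zero, _root_.Matrix.cons_val_succ, _root_.forall_const, _root_.one_mul, _root_.MulZeroClass.zero_mul, _root_.implies_true, _root_.and_true, _root_.true_and]) <;> (repeat' with_reducible apply And.intro)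
    linear_combination h⟩

theorem lo_val (hσ : ∀ x, σ (σ x) = x) {b : F} (h : b + σ b = 0) : (lo hσ b h).1.1 = !![1, 0, 0; 0, 1, 0; b, 0, 1] := rfl

/-- torus element -/
def hd (s : F) (hs : σ s = s) (h0 : s ≠ 0) : SUJ σ :=
  ⟨⟨dmat s 1 s⁻¹, by rw [det_dmat]; field_simp⟩, dmat_form (by rw [map_inv₀, hs, mul_inv_cancel₀ h0])
    (by rw [map_one, mul_one]) (by rw [hs, inv_mul_cancel₀ h0])⟩

theorem hd_val {s : F} (hs : σ s = s) (h0 : s ≠ 0) : (hd s hs h0 : SUJ σ).1.1 = dmat s 1 s⁻¹ := rfl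

/-- the involution -/
def t0 (σ : F →+* F) : SUJ σ :=
  ⟨⟨dmat (-1) 1 (-1), by rw [det_dmat]; norm_num⟩, dmat_form (by simp only [_root_.map_neg, _root_.map_one, _root_.mul_neg, _root_.mul_one, _root_.neg_neg]) (by simp) (by simp only [_root_.map_neg, _root_.map_one, _root_.mul_neg, _root_.mul_one, _root_.neg_neg])⟩

theorem t0_val : (t0 σ).1.1 = dmat (-1) 1 (-1) := rfl

/-- Weyl element -/
def wl (hσ : ∀ x, σ (σ x) = x) (e : F) (he : e + σ e = 0) (h0 : e ≠ 0) : SUJ σ :=
  ⟨⟨!![0, 0, e; 0, 1, 0; -e⁻¹, 0, 0], by rw [Matrix.det_fin_three]; simp only [_root_.Fin.isValue, _root_.Matrix.of_apply, _root_.Matrix.cons_val', _root_.Matrix.cons_val_zero, _root_.Matrix.cons_val_fin_one, _root_.Matrix.cons_val_one, _root_.mul_one, _root_.Matrix.cons_val, _root_.MulZeroClass.mul_zero, _root_.sub_self, _root_.mul_neg, _root_.MulZeroClass.zero_mul, _root_.neg_zero, _root_.add_zero, _root_.sub_neg_eq_add, _root_.zero_add]; field_simp⟩, by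
    have h1 : σ e = -e := by linear_combination he
    change (!![0, 0, e; 0, 1, 0; -e⁻¹, 0, 0] : Matrix (Fin 3) (Fin 3) F)ᵀ * Jm F *
      (!![0, 0, e; 0, 1, 0; -e⁻¹, 0, 0] : Matrix (Fin 3) (Fin 3) F).map σ = Jm F
    ext i j
    (revert i j; simp only [Jm, Matrix.mul_apply, Fin.sum_univ_three, h1, h0, _root_.Fin.forall_fin_succ, _root_.Matrix.transpose_apply, _root_.Matrix.of_apply, _root_.Matrix.cons_val', _root_.Matrix.cons_val_fin_one, Fin.isValue, _root_.Matrix.cons_val_zero, _root_.Matrix.cons_val_one, _root_.Matrix.cons_val, _root_.Matrix.map_apply, _root_.MulZeroClass.mul_zero, _root_.add_zero, _root_.mul_one, _root_.zero_add, _root_.map_zero, _root_.map_neg, _root_.map_inv₀, _root_.inv_neg, _root_.neg_neg, _root_.Matrix.cons_val_succ, _root_.map_one, _root_.mul_neg, _root_.forall_const, _root_.MulZeroClass.zero_mul, _root_.neg_mul, _root_.ne_eq, _root_.not_false_eq_true, _root_.inv_mul_cancel₀, _root_.and_self, _root_.neg_zero, _root_.mul_inv_cancel₀,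 _root_.implies_true])⟩

theorem wl_val (hσ : ∀ x, σ (σ x) = x) {e : F} (he : e + σ e = 0) (h0 : e ≠ 0) :
    (wl hσ e he h0).1.1 = !![0, 0, e; 0, 1, 0; -e⁻¹, 0, 0] := rfl

section gen

variable (hσ : ∀ x, σ (σ x) = x) {B : Subgroup (SUJ σ)}
  (h1 : ∀ b (h : b + σ b = 0), up hσ 0 b (by rw [map_zero, mul_zero, add_zero]; exact h) ∈ B)
  (h3 : ∀ b (h : b + σ b = 0), lo hσ b h ∈ B)

include h1 h3

theorem wl_mem {e : F} (he : e + σ e = 0) (h0 : e ≠ 0) : wl hσ e he h0 ∈ B := by
  have he' : -e⁻¹ + σ (-e⁻¹) = 0 := by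
    have h2 : σ e = -e := by linear_combination he
    rw [map_neg, map_inv₀, h2, inv_neg]
    ring
  have h2 : wl hσ e he h0 = up hσ 0 e (by rw [map_zero, mul_zero, add_zero]; exact he) * lo hσ (-e⁻¹) he' *
      up hσ 0 e (by rw [map_zero, mul_zero, add_zero]; exact he) := by
    apply ext_mt
    rw [mt_mul, mt_mul]
    ext i j
    (revert i j; simp only [up_val, lo_val, wl_val, umt, Matrix.mul_apply, Fin.sum_univ_three, h0, _root_.Fin.forall_fin_succ, _root_.Matrix.of_apply, _root_.Matrix.cons_val', _root_.Matrix.cons_val_fin_one, _root_.map_zero, _root_.neg_zero, _root_.Matrix.cons_mul, _root_.Nat.succ_eq_add_one, Nat.reduceAdd, _root_.Matrix.vecMul_cons, _root_.Matrix.head_cons, _root_.one_smul, _root_.Matrix.tail_cons, _root_.zero_smul, _root_.Matrix.smul_cons, _root_.smul_eq_mul, _root_.mul_neg, _root_.ne_eq, _root_.not_false_eq_true, _root_.mul_inv_cancel₀, _root_.MulZeroClass.mul_zero, _root_.mul_one, _root_.Matrix.smul_empty, _root_.Matrix.empty_vecMul,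 _root_.add_zero, _root_.zero_add, _root_.Matrix.add_cons, _root_.add_neg_cancel, _root_.Matrix.empty_add_empty, _root_.Matrix.empty_mul, _root_.Equiv.symm_apply_apply, Fin.isValue, _root_.Matrix.cons_val_zero, _root_.Matrix.cons_val_one, _root_.Matrix.cons_val, _root_.Matrix.cons_val_succ, _root_.forall_const, _root_.true_and, _root_.MulZeroClass.zero_mul, _root_.neg_mul, _root_.inv_mul_cancel₀, _root_.neg_add_cancel, _root_.implies_true, _root_.and_self])
  rw [h2]
  exact mul_mem (mul_mem (h1 e he) (h3 _ he')) (h1 e he)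

theorem hd_mem {e : F} (he : e + σ e = 0) (h0 : e ≠ 0) {s : F} (hs : σ s = s) (hs0 : s ≠ 0) : hd s hs hs0 ∈ B := by
  have he' : s * e + σ (s * e) = 0 := by
    rw [map_mul, hs]
    linear_combination s * he
  have h2 : hd s hs hs0 * wl hσ e he h0 = wl hσ (s * e) he' (mul_ne_zero hs0 h0) := by
    apply ext_mt
    rw [mt_mul]
    ext i j
    (revert i j; simp only [hd_val, wl_val, dmat, Matrix.mul_apply, Fin.sum_univ_three, _root_.Fin.forall_fin_succ, _root_.Matrix.of_apply, _root_.Matrix.cons_val', _root_.Matrix.cons_val_fin_one, Fin.isValue, _root_.Matrix.cons_val_zero, _root_.Matrix.cons_val_one, _root_.Matrix.cons_val, _root_.mul_inv_rev, _root_.MulZeroClass.mul_zero, _root_.add_zero, _root_.mul_neg, _root_.zero_add, _root_.Matrix.cons_val_succ, _root_.mul_one, _root_.forall_const, _root_.MulZeroClass.zero_mul, _root_.neg_zero, _root_.neg_inj, _root_.and_true, _root_.true_and]) <;> (repeat' with_reducible apply And.intro)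
    rw [mul_comm]
  have h4 : hd s hs hs0 = wl hσ (s * e) he' (mul_ne_zero hs0 h0) * (wl hσ e he h0)⁻¹ := by
    rw [← h2]
    group
  rw [h4]
  exact mul_mem (wl_mem hσ h1 h3 _ _) (inv_mem (wl_mem hσ h1 h3 _ _))

theorem t0_mem {e : F} (he : e + σ e = 0) (h0 : e ≠ 0) : t0 σ ∈ B := by
  have h2 : t0 σ = hd (-1) (by simp only [_root_.map_neg, _root_.map_one]) (by simp) := by
    apply ext_mt
    rw [t0_val, hd_val]
    norm_num
  rw [h2]
  exact hd_mem hσ h1 h3 he h0 _ _

omit h1 h3 in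
theorem hd_conj {s : F} (hs : σ s = s) (hs0 : s ≠ 0) {c b : F} (h : b + σ b + c * σ c = 0) :
    ∃ b' h', hd s hs hs0 * up hσ c b h * (hd s hs hs0)⁻¹ = up hσ (s * c) b' h' := by
  have h' : s ^ 2 * b + σ (s ^ 2 * b) + s * c * σ (s * c) = 0 := by
    rw [map_mul, map_mul, map_pow, hs]
    linear_combination s ^ 2 * h
  refine ⟨s ^ 2 * b, h', ?_⟩
  rw [mul_inv_eq_iff_eq_mul]
  apply ext_mt
  rw [mt_mul, mt_mul]
  ext i j
  (revert i j; simp only [hd_val, up_val, umt, dmat, Matrix.mul_apply, Fin.sum_univ_three, hs, _root_.Fin.forall_fin_succ, _root_.Matrix.of_apply, _root_.Matrix.cons_val', _root_.Matrix.cons_val_fin_one, Fin.isValue, _root_.Matrix.cons_val_zero, _root_.Matrix.cons_val_one, _root_.Matrix.cons_val, _root_.map_mul, _root_.mul_one, _root_.MulZeroClass.mul_zero, _root_.add_zero, _root_.Matrix.cons_val_succ, _root_.mul_neg, _root_.zero_add, _root_.forall_const, _root_.one_mul, _root_.MulZeroClass.zero_mul, _root_.add_eq_right, _root_.neg_eq_zero,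 _root_.mul_eq_zero, _root_.map_eq_zero, _root_.true_or, _root_.implies_true, _root_.and_true, _root_.true_and]) <;> (repeat' with_reducible apply And.intro)
  all_goals field_simp

omit h1 h3 in
/-- the set of coordinates of the unitriangular elements of `B` -/
def Db (hσ : ∀ x, σ (σ x) = x) (B : Subgroup (SUJ σ)) : AddSubgroup F where
  carrier := {c | ∃ b h, up hσ c b h ∈ B}
  zero_mem' := ⟨0, by simp, by
    have : up hσ 0 0 (by simp) = 1 := by
      apply ext_mt
      ext i j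
      (revert i j; simp only [up_val, umt, _root_.Fin.forall_fin_succ, _root_.map_zero, _root_.neg_zero, _root_.Matrix.of_apply, _root_.Matrix.cons_val', _root_.Matrix.cons_val_fin_one, _root_.OneMemClass.coe_one, _root_.Matrix.SpecialLinearGroup.coe_one, Fin.isValue, _root_.Matrix.cons_val_zero, _root_.Matrix.cons_val_succ, _root_.IsEmpty.forall_iff, _root_.and_true, _root_.Matrix.one_apply_eq, Nat.reduceAdd, _root_.Fin.succ_zero_eq_one, _root_.ne_eq, _root_.zero_ne_one, _root_.not_false_eq_true, _root_.Matrix.one_apply_ne, _root_.Fin.succ_one_eq_two, Fin.reduceEq, _root_.and_self, _root_.Fin.succ_ne_zero, _root_.true_and])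
    rw [this]
    exact one_mem _⟩
  add_mem' := by
    rintro c c' ⟨b, h, hB⟩ ⟨b', h', hB'⟩
    obtain ⟨b'', h'', e⟩ := exists_up_mul hσ h h'
    exact ⟨b'', h'', e ▸ mul_mem hB hB'⟩
  neg_mem' := by
    rintro c ⟨b, h, hB⟩
    obtain ⟨b', h', e⟩ := up_inv hσ h
    exact ⟨b', h', e ▸ inv_mem hB⟩

omit h1 h3 in
theorem mem_Db {c : F} : c ∈ Db hσ B ↔ ∃ b h, up hσ c b h ∈ B := Iff.rfl

/-- the scalars of the fixed field act -/
theorem smul_mem_Db {e : F} (he : e + σ e = 0) (h0 : e ≠ 0) {s : F} (hs : σ s = s) {c : F} (hc : c ∈ Db hσ B) :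
    s * c ∈ Db hσ B := by
  rcases eq_or_ne s 0 with rfl | hs0
  · rw [zero_mul]
    exact zero_mem _
  obtain ⟨b, h, hB⟩ := hc
  obtain ⟨b', h', e1⟩ := hd_conj hσ hs hs0 h
  have hm := hd_mem hσ h1 h3 he h0 hs hs0
  exact ⟨b', h', e1 ▸ mul_mem (mul_mem hm hB) (inv_mem hm)⟩

/-- all unitriangular elements -/
theorem up_mem {e : F} (he : e + σ e = 0) (h0 : e ≠ 0) {c w : F} (hc0 : c ≠ 0) (hw : σ w ≠ w)
    (hc : c ∈ Db hσ B) (hcw : c * w ∈ Db hσ B) (x b : F) (h : b + σ b + x * σ x = 0) : up hσ x b h ∈ B := by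
  have hw' : w - σ w ≠ 0 := fun h => hw (by linear_combination -h)
  -- every element of the field
  have hall : ∀ y : F, y ∈ Db hσ B := by
    intro y
    have hβ : σ ((y / c - σ (y / c)) / (w - σ w)) = (y / c - σ (y / c)) / (w - σ w) := by
      rw [map_div₀, map_sub, map_sub, hσ, hσ, ← neg_sub, ← neg_sub w, neg_div_neg_eq]
    have hα : σ (y / c - (y / c - σ (y / c)) / (w - σ w) * w) = y / c - (y / c - σ (y / c)) / (w - σ w) * w := by
      rw [map_sub, map_mul, hβ]
      field_simp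
      ring
    have h5 := (Db hσ B).add_mem (smul_mem_Db hσ h1 h3 he h0 hα hc) (smul_mem_Db hσ h1 h3 he h0 hβ hcw)
    have h6 : (y / c - (y / c - σ (y / c)) / (w - σ w) * w) * c + (y / c - σ (y / c)) / (w - σ w) * (c * w) = y := by
      field_simp
      ring
    rwa [h6] at h5
  obtain ⟨b', h', hB⟩ := hall x
  -- the difference is in the centre
  have hd : (b - b') + σ (b - b') = 0 := by
    rw [map_sub]
    linear_combination h - h'
  have e1 : up hσ x b h = up hσ 0 (b - b') (by rw [map_zero, mul_zero, add_zero]; exact hd) * up hσ x b' h' := by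
    apply ext_mt
    rw [mt_mul]
    ext i j
    (revert i j; simp only [up_val, umt, Matrix.mul_apply, Fin.sum_univ_three, _root_.Fin.forall_fin_succ, _root_.Matrix.of_apply, _root_.Matrix.cons_val', _root_.Matrix.cons_val_fin_one, _root_.map_zero, _root_.neg_zero, Fin.isValue, _root_.Matrix.cons_val_zero, _root_.Matrix.cons_val_one, _root_.Matrix.cons_val, _root_.mul_one, _root_.MulZeroClass.mul_zero, _root_.add_zero, _root_.Matrix.cons_val_succ, _root_.mul_neg, _root_.forall_const, _root_.true_and, _root_.one_mul, _root_.MulZeroClass.zero_mul, _root_.add_sub_cancel, _root_.and_self, _root_.right_eq_add, _root_.neg_eq_zero, _root_.mul_eq_zero, _root_.map_eq_zero, _root_.true_or, _root_.zero_add, _root_.implies_true])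
  rw [e1]
  exact mul_mem (h1 _ hd) hB

end gen

end Cfsg.Agent.H66.IFU
end

-- part: H66/IFU/Core
section
/-!
# S5719, `PSU_3(q)`, `q` odd: two involutions (helper66)

`core` : let `B ≤ SUJ σ` contain, with every involution `g t0 g⁻¹`, all elements of order `p` of the unitary group of its
hyperplane. If `B` contains `t0` and `f t0 f⁻¹` and `(f e2) 2 ≠ 0` then `B` contains all conjugates of the
unitriangular group.
-/

set_option autoImplicit false
set_option linter.unusedSectionVars false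
set_option linter.unusedVariables false

namespace Cfsg.Agent.H66.IFU

open Cfsg Matrix Cfsg.Agent.LieRecognition.PSUThreeSylow Cfsg.Agent.H961.LinePSU3

variable {F : Type*} [Field F] {σ : F →+* F}

/-- the second basis vector -/
def e2 (F : Type*) [Field F] : Fin 3 → F := ![0, 1, 0]

theorem mulVec_inv {x : SUJ σ} {v w : Fin 3 → F} (h : x.1.1 *ᵥ v = w) : (x⁻¹).1.1 *ᵥ w = v := by
  rw [← h, Matrix.mulVec_mulVec, ← mt_mul, inv_mul_cancel, mt_one, Matrix.one_mulVec]

theorem mulVec_mt (x y : SUJ σ) (v : Fin 3 → F) : (x * y).1.1 *ᵥ v = x.1.1 *ᵥ (y.1.1 *ᵥ v) := by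
  rw [mt_mul, Matrix.mulVec_mulVec]

/-- an element fixing `e1` is unitriangular -/
theorem exists_up_of_fix (hσ : ∀ x, σ (σ x) = x) {x : SUJ σ} (h : x.1.1 *ᵥ e1 F = e1 F) :
    ∃ c b hb, x = up hσ c b hb := by
  have h0 : x.1.1 0 0 = 1 := by
    have := congrFun h 0
    simpa only [e1, Matrix.mulVec, dotProduct, Fin.sum_univ_three, _root_.Fin.isValue, _root_.Matrix.mulVec, _root_.Matrix.cons_val_zero, _root_.mul_one, _root_.Matrix.cons_val_one, _root_.MulZeroClass.mul_zero, _root_.add_zero, _root_.Matrix.cons_val] using this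
  have h1 : x.1.1 1 0 = 0 := by
    have := congrFun h 1
    simpa only [e1, Matrix.mulVec, dotProduct, Fin.sum_univ_three, _root_.Fin.isValue, _root_.Matrix.mulVec, _root_.Matrix.cons_val_zero, _root_.mul_one, _root_.Matrix.cons_val_one, _root_.MulZeroClass.mul_zero, _root_.add_zero, _root_.Matrix.cons_val] using this
  have h2 : x.1.1 2 0 = 0 := by
    have := congrFun h 2
    simpa only [e1, Matrix.mulVec, dotProduct, Fin.sum_univ_three, _root_.Fin.isValue, _root_.Matrix.mulVec, _root_.Matrix.cons_val_zero, _root_.mul_one, _root_.Matrix.cons_val_one, _root_.MulZeroClass.mul_zero, _root_.add_zero, _root_.Matrix.cons_val] using this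
  have h21 : x.1.1 2 1 = 0 := by
    have hE := entry_of_mem_SUJ x.2 0 1
    rw [h0, h1, h2, show Jm F 0 1 = 0 by simp [Jm]] at hE
    apply σ.injective
    rw [map_zero]
    linear_combination hE
  have h22 : x.1.1 2 2 = 1 := by
    have hE := entry_of_mem_SUJ x.2 0 2
    rw [h0, h1, h2, show Jm F 0 2 = 1 by simp [Jm]] at hE
    apply σ.injective
    rw [map_one]
    linear_combination hE
  have h11 : x.1.1 1 1 = 1 := by
    have hd : x.1.1.det = 1 := x.1.2
    rw [Matrix.det_fin_three, h0, h1, h2, h21, h22] at hd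
    linear_combination hd
  have h01 : x.1.1 0 1 = -σ (x.1.1 1 2) := by
    have hE := entry_of_mem_SUJ x.2 1 2
    rw [h21, h22, h11, show Jm F 1 2 = 0 by simp [Jm], map_one] at hE
    linear_combination hE
  have hb : x.1.1 0 2 + σ (x.1.1 0 2) + x.1.1 1 2 * σ (x.1.1 1 2) = 0 := by
    have hE := entry_of_mem_SUJ x.2 2 2
    rw [h22, show Jm F 2 2 = 0 by simp [Jm], map_one] at hE
    linear_combination hE
  refine ⟨x.1.1 1 2, x.1.1 0 2, hb, ?_⟩
  apply ext_mt
  rw [up_val]
  ext i j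
  (revert i j; simp only [umt, h0, h1, h2, h21, h22, h11, h01, _root_.Fin.forall_fin_succ, Fin.isValue, _root_.Matrix.of_apply, _root_.Matrix.cons_val', _root_.Matrix.cons_val_fin_one, _root_.Matrix.cons_val_zero, _root_.Matrix.cons_val_succ, _root_.Fin.succ_zero_eq_one, _root_.Fin.succ_one_eq_two, _root_.IsEmpty.forall_iff, _root_.and_true, _root_.and_self])

theorem up_fix (hσ : ∀ x, σ (σ x) = x) {c b : F} (h : b + σ b + c * σ c = 0) :
    (up hσ c b h).1.1 *ᵥ e1 F = e1 F := by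
  rw [up_val]
  ext i
  (revert i; simp only [umt, e1, Matrix.mulVec, dotProduct, Fin.sum_univ_three, _root_.Fin.forall_fin_succ, _root_.Matrix.of_apply, _root_.Matrix.cons_val', _root_.Matrix.cons_val_fin_one, Fin.isValue, _root_.Matrix.cons_val_zero, _root_.mul_one, _root_.Matrix.cons_val_one, _root_.MulZeroClass.mul_zero, _root_.add_zero, _root_.Matrix.cons_val, _root_.Matrix.cons_val_succ, _root_.implies_true, _root_.and_self])

theorem up_inv_eq (hσ : ∀ x, σ (σ x) = x) {c b : F} (h : b + σ b + c * σ c = 0)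
    (h' : σ b + σ (σ b) + (-c) * σ (-c) = 0) : (up hσ c b h)⁻¹ = up hσ (-c) (σ b) h' := by
  rw [inv_eq_iff_mul_eq_one]
  apply ext_mt
  rw [mt_mul, mt_one]
  ext i j
  (revert i j; simp only [up_val, umt, Matrix.mul_apply, Fin.sum_univ_three, _root_.Fin.forall_fin_succ, _root_.map_neg, _root_.neg_neg, _root_.Matrix.of_apply, _root_.Matrix.cons_val', _root_.Matrix.cons_val_fin_one, Fin.isValue, _root_.Matrix.cons_val_zero, _root_.Matrix.cons_val_one, _root_.Matrix.cons_val, _root_.mul_one, _root_.MulZeroClass.mul_zero, _root_.add_zero, _root_.Matrix.cons_val_succ, _root_.mul_neg, _root_.IsEmpty.forall_iff, _root_.Matrix.one_apply_eq, _root_.one_mul, _root_.add_neg_cancel, Nat.reduceAdd, _root_.Fin.succ_zero_eq_one, _root_.ne_eq, _root_.zero_ne_one, _root_.not_false_eq_true, _root_.Matrix.one_apply_ne, _root_.neg_mul, _root_.Fin.succ_one_eq_two, Fin.reduceEq, _root_.Fin.succ_ne_zero, _root_.MulZeroClass.zero_mul, _root_.zero_add, _root_.neg_add_cancel, _root_.neg_zero,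 _root_.and_true, _root_.true_and]) <;> (repeat' with_reducible apply And.intro)
  linear_combination h

theorem up_inv_cond (hσ : ∀ x, σ (σ x) = x) {c b : F} (h : b + σ b + c * σ c = 0) :
    σ b + σ (σ b) + (-c) * σ (-c) = 0 := by
  rw [hσ, map_neg]
  linear_combination h

/-- If `B` contains the unitriangular group and `wl` then it contains all conjugates. -/
theorem conj_mem (hσ : ∀ x, σ (σ x) = x) {B : Subgroup (SUJ σ)}
    (hU : ∀ x b (h : b + σ b + x * σ x = 0), up hσ x b h ∈ B) {e : F} (he : e + σ e = 0) (h0 : e ≠ 0)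
    (hw : wl hσ e he h0 ∈ B) (g : SUJ σ) {x b : F} (h : b + σ b + x * σ x = 0) : g * up hσ x b h * g⁻¹ ∈ B := by
  -- the parabolic case
  have key : ∀ k : SUJ σ, k.1.1 2 0 = 0 → k * up hσ x b h * k⁻¹ ∈ B := by
    intro k hk
    have hk1 : k.1.1 1 0 = 0 := by
      have hE := entry_of_mem_SUJ k.2 0 0
      rw [hk, show Jm F 0 0 = 0 by simp [Jm], map_zero, mul_zero, zero_mul, zero_add, add_zero, mul_eq_zero,
        map_eq_zero, or_self] at hE
      exact hE
    have hk0 : k.1.1 *ᵥ e1 F = k.1.1 0 0 • e1 F := by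
      ext i
      (revert i; simp only [e1, Matrix.mulVec, dotProduct, Fin.sum_univ_three, hk, hk1, _root_.Fin.forall_fin_succ, Fin.isValue, _root_.Matrix.cons_val_zero, _root_.mul_one, _root_.Matrix.cons_val_one, _root_.MulZeroClass.mul_zero, _root_.add_zero, _root_.Matrix.cons_val, _root_.Pi.smul_apply, _root_.smul_eq_mul, _root_.Matrix.cons_val_succ, _root_.Fin.succ_zero_eq_one, _root_.Matrix.cons_val_fin_one, _root_.Fin.succ_one_eq_two, _root_.IsEmpty.forall_iff, _root_.and_self])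
    have hkn : k.1.1 0 0 ≠ 0 := by
      intro h00
      have hd : k.1.1.det = 1 := k.1.2
      rw [Matrix.det_fin_three, h00, hk, hk1] at hd
      simp only [_root_.Fin.isValue, _root_.MulZeroClass.zero_mul, _root_.sub_self, _root_.MulZeroClass.mul_zero, _root_.add_zero, _root_.zero_ne_one] at hd
    have hki : (k⁻¹).1.1 *ᵥ e1 F = (k.1.1 0 0)⁻¹ • e1 F := by
      apply mulVec_inv
      rw [Matrix.mulVec_smul, hk0, smul_smul, inv_mul_cancel₀ hkn, one_smul]
    obtain ⟨c, b', hb', e1'⟩ := exists_up_of_fix hσ (x := k * up hσ x b h * k⁻¹) (by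
      rw [mulVec_mt, mulVec_mt, hki, Matrix.mulVec_smul, Matrix.mulVec_smul, up_fix, hk0, smul_smul,
        inv_mul_cancel₀ hkn, one_smul])
    rw [e1']
    exact hU _ _ _
  by_cases h20 : g.1.1 2 0 = 0
  · exact key g h20
  -- the other case
  have hz : σ (g.1.1 2 0) ≠ 0 := (map_ne_zero σ).2 h20
  have hE := entry_of_mem_SUJ g.2 0 0
  rw [show Jm F 0 0 = 0 by simp [Jm]] at hE
  have hbc : g.1.1 0 0 / g.1.1 2 0 + σ (g.1.1 0 0 / g.1.1 2 0) +
      g.1.1 1 0 / g.1.1 2 0 * σ (g.1.1 1 0 / g.1.1 2 0) = 0 := by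
    rw [map_div₀, map_div₀]
    field_simp
    linear_combination hE
  obtain ⟨u, hu⟩ : ∃ u, u = up hσ (g.1.1 1 0 / g.1.1 2 0) (g.1.1 0 0 / g.1.1 2 0) hbc := ⟨_, rfl⟩
  have huB : u ∈ B := hu ▸ hU _ _ _
  have hk : (wl hσ e he h0 * u⁻¹ * g).1.1 2 0 = 0 := by
    rw [hu, up_inv_eq hσ hbc (up_inv_cond hσ hbc), mt_mul, mt_mul, wl_val, up_val]
    simp only [umt, Matrix.mul_apply, Fin.sum_univ_three, _root_.Cfsg.Agent.H961.LinePSU3.umt, _root_.Fin.isValue, _root_.map_neg, _root_.map_div₀, _root_.neg_neg, _root_.Matrix.cons_mul, _root_.Nat.succ_eq_add_one, _root_.Nat.reduceAdd, _root_.Matrix.vecMul_cons, _root_.Matrix.head_cons, _root_.zero_smul, _root_.Matrix.tail_cons, _root_.Matrix.smul_cons, _root_.smul_eq_mul, _root_.MulZeroClass.mul_zero, _root_.mul_one, _root_.Matrix.smul_empty, _root_.Matrix.empty_vecMul, _root_.add_zero, _root_.zero_add, _root_.one_smul, _root_.neg_smul, _root_.Matrix.neg_cons, _root_.Matrix.neg_empty, _root_.Matrix.empty_mul, _root_.Equiv.symm_apply_apply,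 _root_.Matrix.mul_apply, _root_.Matrix.of_apply, _root_.Matrix.cons_val', _root_.Matrix.cons_val_fin_one, _root_.Matrix.cons_val, _root_.Matrix.cons_val_one, _root_.Fin.sum_univ_three, _root_.Matrix.cons_val_zero, _root_.neg_mul]
    field_simp
    linear_combination -hE
  have h3 := key _ hk
  have h4 : g * up hσ x b h * g⁻¹ = (u * (wl hσ e he h0)⁻¹) *
      (wl hσ e he h0 * u⁻¹ * g * up hσ x b h * (wl hσ e he h0 * u⁻¹ * g)⁻¹) * (u * (wl hσ e he h0)⁻¹)⁻¹ := by
    group
  rw [h4]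
  have h5 : u * (wl hσ e he h0)⁻¹ ∈ B := mul_mem huB (inv_mem hw)
  exact mul_mem (mul_mem h5 h3) (inv_mem h5)

/-- `t0` inverts the unitriangular elements modulo the centre -/
theorem comm_t0 (hσ : ∀ x, σ (σ x) = x) {c b : F} (h : b + σ b + c * σ c = 0) :
    ∃ b' h', up hσ c b h * t0 σ * (up hσ c b h)⁻¹ * t0 σ = up hσ (c + c) b' h' := by
  have h' : (b + σ b - σ c * c) + σ (b + σ b - σ c * c) + (c + c) * σ (c + c) = 0 := by
    rw [map_sub, map_add, map_mul, map_add, hσ, hσ]
    linear_combination 2 * h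
  refine ⟨b + σ b - σ c * c, h', ?_⟩
  rw [up_inv_eq hσ h (up_inv_cond hσ h)]
  apply ext_mt
  rw [mt_mul, mt_mul, mt_mul]
  ext i j
  (revert i j; simp only [up_val, t0_val, umt, dmat, Matrix.mul_apply, Fin.sum_univ_three, _root_.Fin.forall_fin_succ, _root_.Matrix.cons_mul, _root_.Nat.succ_eq_add_one, Nat.reduceAdd, _root_.Matrix.vecMul_cons, _root_.Matrix.head_cons, _root_.one_smul, _root_.Matrix.tail_cons, _root_.neg_smul, _root_.Matrix.smul_cons, _root_.smul_eq_mul, _root_.MulZeroClass.mul_zero, _root_.mul_one, _root_.Matrix.smul_empty, _root_.Matrix.neg_cons, _root_.neg_zero, _root_.Matrix.neg_empty, _root_.mul_neg, _root_.Matrix.empty_vecMul, _root_.add_zero, _root_.Matrix.add_cons, _root_.zero_add, _root_.Matrix.empty_add_empty, _root_.zero_smul, _root_.Matrix.empty_mul, _root_.Equiv.symm_apply_apply, _root_.map_neg, _root_.neg_neg, _root_.Matrix.of_apply, _root_.Matrix.cons_val', _root_.Matrix.cons_val_fin_one, Fin.isValue, _root_.Matrix.cons_val_zero,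 _root_.Matrix.cons_val_one, _root_.Matrix.cons_val, _root_.map_add, _root_.neg_add_rev, _root_.Matrix.cons_val_succ, _root_.forall_const, _root_.implies_true, _root_.and_true, _root_.true_and]) <;> (repeat' with_reducible apply And.intro)
  ring

/-- With an involution `g t0 g⁻¹`, `B` contains the elements of order `p` of the unitary group of its hyperplane. -/
def Good (p : ℕ) (B : Subgroup (SUJ σ)) : Prop :=
  ∀ g : SUJ σ, g * t0 σ * g⁻¹ ∈ B → ∀ x : SUJ σ, x.1.1 *ᵥ e2 F = e2 F → x ^ p = 1 → g * x * g⁻¹ ∈ B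

theorem lo_pow (hσ : ∀ x, σ (σ x) = x) (p : ℕ) [CharP F p] {b : F} (h : b + σ b = 0) : (lo hσ b h) ^ p = 1 := by
  have key : ∀ n : ℕ, ((lo hσ b h) ^ n).1.1 = !![1, 0, 0; 0, 1, 0; n * b, 0, 1] := by
    intro n
    induction n with
    | zero =>
      rw [pow_zero, mt_one]
      ext i j
      (revert i j; simp only [_root_.Fin.forall_fin_succ, _root_.Nat.cast_zero, _root_.MulZeroClass.zero_mul, _root_.Matrix.of_apply, _root_.Matrix.cons_val', _root_.Matrix.cons_val_fin_one, Fin.isValue, _root_.Matrix.cons_val_zero, _root_.Matrix.cons_val_succ, _root_.IsEmpty.forall_iff, _root_.and_true, _root_.Matrix.one_apply_eq, Nat.reduceAdd, _root_.Fin.succ_zero_eq_one, _root_.ne_eq, _root_.zero_ne_one, _root_.not_false_eq_true, _root_.Matrix.one_apply_ne, _root_.Fin.succ_one_eq_two, Fin.reduceEq, _root_.and_self, _root_.Fin.succ_ne_zero, _root_.true_and])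
    | succ n ih =>
      rw [pow_succ, mt_mul, ih, lo_val]
      ext i j
      (revert i j; simp only [Matrix.mul_apply, Fin.sum_univ_three, _root_.Fin.forall_fin_succ, _root_.Matrix.of_apply, _root_.Matrix.cons_val', _root_.Matrix.cons_val_fin_one, Fin.isValue, _root_.Matrix.cons_val_zero, _root_.Matrix.cons_val_one, _root_.Matrix.cons_val, _root_.Nat.cast_add, _root_.Nat.cast_one, _root_.mul_one, _root_.MulZeroClass.mul_zero, _root_.add_zero, _root_.Matrix.cons_val_succ, _root_.zero_add, _root_.implies_true, _root_.MulZeroClass.zero_mul, _root_.one_mul, _root_.forall_const, _root_.and_true, _root_.true_and]) <;> (repeat' with_reducible apply And.intro)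
      ring
  apply ext_mt
  rw [key, mt_one, CharP.cast_eq_zero, zero_mul]
  ext i j
  (revert i j; simp only [_root_.Fin.forall_fin_succ, _root_.Matrix.of_apply, _root_.Matrix.cons_val', _root_.Matrix.cons_val_fin_one, Fin.isValue, _root_.Matrix.cons_val_zero, _root_.Matrix.cons_val_succ, _root_.IsEmpty.forall_iff, _root_.and_true, _root_.Matrix.one_apply_eq, Nat.reduceAdd, _root_.Fin.succ_zero_eq_one, _root_.ne_eq, _root_.zero_ne_one, _root_.not_false_eq_true, _root_.Matrix.one_apply_ne, _root_.Fin.succ_one_eq_two, Fin.reduceEq, _root_.and_self, _root_.Fin.succ_ne_zero, _root_.true_and])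

theorem up_pow (hσ : ∀ x, σ (σ x) = x) (p : ℕ) [CharP F p] {b : F} (h : b + σ b + 0 * σ 0 = 0) :
    (up hσ 0 b h) ^ p = 1 := by
  have key : ∀ n : ℕ, ((up hσ 0 b h) ^ n).1.1 = !![1, 0, n * b; 0, 1, 0; 0, 0, 1] := by
    intro n
    induction n with
    | zero =>
      rw [pow_zero, mt_one]
      ext i j
      (revert i j; simp only [_root_.Fin.forall_fin_succ, _root_.Nat.cast_zero, _root_.MulZeroClass.zero_mul, _root_.Matrix.of_apply, _root_.Matrix.cons_val', _root_.Matrix.cons_val_fin_one, Fin.isValue, _root_.Matrix.cons_val_zero, _root_.Matrix.cons_val_succ, _root_.IsEmpty.forall_iff, _root_.and_true, _root_.Matrix.one_apply_eq, Nat.reduceAdd, _root_.Fin.succ_zero_eq_one, _root_.ne_eq, _root_.zero_ne_one, _root_.not_false_eq_true, _root_.Matrix.one_apply_ne, _root_.Fin.succ_one_eq_two, Fin.reduceEq, _root_.and_self, _root_.Fin.succ_ne_zero, _root_.true_and])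
    | succ n ih =>
      rw [pow_succ, mt_mul, ih, up_val]
      ext i j
      (revert i j; simp only [umt, Matrix.mul_apply, Fin.sum_univ_three, _root_.Fin.forall_fin_succ, _root_.map_zero, _root_.neg_zero, _root_.Matrix.of_apply, _root_.Matrix.cons_val', _root_.Matrix.cons_val_fin_one, Fin.isValue, _root_.Matrix.cons_val_zero, _root_.Matrix.cons_val_one, _root_.Matrix.cons_val, _root_.Nat.cast_add, _root_.Nat.cast_one, _root_.mul_one, _root_.MulZeroClass.mul_zero, _root_.add_zero, _root_.Matrix.cons_val_succ, _root_.zero_add, _root_.forall_const, _root_.one_mul, _root_.add_eq_right, _root_.mul_eq_zero, _root_.true_or, _root_.implies_true, _root_.and_true, _root_.true_and]) <;> (repeat' with_reducible apply And.intro)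
      ring
  apply ext_mt
  rw [key, mt_one, CharP.cast_eq_zero, zero_mul]
  ext i j
  (revert i j; simp only [_root_.Fin.forall_fin_succ, _root_.Matrix.of_apply, _root_.Matrix.cons_val', _root_.Matrix.cons_val_fin_one, Fin.isValue, _root_.Matrix.cons_val_zero, _root_.Matrix.cons_val_succ, _root_.IsEmpty.forall_iff, _root_.and_true, _root_.Matrix.one_apply_eq, Nat.reduceAdd, _root_.Fin.succ_zero_eq_one, _root_.ne_eq, _root_.zero_ne_one, _root_.not_false_eq_true, _root_.Matrix.one_apply_ne, _root_.Fin.succ_one_eq_two, Fin.reduceEq, _root_.and_self, _root_.Fin.succ_ne_zero, _root_.true_and])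

theorem core (hσ : ∀ x, σ (σ x) = x) {p : ℕ} [CharP F p] (h2 : (2 : F) ≠ 0) {e : F} (he : e + σ e = 0) (h0 : e ≠ 0)
    {B : Subgroup (SUJ σ)} (hB : Good p B) (ht : t0 σ ∈ B) {f : SUJ σ} (hf : f * t0 σ * f⁻¹ ∈ B)
    (hm : f.1.1 2 1 ≠ 0) (g : SUJ σ) {x b : F} (h : b + σ b + x * σ x = 0) : g * up hσ x b h * g⁻¹ ∈ B := by
  have hm' : σ (f.1.1 2 1) ≠ 0 := (map_ne_zero σ).2 hm
  have hE := entry_of_mem_SUJ f.2 1 1
  rw [show Jm F 1 1 = 1 by simp [Jm]] at hE
  -- the frames
  have hcond : ∀ w : F, w * σ w = 1 →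
      (-((f.1.1 1 1 / f.1.1 2 1 + w / f.1.1 2 1) * σ (f.1.1 1 1 / f.1.1 2 1) + σ (f.1.1 0 1 / f.1.1 2 1))) +
      σ (-((f.1.1 1 1 / f.1.1 2 1 + w / f.1.1 2 1) * σ (f.1.1 1 1 / f.1.1 2 1) + σ (f.1.1 0 1 / f.1.1 2 1))) +
      (f.1.1 1 1 / f.1.1 2 1 + w / f.1.1 2 1) * σ (f.1.1 1 1 / f.1.1 2 1 + w / f.1.1 2 1) = 0 := by
    intro w hw
    simp only [map_neg, map_add, map_mul, map_div₀, hσ]
    field_simp
    linear_combination hw - hE
  have hy : ∀ w : F, ∀ hw : w * σ w = 1, ∀ b' (hb' : b' + σ b' = 0),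
      up hσ _ _ (hcond w hw) * lo hσ b' hb' * (up hσ _ _ (hcond w hw))⁻¹ ∈ B := by
    intro w hw b' hb'
    obtain ⟨y, hy⟩ : ∃ y, y = up hσ _ _ (hcond w hw) := ⟨_, rfl⟩
    rw [← hy]
    have hz : ((y⁻¹ * f).1.1 *ᵥ e2 F) 0 = 0 := by
      rw [hy, up_inv_eq hσ (hcond w hw) (up_inv_cond hσ (hcond w hw)), mt_mul, up_val]
      simp only [umt, e2, Matrix.mulVec, dotProduct, Matrix.mul_apply, Fin.sum_univ_three, hσ, _root_.Matrix.mulVec, _root_.dotProduct, _root_.Cfsg.Agent.H961.LinePSU3.umt, _root_.Fin.isValue, _root_.neg_add_rev, _root_.map_add, _root_.map_neg, _root_.map_div₀, _root_.neg_neg, _root_.map_mul, _root_.Matrix.mul_apply, _root_.Matrix.of_apply, _root_.Matrix.cons_val', _root_.Matrix.cons_val_fin_one, _root_.Matrix.cons_val_zero, _root_.Fin.sum_univ_three, _root_.one_mul, _root_.Matrix.cons_val_one, _root_.Matrix.cons_val, _root_.Cfsg.Agent.H66.IFU.e2, _root_.MulZeroClass.mul_zero, _root_.mul_one, _root_.zero_add, _root_.add_zero]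
      field_simp
      ring
    have hlo : ∀ v : Fin 3 → F, v 0 = 0 → (lo hσ b' hb').1.1 *ᵥ v = v := by
      intro v hv
      rw [lo_val]
      ext i
      (revert i; simp only [Matrix.mulVec, dotProduct, Fin.sum_univ_three, hv, _root_.Fin.forall_fin_succ, _root_.Matrix.of_apply, _root_.Matrix.cons_val', _root_.Matrix.cons_val_fin_one, Fin.isValue, _root_.Matrix.cons_val_zero, _root_.MulZeroClass.mul_zero, _root_.Matrix.cons_val_one, _root_.zero_add, _root_.Matrix.cons_val, _root_.MulZeroClass.zero_mul, _root_.add_zero, _root_.Matrix.cons_val_succ, _root_.one_mul, _root_.Fin.succ_zero_eq_one, _root_.Fin.succ_one_eq_two, _root_.IsEmpty.forall_iff, _root_.and_self])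
    have hfix : (f⁻¹ * (y * lo hσ b' hb' * y⁻¹) * f).1.1 *ᵥ e2 F = e2 F := by
      have h5 : f⁻¹ * (y * lo hσ b' hb' * y⁻¹) * f = (y⁻¹ * f)⁻¹ * lo hσ b' hb' * (y⁻¹ * f) := by group
      rw [h5, mulVec_mt, mulVec_mt, hlo _ hz]
      exact mulVec_inv rfl
    have hpow : (f⁻¹ * (y * lo hσ b' hb' * y⁻¹) * f) ^ p = 1 := by
      have h5 : f⁻¹ * (y * lo hσ b' hb' * y⁻¹) * f = (f⁻¹ * y) * lo hσ b' hb' * (f⁻¹ * y)⁻¹ := by group
      rw [h5, conj_pow, lo_pow, mul_one, mul_inv_cancel]
    have h6 := hB f hf _ hfix hpow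
    have h7 : f * (f⁻¹ * (y * lo hσ b' hb' * y⁻¹) * f) * f⁻¹ = y * lo hσ b' hb' * y⁻¹ := by group
    rwa [h7] at h6
  have hZ : ∀ b' (hb' : b' + σ b' + 0 * σ 0 = 0), up hσ 0 b' hb' ∈ B := by
    intro b' hb'
    have h5 := hB 1 (by rw [one_mul, inv_one, mul_one]; exact ht) (up hσ 0 b' hb') (by
      rw [up_val]
      ext i
      (revert i; simp only [umt, e2, Matrix.mulVec, dotProduct, Fin.sum_univ_three, _root_.Fin.forall_fin_succ, _root_.map_zero, _root_.neg_zero, _root_.Matrix.of_apply, _root_.Matrix.cons_val', _root_.Matrix.cons_val_fin_one, Fin.isValue, _root_.Matrix.cons_val_zero, _root_.MulZeroClass.mul_zero, _root_.Matrix.cons_val_one, _root_.mul_one, _root_.zero_add, _root_.Matrix.cons_val, _root_.add_zero, _root_.Matrix.cons_val_succ, _root_.implies_true, _root_.and_self])) (up_pow hσ p hb')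
    rwa [one_mul, inv_one, mul_one] at h5
  -- the centre of the unitriangular group
  have hcen : ∀ (c b₁ : F) (h₁ : b₁ + σ b₁ + c * σ c = 0) (b' : F) (hb' : b' + σ b' + 0 * σ 0 = 0),
      up hσ c b₁ h₁ * up hσ 0 b' hb' * (up hσ c b₁ h₁)⁻¹ = up hσ 0 b' hb' := by
    intro c b₁ h₁ b' hb'
    rw [mul_inv_eq_iff_eq_mul]
    apply ext_mt
    rw [mt_mul, mt_mul]
    ext i j
    (revert i j; simp only [up_val, umt, Matrix.mul_apply, Fin.sum_univ_three, _root_.Fin.forall_fin_succ, _root_.map_zero, _root_.neg_zero, _root_.Matrix.of_apply, _root_.Matrix.cons_val', _root_.Matrix.cons_val_fin_one, Fin.isValue, _root_.Matrix.cons_val_zero, _root_.Matrix.cons_val_one, _root_.Matrix.cons_val, _root_.mul_one, _root_.MulZeroClass.mul_zero, _root_.add_zero, _root_.Matrix.cons_val_succ, _root_.zero_add, _root_.mul_neg, _root_.forall_const, _root_.one_mul, _root_.MulZeroClass.zero_mul, _root_.right_eq_add, _root_.neg_eq_zero, _root_.mul_eq_zero, _root_.map_eq_zero, _root_.true_or,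 _root_.implies_true, _root_.and_true, _root_.true_and]) <;> (repeat' with_reducible apply And.intro)
    ring
  -- the new frame
  have h11 : (1 : F) * σ 1 = 1 := by rw [map_one, mul_one]
  obtain ⟨y, hy1⟩ : ∃ y, y = up hσ _ _ (hcond 1 h11) := ⟨_, rfl⟩
  set B' := B.comap (MulAut.conj y).toMonoidHom with hB'
  have hmem : ∀ k, k ∈ B' ↔ y * k * y⁻¹ ∈ B := fun k => Iff.rfl
  have k1 : ∀ b (h : b + σ b = 0), up hσ 0 b (by rw [map_zero, mul_zero, add_zero]; exact h) ∈ B' := by
    intro b' hb'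
    rw [hmem, hy1, hcen]
    exact hZ _ _
  have k3 : ∀ b (h : b + σ b = 0), lo hσ b h ∈ B' := by
    intro b' hb'
    rw [hmem, hy1]
    exact hy 1 h11 b' hb'
  have kt : t0 σ ∈ B' := t0_mem hσ k1 k3 he h0
  have hDb : ∀ w : F, w * σ w = 1 → 2 * ((w - 1) / f.1.1 2 1) ∈ Db hσ B' := by
    intro w hw
    obtain ⟨z, hz⟩ : ∃ z, z = up hσ _ _ (hcond w hw) := ⟨_, rfl⟩
    have l1 : z * t0 σ * z⁻¹ ∈ B := by
      have l2 := t0_mem (B := B.comap (MulAut.conj z).toMonoidHom) hσ (by
        intro b' hb'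
        change z * _ * z⁻¹ ∈ B
        rw [hz, hcen]
        exact hZ _ _) (by
        intro b' hb'
        change z * _ * z⁻¹ ∈ B
        rw [hz]
        exact hy w hw b' hb') he h0
      exact l2
    have l3 : (y⁻¹ * z) * t0 σ * (y⁻¹ * z)⁻¹ * t0 σ ∈ B' := by
      refine mul_mem ?_ kt
      rw [hmem]
      have l4 : y * (y⁻¹ * z * t0 σ * (y⁻¹ * z)⁻¹) * y⁻¹ = z * t0 σ * z⁻¹ := by group
      rwa [l4]
    obtain ⟨c', b', hb', l5⟩ : ∃ c' b' hb', y⁻¹ * z = up hσ c' b' hb' ∧ c' = (w - 1) / f.1.1 2 1 := by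
      rw [hy1, hz, up_inv_eq hσ (hcond 1 h11) (up_inv_cond hσ (hcond 1 h11))]
      obtain ⟨b'', h'', l6⟩ := exists_up_mul hσ (up_inv_cond hσ (hcond 1 h11)) (hcond w hw)
      refine ⟨_, b'', h'', l6, ?_⟩
      field_simp
      ring
    obtain ⟨l5, rfl⟩ := l5
    obtain ⟨b'', h'', l6⟩ := comm_t0 hσ hb'
    rw [l5, l6] at l3
    have l7 : 2 * ((w - 1) / f.1.1 2 1) = (w - 1) / f.1.1 2 1 + (w - 1) / f.1.1 2 1 := by ring
    rw [mem_Db, l7]
    exact ⟨_, _, l3⟩
  -- an element of norm one outside of the fixed field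
  have hse : σ e = -e := by linear_combination he
  have he1 : 1 - e ≠ 0 := by
    intro h5
    have h6 : e = 1 := by linear_combination -h5
    rw [h6, map_one] at hse
    apply h2
    linear_combination hse
  have he2 : 1 + e ≠ 0 := by
    intro h5
    have h6 := congrArg σ h5
    rw [map_add, map_one, map_zero, hse] at h6
    exact he1 (by linear_combination h6)
  obtain ⟨w, hw⟩ : ∃ w, w = (1 + e) / (1 - e) := ⟨_, rfl⟩
  have hsw : σ w = (1 - e) / (1 + e) := by
    rw [hw, map_div₀, map_add, map_sub, map_one, hse, sub_neg_eq_add, ← sub_eq_add_neg]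
  have hw1 : w * σ w = 1 := by
    rw [hsw, hw]
    field_simp
  have hwn : σ w ≠ w := by
    rw [hsw, hw]
    intro h5
    rw [div_eq_div_iff he2 he1] at h5
    have h6 : (2 : F) * 2 * e = 0 := by linear_combination -h5
    rcases mul_eq_zero.1 h6 with h7 | h7
    · exact h2 (mul_self_eq_zero.1 h7)
    · exact h0 h7
  have d1 := hDb (-1) (by rw [map_neg, map_one]; ring)
  have d2 := hDb w hw1
  have hU := up_mem hσ k1 k3 he h0 (c := 2 * ((-1 - 1) / f.1.1 2 1)) (w := (1 - w) / 2) (by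
      refine mul_ne_zero h2 (div_ne_zero ?_ hm)
      intro h5
      apply h2
      linear_combination -h5) (by
      rw [map_div₀, map_sub, map_one, map_ofNat]
      intro h5
      apply hwn
      field_simp at h5
      linear_combination -h5) d1 (by
      convert d2 using 1
      field_simp
      ring)
  have hfin := conj_mem hσ hU he h0 (wl_mem hσ k1 k3 he h0) (y⁻¹ * g) h
  rw [hmem] at hfin
  have h8 : y * (y⁻¹ * g * up hσ x b h * (y⁻¹ * g)⁻¹) * y⁻¹ = g * up hσ x b h * g⁻¹ := by group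
  rwa [h8] at hfin

end Cfsg.Agent.H66.IFU
end

-- part: H66/IFU/Inv
section
/-!
# S5719, `PSU_3(q)`, `q` odd: involutions of `SUJ σ` are conjugate (helper66)
-/

set_option autoImplicit false
set_option linter.unusedSectionVars false
set_option linter.unusedVariables false

namespace Cfsg.Agent.H66.IFU

open Cfsg Matrix Cfsg.Agent.LieRecognition.PSUThreeSylow Cfsg.Agent.H961.LinePSU3

variable {F : Type*} [Field F] {σ : F →+* F}

/-- the entries of the inverse -/
theorem inv_entry (x : SUJ σ) : (x⁻¹).1.1 = x.1.1.adjugate := by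
  rw [Subgroup.coe_inv, Matrix.SpecialLinearGroup.coe_inv]

/-- involutions fixing an isotropic point -/
theorem inv_par (hσ : ∀ x, σ (σ x) = x) (h2 : (2 : F) ≠ 0) {t : SUJ σ} (ht : t * t = 1) (h1 : t ≠ 1)
    (h20 : t.1.1 2 0 = 0) : ∃ g, t = g * t0 σ * g⁻¹ := by
  have h10 : t.1.1 1 0 = 0 := by
    have hE := entry_of_mem_SUJ t.2 0 0
    rw [h20, show Jm F 0 0 = 0 by simp [Jm], map_zero, mul_zero, zero_mul, zero_add, add_zero, mul_eq_zero,
      map_eq_zero, or_self] at hE
    exact hE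
  have hd : t.1.1.det = 1 := t.1.2
  have htt : t.1.1 * t.1.1 = 1 := by rw [← mt_mul, ht, mt_one]
  have e00 := congrFun (congrFun htt 0) 0
  have e02 := congrFun (congrFun htt 0) 2
  simp only [Matrix.mul_apply, Fin.sum_univ_three, h20, h10, mul_zero, add_zero, Matrix.one_apply_eq] at e00 e02
  rw [Matrix.one_apply_ne (by decide)] at e02
  have ha0 : t.1.1 0 0 ≠ 0 := by
    intro h
    rw [h, mul_zero] at e00
    exact zero_ne_one e00
  have hsa : σ (t.1.1 0 0) = t.1.1 0 0 := by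
    rcases mul_self_eq_one_iff.1 e00 with h | h
    · rw [h, map_one]
    · rw [h, map_neg, map_one]
  have h21 : t.1.1 2 1 = 0 := by
    have hE := entry_of_mem_SUJ t.2 0 1
    rw [h20, h10, show Jm F 0 1 = 0 by simp [Jm], zero_mul, zero_mul, add_zero, add_zero, mul_eq_zero, map_eq_zero] at hE
    exact hE.resolve_left ha0
  have h22 : t.1.1 2 2 = t.1.1 0 0 := by
    have hE := entry_of_mem_SUJ t.2 0 2
    rw [h20, h10, show Jm F 0 2 = 1 by simp [Jm], zero_mul, zero_mul, add_zero, add_zero] at hE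
    have h3 := congrArg σ hE
    rw [map_mul, hσ, map_one, hsa] at h3
    have h4 : t.1.1 0 0 * t.1.1 2 2 = t.1.1 0 0 * t.1.1 0 0 := by rw [h3, e00]
    exact mul_left_cancel₀ ha0 h4
  have h11 : t.1.1 1 1 = 1 := by
    rw [Matrix.det_fin_three, h20, h10, h21, h22] at hd
    linear_combination hd - t.1.1 1 1 * e00
  rw [h22] at e02
  have h12 := entry_of_mem_SUJ t.2 1 2
  have h22' := entry_of_mem_SUJ t.2 2 2
  rw [h21, h22, h11, hsa, show Jm F 1 2 = 0 by simp [Jm], zero_mul, add_zero, one_mul] at h12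
  rw [h22, hsa, show Jm F 2 2 = 0 by simp [Jm]] at h22'
  rcases mul_self_eq_one_iff.1 e00 with hα | hα
  · -- unipotent
    exfalso
    apply h1
    have htt' := congrFun (congrFun htt 1) 2
    simp only [Matrix.mul_apply, Fin.sum_univ_three, h10, h11, h22, hα] at htt'
    rw [Matrix.one_apply_ne (by decide)] at htt'
    rw [hα] at h12 h22' e02
    have hc : t.1.1 1 2 = 0 := by
      have : (2 : F) * t.1.1 1 2 = 0 := by linear_combination htt'
      exact (mul_eq_zero.1 this).resolve_left h2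
    have ha : t.1.1 0 1 = 0 := by
      rw [hc, map_zero] at h12
      linear_combination h12
    have hb : t.1.1 0 2 = 0 := by
      have : (2 : F) * t.1.1 0 2 = 0 := by rw [ha, hc] at e02; linear_combination e02
      exact (mul_eq_zero.1 this).resolve_left h2
    apply ext_mt
    rw [mt_one]
    ext i j
    (revert i j; simp only [h10, h20, h11, h21, h22, hα, hc, ha, hb, _root_.Fin.forall_fin_succ, Fin.isValue, _root_.Fin.succ_zero_eq_one, _root_.Fin.succ_one_eq_two, _root_.IsEmpty.forall_iff, _root_.and_true, _root_.Matrix.one_apply_eq, Nat.reduceAdd, _root_.ne_eq, _root_.zero_ne_one, _root_.not_false_eq_true, _root_.Matrix.one_apply_ne, Fin.reduceEq, _root_.and_self, _root_.Fin.succ_ne_zero])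
  · -- conjugate of `t0`
    rw [hα] at h12 h22' e02
    have ha : t.1.1 0 1 = σ (t.1.1 1 2) := by linear_combination -h12
    have hb : t.1.1 0 2 = σ (t.1.1 1 2) * t.1.1 1 2 / 2 := by
      rw [ha] at e02
      field_simp
      linear_combination -e02
    have h8 : (8 : F) ≠ 0 := by
      have : (8 : F) = 2 * 2 * 2 := by norm_num
      rw [this]
      exact mul_ne_zero (mul_ne_zero h2 h2) h2
    have hs2 : σ 2 = 2 := map_ofNat σ 2
    have hs8 : σ 8 = 8 := map_ofNat σ 8
    have hc : (-(σ (t.1.1 1 2) * t.1.1 1 2 / 8)) + σ (-(σ (t.1.1 1 2) * t.1.1 1 2 / 8)) +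
        (-(t.1.1 1 2 / 2)) * σ (-(t.1.1 1 2 / 2)) = 0 := by
      rw [map_neg, map_neg, map_div₀, map_div₀, map_mul, hσ, hs2, hs8]
      field_simp
      ring
    refine ⟨up hσ _ _ hc, ?_⟩
    rw [eq_mul_inv_iff_mul_eq]
    apply ext_mt
    rw [mt_mul, mt_mul]
    ext i j
    (revert i j; simp only [up_val, t0_val, umt, dmat, Matrix.mul_apply, Fin.sum_univ_three, h10, h20, h11, h21, h22, hα, ha, hb, hs2, _root_.Fin.forall_fin_succ, Fin.isValue, _root_.map_neg, _root_.map_div₀, _root_.neg_neg, _root_.Matrix.of_apply, _root_.Matrix.cons_val', _root_.Matrix.cons_val_fin_one, _root_.Matrix.cons_val_zero, _root_.Matrix.cons_val_one, _root_.Matrix.cons_val, _root_.mul_one, _root_.MulZeroClass.mul_zero, _root_.add_zero, _root_.mul_neg, _root_.Matrix.cons_val_succ, _root_.zero_add, _root_.forall_const, _root_.neg_mul, _root_.one_mul, _root_.Fin.succ_zero_eq_one, _root_.neg_zero, _root_.MulZeroClass.zero_mul, _root_.Fin.succ_one_eq_two, _root_.IsEmpty.forall_iff,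 _root_.and_true, _root_.true_and]) <;> (repeat' with_reducible apply And.intro)
    all_goals field_simp
    all_goals ring

/-- **All involutions are conjugate.** -/
theorem inv_conj (hσ : ∀ x, σ (σ x) = x) (h2 : (2 : F) ≠ 0) {e : F} (he : e + σ e = 0) (h0 : e ≠ 0)
    (hn : ∀ a : F, σ a = a → a ≠ 0 → ∃ y, y * σ y = a) {t : SUJ σ} (ht : t * t = 1) (h1 : t ≠ 1) :
    ∃ g, t = g * t0 σ * g⁻¹ := by
  by_cases h20 : t.1.1 2 0 = 0
  · exact inv_par hσ h2 ht h1 h20
  have htt : t.1.1 * t.1.1 = 1 := by rw [← mt_mul, ht, mt_one]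
  have hti : t⁻¹ = t := inv_eq_of_mul_eq_one_left ht
  have hadj : t.1.1.adjugate = t.1.1 := by rw [← inv_entry, hti]
  have a20 : t.1.1 1 0 * t.1.1 2 1 - t.1.1 1 1 * t.1.1 2 0 = t.1.1 2 0 := by
    have h3 := congrFun (congrFun hadj 2) 0
    rw [Matrix.adjugate_fin_three] at h3
    simpa only [_root_.Fin.isValue, _root_.Matrix.of_apply, _root_.Matrix.cons_val', _root_.Matrix.cons_val_zero, _root_.Matrix.cons_val_fin_one, _root_.Matrix.cons_val, _root_.Matrix.cons_val_one] using h3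
  have a21 : -(t.1.1 0 0 * t.1.1 2 1 - t.1.1 0 1 * t.1.1 2 0) = t.1.1 2 1 := by
    have h3 := congrFun (congrFun hadj 2) 1
    rw [Matrix.adjugate_fin_three] at h3
    simp only [_root_.Fin.isValue, _root_.Matrix.of_apply, _root_.Matrix.cons_val', _root_.Matrix.cons_val_one, _root_.Matrix.cons_val_zero, _root_.Matrix.cons_val_fin_one, _root_.Matrix.cons_val] at h3
    linear_combination h3
  -- the form
  have hE := entry_of_mem_SUJ t.2 0 0
  rw [show Jm F 0 0 = 0 by simp [Jm]] at hE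
  have hfm : t.1.1ᵀ * Jm F = Jm F * t.1.1.map σ := by
    have h3 : t.1.1ᵀ * Jm F * t.1.1.map σ = Jm F := t.2
    have h4 : t.1.1.map σ * t.1.1.map σ = 1 := by
      rw [← Matrix.map_mul, htt]
      exact Matrix.map_one _ (map_zero σ) (map_one σ)
    calc t.1.1ᵀ * Jm F = t.1.1ᵀ * Jm F * (t.1.1.map σ * t.1.1.map σ) := by rw [h4, mul_one]
      _ = t.1.1ᵀ * Jm F * t.1.1.map σ * t.1.1.map σ := by rw [mul_assoc, mul_assoc, mul_assoc]
      _ = Jm F * t.1.1.map σ := by rw [h3]
  have s20 : σ (t.1.1 2 0) = t.1.1 2 0 := by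
    have h3 := congrFun (congrFun hfm 0) 0
    simp only [Jm, Matrix.mul_apply, Fin.sum_univ_three, _root_.Cfsg.Agent.LieRecognition.PSUThreeSylow.Jm, _root_.Fin.isValue, _root_.Matrix.mul_apply, _root_.Matrix.transpose_apply, _root_.Matrix.of_apply, _root_.Matrix.cons_val', _root_.Matrix.cons_val_zero, _root_.Matrix.cons_val_fin_one, _root_.Fin.sum_univ_three, _root_.MulZeroClass.mul_zero, _root_.Matrix.cons_val_one, _root_.add_zero, _root_.Matrix.cons_val, _root_.mul_one, _root_.zero_add, _root_.Matrix.map_apply, _root_.MulZeroClass.zero_mul, _root_.one_mul] at h3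
    exact h3.symm
  have s21 : t.1.1 2 1 = σ (t.1.1 1 0) := by
    have h3 := congrFun (congrFun hfm 1) 0
    simp only [Jm, Matrix.mul_apply, Fin.sum_univ_three, _root_.Cfsg.Agent.LieRecognition.PSUThreeSylow.Jm, _root_.Fin.isValue, _root_.Matrix.mul_apply, _root_.Matrix.transpose_apply, _root_.Matrix.of_apply, _root_.Matrix.cons_val', _root_.Matrix.cons_val_zero, _root_.Matrix.cons_val_fin_one, _root_.Fin.sum_univ_three, _root_.MulZeroClass.mul_zero, _root_.Matrix.cons_val_one, _root_.add_zero, _root_.Matrix.cons_val, _root_.mul_one, _root_.zero_add, _root_.Matrix.map_apply, _root_.MulZeroClass.zero_mul, _root_.one_mul] at h3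
    exact h3
  rw [s21] at a20 a21
  rw [s20] at hE
  have hd0 := congrFun (congrFun htt 0) 0
  have hd1 := congrFun (congrFun htt 1) 0
  have hd2 := congrFun (congrFun htt 2) 0
  simp only [Matrix.mul_apply, Fin.sum_univ_three, Matrix.one_apply_eq] at hd0 hd1 hd2
  rw [Matrix.one_apply_ne (by decide)] at hd1 hd2
  rw [s21] at hd2
  obtain ⟨y, hy⟩ := hn (t.1.1 2 0 / 2) (by rw [map_div₀, s20, map_ofNat]) (div_ne_zero h20 h2)
  have hy0 : y ≠ 0 := by
    rintro rfl
    rw [zero_mul] at hy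
    exact div_ne_zero h20 h2 hy.symm
  obtain ⟨x0, hx0⟩ : ∃ x0, t.1.1 0 0 = x0 := ⟨_, rfl⟩
  obtain ⟨x1, hx1⟩ : ∃ x1, t.1.1 1 0 = x1 := ⟨_, rfl⟩
  obtain ⟨x2, hx2⟩ : ∃ x2, t.1.1 2 0 = x2 := ⟨_, rfl⟩
  simp only [hx0, hx1, hx2] at a20 a21 hE s20 s21 hd0 hd1 hd2 hy h20
  have hy' : 2 * (y * σ y) = x2 := by
    rw [hy]
    field_simp
  obtain ⟨c, hc⟩ : ∃ c : Fin 3 → F, c = ![-σ x1 + y * (1 - x0), x2 - y * x1, -(y * x2)] := ⟨_, rfl⟩
  have htc : t.1.1 *ᵥ c = -c := by
    rw [hc]
    ext i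
    fin_cases i
    · simp only [Matrix.mulVec, dotProduct, Fin.sum_univ_three, _root_.Matrix.mulVec, _root_.dotProduct, _root_.Fin.zero_eta, _root_.Fin.isValue, _root_.Nat.succ_eq_add_one, _root_.Nat.reduceAdd, _root_.Fin.sum_univ_three, _root_.Matrix.cons_val_zero, _root_.Matrix.cons_val_one, _root_.Matrix.cons_val, _root_.mul_neg, _root_.Pi.neg_apply, _root_.neg_add_rev, _root_.neg_neg]
      rw [hx0]
      linear_combination a21 - y * hd0
    · simp only [Matrix.mulVec, dotProduct, Fin.sum_univ_three, _root_.Matrix.mulVec, _root_.dotProduct, _root_.Fin.mk_one, _root_.Fin.isValue, _root_.Nat.succ_eq_add_one, _root_.Nat.reduceAdd, _root_.Fin.sum_univ_three, _root_.Matrix.cons_val_zero, _root_.Matrix.cons_val_one, _root_.Matrix.cons_val, _root_.mul_neg, _root_.Pi.neg_apply, _root_.neg_sub]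
      rw [hx1]
      linear_combination -a20 - y * hd1
    · simp only [Matrix.mulVec, dotProduct, Fin.sum_univ_three, _root_.Matrix.mulVec, _root_.dotProduct, _root_.Fin.reduceFinMk, _root_.Fin.isValue, _root_.Nat.succ_eq_add_one, _root_.Nat.reduceAdd, _root_.Fin.sum_univ_three, _root_.Matrix.cons_val_zero, _root_.Matrix.cons_val_one, _root_.Matrix.cons_val, _root_.mul_neg, _root_.Pi.neg_apply, _root_.neg_neg]
      rw [hx2, s21]
      linear_combination - y * hd2
  have hc2 : y * x2 ≠ 0 := mul_ne_zero hy0 h20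
  have hsc2 : σ y * x2 ≠ 0 := mul_ne_zero ((map_ne_zero σ).2 hy0) h20
  have hiso : (-σ x1 + y * (1 - x0)) / (-(y * x2)) + σ ((-σ x1 + y * (1 - x0)) / (-(y * x2))) +
      (x2 - y * x1) / (-(y * x2)) * σ ((x2 - y * x1) / (-(y * x2))) = 0 := by
    simp only [map_div₀, map_neg, map_add, map_mul, map_sub, map_one, hσ, s20]
    have hsy : σ y ≠ 0 := (map_ne_zero σ).2 hy0
    field_simp
    linear_combination (y * σ y) * hE - x2 * hy'
  obtain ⟨k, hk⟩ : ∃ k, k = up hσ _ _ hiso * wl hσ e he h0 := ⟨_, rfl⟩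
  have hke : k.1.1 *ᵥ e1 F = (e * (y * x2))⁻¹ • c := by
    rw [hk, mulVec_mt, up_val, wl_val, hc]
    ext i
    (revert i; simp only [umt, e1, Matrix.mulVec, dotProduct, Fin.sum_univ_three, _root_.Fin.forall_fin_succ, _root_.map_div₀, _root_.map_sub, _root_.map_mul, _root_.map_neg, _root_.Matrix.of_apply, _root_.Matrix.cons_val', _root_.Matrix.cons_val_fin_one, Fin.isValue, _root_.Matrix.cons_val_zero, _root_.mul_one, _root_.Matrix.cons_val_one, _root_.MulZeroClass.mul_zero, _root_.add_zero, _root_.Matrix.cons_val, _root_.mul_neg, _root_.zero_add, _root_.mul_inv_rev, _root_.Nat.succ_eq_add_one, Nat.reduceAdd, _root_.Pi.smul_apply, _root_.smul_eq_mul, _root_.Matrix.cons_val_succ, _root_.one_mul, _root_.neg_inj, _root_.forall_const, _root_.and_true, _root_.true_and]) <;> (repeat' with_reducible apply And.intro)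
    all_goals field_simp
  have ht' : (k⁻¹ * t * k).1.1 *ᵥ e1 F = -e1 F := by
    rw [mulVec_mt, mulVec_mt, hke, Matrix.mulVec_smul, htc, smul_neg, Matrix.mulVec_neg, ← hke]
    rw [mulVec_inv rfl]
  obtain ⟨g, hg⟩ := inv_par hσ h2 (t := k⁻¹ * t * k) (by
    have h5 : k⁻¹ * t * k * (k⁻¹ * t * k) = k⁻¹ * (t * t) * k := by group
    rw [h5, ht, mul_one, inv_mul_cancel]) (by
    intro h5
    apply h1
    have h6 : t = k * (k⁻¹ * t * k) * k⁻¹ := by group
    rw [h6, h5, mul_one, mul_inv_cancel]) (by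
    have h5 := congrFun ht' 2
    simpa only [e1, Matrix.mulVec, dotProduct, Fin.sum_univ_three, _root_.Subgroup.coe_mul, _root_.InvMemClass.coe_inv, _root_.Fin.isValue, _root_.Matrix.SpecialLinearGroup.coe_mul, _root_.Matrix.SpecialLinearGroup.coe_inv, _root_.Matrix.mulVec, _root_.Matrix.cons_val_zero, _root_.mul_one, _root_.Matrix.cons_val_one, _root_.MulZeroClass.mul_zero, _root_.add_zero, _root_.Matrix.cons_val, _root_.Pi.neg_apply, _root_.neg_zero] using h5)
  refine ⟨k * g, ?_⟩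
  have h6 : t = k * (k⁻¹ * t * k) * k⁻¹ := by group
  rw [h6, hg]
  group

end Cfsg.Agent.H66.IFU
end

-- part: H66/IFU/Sl2
section
/-!
# S5719, `PSU_3(q)`, `q` odd: the subgroup `SL_2(q)` and the class of the involution (helper66)
-/

set_option autoImplicit false
set_option linter.unusedSectionVars false
set_option linter.unusedVariables false

namespace Cfsg.Agent.H66.IFU

open Cfsg Matrix Cfsg.Agent.LieRecognition.PSUThreeSylow Cfsg.Agent.H961.LinePSU3
open scoped LinearAlgebra.Projectivization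

variable {F : Type*} [Field F] {σ : F →+* F}

/-- the fixed field -/
def kf (σ : F →+* F) : Subfield F := σ.eqLocusField (RingHom.id F)

theorem mem_kf {x : F} : x ∈ kf σ ↔ σ x = x := Iff.rfl

theorem card_kf (hσ : ∀ x, σ (σ x) = x) {w : F} (hw : σ w ≠ w) : Nat.card F = Nat.card (kf σ) ^ 2 := by
  have hw' : w - σ w ≠ 0 := fun h => hw (by linear_combination -h)
  rw [pow_two, ← Nat.card_prod]
  have hβ : ∀ y : F, σ ((y - σ y) / (w - σ w)) = (y - σ y) / (w - σ w) := by
    intro y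
    rw [map_div₀, map_sub, map_sub, hσ, hσ, ← neg_sub, ← neg_sub w, neg_div_neg_eq]
  have hα : ∀ y : F, σ (y - (y - σ y) / (w - σ w) * w) = y - (y - σ y) / (w - σ w) * w := by
    intro y
    rw [map_sub, map_mul, hβ]
    field_simp
    ring
  refine Nat.card_congr
    { toFun := fun y => (⟨y - (y - σ y) / (w - σ w) * w, hα y⟩, ⟨(y - σ y) / (w - σ w), hβ y⟩)
      invFun := fun p => p.1.1 + p.2.1 * w
      left_inv := ?_
      right_inv := ?_ }
  · intro y
    simp
  · rintro ⟨⟨a, ha⟩, ⟨b, hb⟩⟩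
    have ha' : σ a = a := ha
    have hb' : σ b = b := hb
    have h1 : (a + b * w - σ (a + b * w)) / (w - σ w) = b := by
      rw [map_add, map_mul, ha', hb']
      field_simp
      ring
    refine Prod.ext (Subtype.ext ?_) (Subtype.ext ?_)
    · change a + b * w - (a + b * w - σ (a + b * w)) / (w - σ w) * w = a
      rw [h1]
      ring
    · exact h1

section phi

variable {e : F} (he : e + σ e = 0) (h0 : e ≠ 0)

/-- the matrix of `phi` -/
def phiM (e : F) (A : SpecialLinearGroup (Fin 2) (kf σ)) : Matrix (Fin 3) (Fin 3) F :=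
  !![(A.1 0 0 : F), 0, e * (A.1 0 1 : F); 0, 1, 0; (A.1 1 0 : F) * e⁻¹, 0, (A.1 1 1 : F)]

theorem det2 (A : SpecialLinearGroup (Fin 2) (kf σ)) :
    (A.1 0 0 : F) * (A.1 1 1 : F) - (A.1 0 1 : F) * (A.1 1 0 : F) = 1 := by
  have h1 := A.2
  rw [Matrix.det_fin_two] at h1
  exact_mod_cast congrArg (Subtype.val) h1

/-- `SL_2(q)` in `SU_3(q)` -/
def phi (he : e + σ e = 0) (h0 : e ≠ 0) : SpecialLinearGroup (Fin 2) (kf σ) →* SUJ σ where
  toFun A := ⟨⟨phiM e A, by
    have h1 := det2 A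
    rw [phiM, Matrix.det_fin_three]
    simp only [_root_.Fin.isValue, _root_.Matrix.of_apply, _root_.Matrix.cons_val', _root_.Matrix.cons_val_zero, _root_.Matrix.cons_val_fin_one, _root_.Matrix.cons_val_one, _root_.mul_one, _root_.Matrix.cons_val, _root_.MulZeroClass.mul_zero, _root_.sub_zero, _root_.MulZeroClass.zero_mul, _root_.add_zero]
    field_simp
    linear_combination h1⟩, by
    have h1 := det2 A
    have hse : σ e = -e := by linear_combination he
    have s00 : σ (A.1 0 0 : F) = A.1 0 0 := (A.1 0 0).2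
    have s01 : σ (A.1 0 1 : F) = A.1 0 1 := (A.1 0 1).2
    have s10 : σ (A.1 1 0 : F) = A.1 1 0 := (A.1 1 0).2
    have s11 : σ (A.1 1 1 : F) = A.1 1 1 := (A.1 1 1).2
    change (phiM e A)ᵀ * Jm F * (phiM e A).map σ = Jm F
    ext i j
    (revert i j; simp only [phiM, Jm, Matrix.mul_apply, Fin.sum_univ_three, hse, s00, s01, s10, s11, _root_.Fin.forall_fin_succ, Fin.isValue, _root_.Matrix.transpose_apply, _root_.Matrix.of_apply, _root_.Matrix.cons_val', _root_.Matrix.cons_val_fin_one, _root_.Matrix.cons_val_zero, _root_.Matrix.cons_val_one, _root_.Matrix.cons_val, _root_.Matrix.map_apply, _root_.MulZeroClass.mul_zero, _root_.add_zero, _root_.mul_one, _root_.zero_add, _root_.map_zero, _root_.map_mul, _root_.map_inv₀, _root_.inv_neg, _root_.mul_neg, _root_.Matrix.cons_val_succ, _root_.map_one, _root_.neg_mul, _root_.forall_const, _root_.MulZeroClass.zero_mul, _root_.neg_zero, _root_.and_true, _root_.true_and]) <;> (repeat' with_reducible apply And.intro)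
    all_goals field_simp
    all_goals try linear_combination h1
    all_goals ring⟩
  map_one' := by
    apply ext_mt
    change phiM e 1 = 1
    ext i j
    (revert i j; simp only [phiM, _root_.Fin.forall_fin_succ, Fin.isValue, _root_.Matrix.SpecialLinearGroup.coe_one, _root_.Matrix.one_apply_eq, _root_.OneMemClass.coe_one, _root_.ne_eq, _root_.zero_ne_one, _root_.not_false_eq_true, _root_.Matrix.one_apply_ne, _root_.ZeroMemClass.coe_zero, _root_.MulZeroClass.mul_zero, _root_.one_ne_zero, _root_.MulZeroClass.zero_mul, _root_.Matrix.of_apply, _root_.Matrix.cons_val', _root_.Matrix.cons_val_fin_one, _root_.Matrix.cons_val_zero, _root_.Matrix.cons_val_succ, _root_.IsEmpty.forall_iff, _root_.and_true, Nat.reduceAdd, _root_.Fin.succ_zero_eq_one, _root_.Fin.succ_one_eq_two, Fin.reduceEq, _root_.and_self, _root_.Fin.succ_ne_zero, _root_.true_and])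
  map_mul' := by
    intro A B
    apply ext_mt
    change phiM e (A * B) = phiM e A * phiM e B
    ext i j
    (revert i j; simp only [phiM, Matrix.mul_apply, Fin.sum_univ_three, Fin.sum_univ_two, _root_.Fin.forall_fin_succ, Fin.isValue, _root_.Matrix.SpecialLinearGroup.coe_mul, _root_.Subfield.coe_add, _root_.Subfield.coe_mul, _root_.Matrix.of_apply, _root_.Matrix.cons_val', _root_.Matrix.cons_val_fin_one, _root_.Matrix.cons_val_zero, _root_.Matrix.cons_val_one, _root_.Matrix.cons_val, _root_.MulZeroClass.mul_zero, _root_.add_zero, _root_.Matrix.cons_val_succ, _root_.mul_one, _root_.zero_add, _root_.forall_const, _root_.add_right_inj, _root_.MulZeroClass.zero_mul, _root_.add_left_inj, _root_.and_true, _root_.true_and]) <;> (repeat' with_reducible apply And.intro)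
    all_goals field_simp

theorem phi_val (A : SpecialLinearGroup (Fin 2) (kf σ)) : (phi he h0 A).1.1 = phiM e A := rfl

theorem phi_injective : Function.Injective (phi (σ := σ) he h0) := by
  intro A B h
  have h1 : phiM e A = phiM e B := congrArg (fun x : SUJ σ => x.1.1) h
  ext i j
  fin_cases i <;> fin_cases j
  · simpa only [phiM, _root_.Fin.zero_eta, _root_.Fin.isValue, _root_.SetLike.coe_eq_coe, _root_.Matrix.of_apply, _root_.Matrix.cons_val', _root_.Matrix.cons_val_zero, _root_.Matrix.cons_val_fin_one] using congrFun (congrFun h1 0) 0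
  · simpa only [phiM, h0, _root_.Fin.zero_eta, _root_.Fin.isValue, _root_.Fin.mk_one, _root_.SetLike.coe_eq_coe, _root_.Matrix.of_apply, _root_.Matrix.cons_val', _root_.Matrix.cons_val, _root_.Matrix.cons_val_fin_one, _root_.Matrix.cons_val_zero, _root_.mul_eq_mul_left_iff, _root_.or_false] using congrFun (congrFun h1 0) 2
  · simpa only [phiM, h0, _root_.Fin.mk_one, _root_.Fin.isValue, _root_.Fin.zero_eta, _root_.SetLike.coe_eq_coe, _root_.Matrix.of_apply, _root_.Matrix.cons_val', _root_.Matrix.cons_val_zero, _root_.Matrix.cons_val_fin_one, _root_.Matrix.cons_val, _root_.Matrix.cons_val_one, _root_.mul_eq_mul_right_iff, _root_.inv_eq_zero, _root_.or_false] using congrFun (congrFun h1 2) 0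
  · simpa only [phiM, _root_.Fin.mk_one, _root_.Fin.isValue, _root_.SetLike.coe_eq_coe, _root_.Matrix.of_apply, _root_.Matrix.cons_val', _root_.Matrix.cons_val, _root_.Matrix.cons_val_fin_one, _root_.Matrix.cons_val_one] using congrFun (congrFun h1 2) 2

theorem phi_comm (A : SpecialLinearGroup (Fin 2) (kf σ)) : phi he h0 A * t0 σ = t0 σ * phi he h0 A := by
  apply ext_mt
  rw [mt_mul, mt_mul, phi_val, t0_val]
  ext i j
  (revert i j; simp only [phiM, dmat, Matrix.mul_apply, Fin.sum_univ_three, _root_.Fin.forall_fin_succ, Fin.isValue, _root_.Matrix.of_apply, _root_.Matrix.cons_val', _root_.Matrix.cons_val_fin_one, _root_.Matrix.cons_val_zero, _root_.Matrix.cons_val_one, _root_.Matrix.cons_val, _root_.mul_neg, _root_.mul_one, _root_.MulZeroClass.mul_zero, _root_.add_zero, _root_.Matrix.cons_val_succ, _root_.zero_add, _root_.forall_const, _root_.true_and, _root_.neg_mul, _root_.one_mul, _root_.MulZeroClass.zero_mul, _root_.and_self, _root_.neg_zero, _root_.implies_true])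

/-- the elements fixing `e2` -/
theorem exists_phi (hσ : ∀ x, σ (σ x) = x) {x : SUJ σ} (hx : x.1.1 *ᵥ e2 F = e2 F) : ∃ A, phi he h0 A = x := by
  have h01 : x.1.1 0 1 = 0 := by
    have := congrFun hx 0
    simpa only [e2, Matrix.mulVec, dotProduct, Fin.sum_univ_three, _root_.Fin.isValue, _root_.Matrix.mulVec, _root_.Matrix.cons_val_zero, _root_.MulZeroClass.mul_zero, _root_.Matrix.cons_val_one, _root_.mul_one, _root_.zero_add, _root_.Matrix.cons_val, _root_.add_zero] using this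
  have h11 : x.1.1 1 1 = 1 := by
    have := congrFun hx 1
    simpa only [e2, Matrix.mulVec, dotProduct, Fin.sum_univ_three, _root_.Fin.isValue, _root_.Matrix.mulVec, _root_.Matrix.cons_val_zero, _root_.MulZeroClass.mul_zero, _root_.Matrix.cons_val_one, _root_.mul_one, _root_.zero_add, _root_.Matrix.cons_val, _root_.add_zero] using this
  have h21 : x.1.1 2 1 = 0 := by
    have := congrFun hx 2
    simpa only [e2, Matrix.mulVec, dotProduct, Fin.sum_univ_three, _root_.Fin.isValue, _root_.Matrix.mulVec, _root_.Matrix.cons_val_zero, _root_.MulZeroClass.mul_zero, _root_.Matrix.cons_val_one, _root_.mul_one, _root_.zero_add, _root_.Matrix.cons_val, _root_.add_zero] using this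
  have h10 : x.1.1 1 0 = 0 := by
    have hE := entry_of_mem_SUJ x.2 0 1
    rw [h01, h11, h21, show Jm F 0 1 = 0 by simp [Jm], map_zero, map_one] at hE
    linear_combination hE
  have h12 : x.1.1 1 2 = 0 := by
    have hE := entry_of_mem_SUJ x.2 2 1
    rw [h01, h11, h21, show Jm F 2 1 = 0 by simp [Jm], map_zero, map_one] at hE
    linear_combination hE
  have hd : x.1.1.det = 1 := x.1.2
  rw [Matrix.det_fin_three, h01, h11, h21, h10, h12] at hd
  have E00 := entry_of_mem_SUJ x.2 0 0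
  have E22 := entry_of_mem_SUJ x.2 2 2
  have E02 := entry_of_mem_SUJ x.2 0 2
  rw [h10, show Jm F 0 0 = 0 by simp [Jm]] at E00
  rw [h12, show Jm F 2 2 = 0 by simp [Jm]] at E22
  rw [h10, h12, show Jm F 0 2 = 1 by simp [Jm]] at E02
  have E02' := congrArg σ E02
  simp only [map_add, map_mul, map_one, map_zero, hσ, mul_zero, zero_mul, add_zero] at E00 E22 E02 E02'
  have hse : σ e = -e := by linear_combination he
  have s22 : σ (x.1.1 2 2) = x.1.1 2 2 := by
    linear_combination (-σ (x.1.1 2 2)) * hd + x.1.1 2 2 * E02 - x.1.1 2 0 * E22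
  have s00 : σ (x.1.1 0 0) = x.1.1 0 0 := by
    linear_combination (-σ (x.1.1 0 0)) * hd + x.1.1 0 0 * E02' - x.1.1 0 2 * E00
  have s20 : σ (x.1.1 2 0) = -x.1.1 2 0 := by
    linear_combination (-σ (x.1.1 2 0)) * hd - x.1.1 2 0 * E02' + x.1.1 2 2 * E00
  have s02 : σ (x.1.1 0 2) = -x.1.1 0 2 := by
    linear_combination (-σ (x.1.1 0 2)) * hd - x.1.1 0 2 * E02 + x.1.1 0 0 * E22
  let A : Matrix (Fin 2) (Fin 2) (kf σ) := !![⟨x.1.1 0 0, s00⟩, ⟨x.1.1 0 2 * e⁻¹, by
    rw [mem_kf, map_mul, map_inv₀, hse, s02, inv_neg]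
    ring⟩; ⟨x.1.1 2 0 * e, by
    rw [mem_kf, map_mul, hse, s20]
    ring⟩, ⟨x.1.1 2 2, s22⟩]
  have hA : A.det = 1 := by
    rw [Matrix.det_fin_two]
    apply Subtype.ext
    change x.1.1 0 0 * x.1.1 2 2 - x.1.1 0 2 * e⁻¹ * (x.1.1 2 0 * e) = 1
    field_simp
    linear_combination hd
  refine ⟨⟨A, hA⟩, ?_⟩
  apply ext_mt
  change phiM e (⟨A, hA⟩ : SpecialLinearGroup (Fin 2) (kf σ)) = x.1.1
  ext i j
  fin_cases i <;> fin_cases j <;> simp only [phiM, A, h01, h11, h21, h10, h12, _root_.Cfsg.Agent.H66.IFU.phiM, _root_.Fin.isValue, _root_.Matrix.of_apply, _root_.Matrix.cons_val', _root_.Matrix.cons_val_zero, _root_.Matrix.cons_val_fin_one, _root_.Matrix.cons_val_one, _root_.Fin.zero_eta, _root_.Fin.mk_one, _root_.Fin.reduceFinMk, _root_.Matrix.cons_val]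
  all_goals field_simp

end phi

/-! ### the class of `t0` -/

theorem comm_of_eig {x : SUJ σ} {l : F} (hx : x.1.1 *ᵥ e2 F = l • e2 F) : x * t0 σ = t0 σ * x := by
  have h01 : x.1.1 0 1 = 0 := by
    have := congrFun hx 0
    simpa only [e2, Matrix.mulVec, dotProduct, Fin.sum_univ_three, _root_.Fin.isValue, _root_.Matrix.mulVec, _root_.Matrix.cons_val_zero, _root_.MulZeroClass.mul_zero, _root_.Matrix.cons_val_one, _root_.mul_one, _root_.zero_add, _root_.Matrix.cons_val, _root_.add_zero, _root_.Pi.smul_apply, _root_.smul_eq_mul] using this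
  have h21 : x.1.1 2 1 = 0 := by
    have := congrFun hx 2
    simpa only [e2, Matrix.mulVec, dotProduct, Fin.sum_univ_three, _root_.Fin.isValue, _root_.Matrix.mulVec, _root_.Matrix.cons_val_zero, _root_.MulZeroClass.mul_zero, _root_.Matrix.cons_val_one, _root_.mul_one, _root_.zero_add, _root_.Matrix.cons_val, _root_.add_zero, _root_.Pi.smul_apply, _root_.smul_eq_mul] using this
  have h11 : x.1.1 1 1 ≠ 0 := by
    intro h
    have hd : x.1.1.det = 1 := x.1.2
    rw [Matrix.det_fin_three, h01, h21, h] at hd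
    simp only [_root_.Fin.isValue, _root_.MulZeroClass.mul_zero, _root_.MulZeroClass.zero_mul, _root_.sub_self, _root_.add_zero, _root_.zero_ne_one] at hd
  have h11' : σ (x.1.1 1 1) ≠ 0 := (map_ne_zero σ).2 h11
  have h10 : x.1.1 1 0 = 0 := by
    have hE := entry_of_mem_SUJ x.2 0 1
    rw [h01, h21, show Jm F 0 1 = 0 by simp [Jm], map_zero, mul_zero, mul_zero, add_zero, zero_add, mul_eq_zero] at hE
    exact hE.resolve_right h11'
  have h12 : x.1.1 1 2 = 0 := by
    have hE := entry_of_mem_SUJ x.2 2 1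
    rw [h01, h21, show Jm F 2 1 = 0 by simp [Jm], map_zero, mul_zero, mul_zero, add_zero, zero_add, mul_eq_zero] at hE
    exact hE.resolve_right h11'
  apply ext_mt
  rw [mt_mul, mt_mul, t0_val]
  ext i j
  (revert i j; simp only [dmat, Matrix.mul_apply, Fin.sum_univ_three, h01, h21, h10, h12, _root_.Fin.forall_fin_succ, _root_.Matrix.of_apply, _root_.Matrix.cons_val', _root_.Matrix.cons_val_fin_one, Fin.isValue, _root_.Matrix.cons_val_zero, _root_.Matrix.cons_val_one, _root_.Matrix.cons_val, _root_.mul_neg, _root_.mul_one, _root_.MulZeroClass.mul_zero, _root_.add_zero, _root_.Matrix.cons_val_succ, _root_.zero_add, _root_.Fin.succ_zero_eq_one, _root_.Fin.succ_one_eq_two, _root_.IsEmpty.forall_iff, _root_.and_true, _root_.neg_mul, _root_.one_mul, _root_.MulZeroClass.zero_mul, _root_.and_self, _root_.neg_zero, _root_.neg_inj])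

theorem e2_ne : e2 F ≠ 0 := fun h => by
  have := congrFun h 1
  simp [e2] at this

theorem mulVec_ne {x : SUJ σ} {v : Fin 3 → F} (hv : v ≠ 0) : x.1.1 *ᵥ v ≠ 0 := by
  intro h
  apply hv
  have h1 := mulVec_inv h
  rw [Matrix.mulVec_zero] at h1
  exact h1.symm

theorem index_cent [Fintype F] {q : ℕ} (hF : Fintype.card F = q ^ 2) (g : SUJ σ) :
    (Subgroup.centralizer ({g * t0 σ * g⁻¹} : Set (SUJ σ))).index ≤ q ^ 4 + q ^ 2 + 1 := by
  have hcard : Nat.card (ℙ F (Fin 3 → F)) = q ^ 4 + q ^ 2 + 1 := by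
    have h1 := Projectivization.card_of_finrank F (Fin 3 → F) (n := 3) (by simp)
    rw [h1, Nat.card_eq_fintype_card, hF]
    simp only [Finset.sum_range_succ, _root_.Finset.sum_range_succ, _root_.Finset.range_one, _root_.Finset.sum_singleton, _root_.pow_zero, _root_.pow_one]
    ring
  rw [← hcard, Subgroup.index]
  let f : SUJ σ ⧸ Subgroup.centralizer ({g * t0 σ * g⁻¹} : Set (SUJ σ)) → ℙ F (Fin 3 → F) := fun c =>
    Projectivization.mk F ((c.out * g).1.1 *ᵥ e2 F) (mulVec_ne e2_ne)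
  refine Nat.card_le_card_of_injective f ?_
  intro a b hab
  obtain ⟨l, hl⟩ := (Projectivization.mk_eq_mk_iff' F _ _ (mulVec_ne e2_ne) (mulVec_ne e2_ne)).1 hab
  have h2 : (g⁻¹ * (b.out⁻¹ * a.out) * g).1.1 *ᵥ e2 F = l • e2 F := by
    have h3 : g⁻¹ * (b.out⁻¹ * a.out) * g = (b.out * g)⁻¹ * (a.out * g) := by group
    have h4 : (a.out * g).1.1 *ᵥ e2 F = l • ((b.out * g).1.1 *ᵥ e2 F) := hl.symm
    rw [h3, mulVec_mt, h4, Matrix.mulVec_smul, mulVec_inv rfl]
  have h3 := comm_of_eig h2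
  have h4 : b.out⁻¹ * a.out ∈ Subgroup.centralizer ({g * t0 σ * g⁻¹} : Set (SUJ σ)) := by
    rw [Subgroup.mem_centralizer_singleton_iff]
    calc b.out⁻¹ * a.out * (g * t0 σ * g⁻¹) = g * (g⁻¹ * (b.out⁻¹ * a.out) * g * t0 σ) * g⁻¹ := by group
      _ = g * (t0 σ * (g⁻¹ * (b.out⁻¹ * a.out) * g)) * g⁻¹ := by rw [h3]
      _ = g * t0 σ * g⁻¹ * (b.out⁻¹ * a.out) := by group
  have h5 := QuotientGroup.eq.2 h4
  rw [QuotientGroup.out_eq', QuotientGroup.out_eq'] at h5
  exact h5.symm

end Cfsg.Agent.H66.IFU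
end

-- part: H66/IFU/Odd
section
/-!
# S5719, `PSU_3(q)`, `q` odd (helper66)
-/

set_option autoImplicit false
set_option linter.unusedSectionVars false
set_option linter.unusedVariables false

namespace Cfsg.Agent.H66.IFU

open Cfsg Matrix Cfsg.Agent.LieRecognition.PSUThreeSylow Cfsg.Agent.H961.LinePSU3
open Cfsg.Agent.H209.Fxy

/-- a simple group with a subgroup different from `⊥` and `⊤` is not commutative -/
theorem exists_not_comm {T : Type*} [Group T] [IsSimpleGroup T] {A : Subgroup T} (h1 : A ≠ ⊥) (h2 : A ≠ ⊤) :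
    ∃ a b : T, a * b ≠ b * a := by
  by_contra hcon
  push Not at hcon
  have hn : A.Normal := ⟨fun n hn g => by rw [hcon g n, mul_assoc, mul_inv_cancel, mul_one]; exact hn⟩
  rcases hn.eq_bot_or_eq_top with h | h
  · exact h1 h
  · exact h2 h

/-- the model -/
structure Mod (F : Type) [Field F] [Fintype F] (q : ℕ) where
  σ : F →+* F
  hs : ∀ x, σ x = x ^ q
  hσ : ∀ x, σ (σ x) = x
  π : SUJ σ →* PSU 3 F q
  surj : Function.Surjective π
  ker : ∀ x, π x = 1 → x * x * x = 1 ∧ ∀ y, x * y = y * x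

theorem exists_mod (F : Type) [Field F] [Fintype F] {q : ℕ} (hF : Fintype.card F = q ^ 2) : Nonempty (Mod F q) := by
  obtain ⟨r, hr⟩ := CharP.exists F
  have hrp : Fact r.Prime := ⟨CharP.char_is_prime F r⟩
  obtain ⟨n, -, hn⟩ := FiniteField.card F r
  have hq : 2 ≤ q := by
    have h1 : 1 < Fintype.card F := Fintype.one_lt_card
    rw [hF] at h1
    by_contra hlt
    have : q ≤ 1 := by omega
    have : q ^ 2 ≤ 1 := by nlinarith only [hlt]
    omega
  obtain ⟨f, hf⟩ : ∃ f, q = r ^ f := by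
    have h1 : q ∣ r ^ (n : ℕ) := by rw [← hn, hF]; exact dvd_pow_self q (by norm_num)
    obtain ⟨f, -, hf⟩ := (Nat.dvd_prime_pow hrp.out).1 h1
    exact ⟨f, hf⟩
  obtain ⟨σ, hs, hσ, T, T', hTT, hT⟩ := exists_T_all (r := r) hF hf hq
  let e : SUJ σ ≃* SU 3 F q := ((conjT hTT).subgroupMap (SUJ σ)).trans (MulEquiv.subgroupCongr (SU_eq_map hs hTT hT))
  refine ⟨⟨σ, hs, hσ, (QuotientGroup.mk' (Subgroup.center (SU 3 F q))).comp e.toMonoidHom,
    (QuotientGroup.mk'_surjective _).comp e.surjective, ?_⟩⟩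
  intro x hx
  have h1 : e x ∈ Subgroup.center (SU 3 F q) := (QuotientGroup.eq_one_iff _).1 hx
  constructor
  · obtain ⟨c, hc3, hcq, hc⟩ := (Cfsg.Agent.LieClassical.SUBasic.mem_center_SU_iff hF le_rfl _).1 h1
    apply e.injective
    rw [map_mul, map_mul, map_one]
    rw [hc]
    apply Subtype.ext
    apply Subtype.ext
    change ((Cfsg.Agent.LieClassical.SUBasic.suScalar q c hc3 hcq).1.1 * (Cfsg.Agent.LieClassical.SUBasic.suScalar q c hc3 hcq).1.1) *
      (Cfsg.Agent.LieClassical.SUBasic.suScalar q c hc3 hcq).1.1 = (1 : Matrix (Fin 3) (Fin 3) F)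
    rw [Cfsg.Agent.LieClassical.SUBasic.coe_suScalar, Matrix.diagonal_mul_diagonal, Matrix.diagonal_mul_diagonal,
      ← Matrix.diagonal_one]
    congr 1
    funext i
    rw [← hc3]
    ring
  · intro y
    apply e.injective
    rw [map_mul, map_mul]
    exact (Subgroup.mem_center_iff.1 h1 (e y)).symm

section main

variable {F : Type} [Field F] [Fintype F] {q : ℕ}

/-- an involution commuting with `t0` -/
def r0 (σ : F →+* F) : SUJ σ :=
  ⟨⟨!![0, 0, 1; 0, -1, 0; 1, 0, 0], by rw [Matrix.det_fin_three]; simp⟩, by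
    change (!![0, 0, 1; 0, -1, 0; 1, 0, 0] : Matrix (Fin 3) (Fin 3) F)ᵀ * Jm F *
      (!![0, 0, 1; 0, -1, 0; 1, 0, 0] : Matrix (Fin 3) (Fin 3) F).map σ = Jm F
    ext i j
    (revert i j; simp only [Jm, Matrix.mul_apply, Fin.sum_univ_three, _root_.Fin.forall_fin_succ, _root_.Matrix.transpose_apply, _root_.Matrix.of_apply, _root_.Matrix.cons_val', _root_.Matrix.cons_val_fin_one, Fin.isValue, _root_.Matrix.cons_val_zero, _root_.Matrix.cons_val_one, _root_.Matrix.cons_val, _root_.Matrix.map_apply, _root_.MulZeroClass.mul_zero, _root_.add_zero, _root_.mul_one, _root_.zero_add, _root_.map_zero, _root_.map_one, _root_.Matrix.cons_val_succ, _root_.map_neg, _root_.mul_neg, _root_.forall_const, _root_.neg_zero, _root_.and_self, _root_.neg_neg, _root_.implies_true])⟩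

theorem r0_val (σ : F →+* F) : (r0 σ).1.1 = !![0, 0, 1; 0, -1, 0; 1, 0, 0] := rfl

theorem r0_sq (σ : F →+* F) : r0 σ * r0 σ = 1 := by
  apply ext_mt
  rw [mt_mul, mt_one, r0_val]
  ext i j
  (revert i j; simp only [Matrix.mul_apply, Fin.sum_univ_three, _root_.Fin.forall_fin_succ, _root_.Matrix.of_apply, _root_.Matrix.cons_val', _root_.Matrix.cons_val_fin_one, Fin.isValue, _root_.Matrix.cons_val_zero, _root_.Matrix.cons_val_one, _root_.Matrix.cons_val, _root_.MulZeroClass.mul_zero, _root_.add_zero, _root_.mul_one, _root_.zero_add, _root_.Matrix.cons_val_succ, _root_.mul_neg, _root_.IsEmpty.forall_iff, _root_.and_true, _root_.Matrix.one_apply_eq, _root_.neg_zero, Nat.reduceAdd, _root_.Fin.succ_zero_eq_one, _root_.ne_eq, _root_.zero_ne_one, _root_.not_false_eq_true, _root_.Matrix.one_apply_ne, _root_.Fin.succ_one_eq_two, Fin.reduceEq, _root_.and_self, _root_.Fin.succ_ne_zero, _root_.neg_neg, _root_.true_and])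

theorem t0_sq (σ : F →+* F) : t0 σ * t0 σ = 1 := by
  apply ext_mt
  rw [mt_mul, mt_one, t0_val]
  ext i j
  (revert i j; simp only [dmat, Matrix.mul_apply, Fin.sum_univ_three, _root_.Fin.forall_fin_succ, _root_.Matrix.of_apply, _root_.Matrix.cons_val', _root_.Matrix.cons_val_fin_one, Fin.isValue, _root_.Matrix.cons_val_zero, _root_.Matrix.cons_val_one, _root_.Matrix.cons_val, _root_.mul_neg, _root_.mul_one, _root_.MulZeroClass.mul_zero, _root_.add_zero, _root_.Matrix.cons_val_succ, _root_.zero_add, _root_.IsEmpty.forall_iff, _root_.and_true, _root_.neg_neg, _root_.Matrix.one_apply_eq, Nat.reduceAdd, _root_.Fin.succ_zero_eq_one, _root_.ne_eq, _root_.zero_ne_one, _root_.not_false_eq_true, _root_.Matrix.one_apply_ne, _root_.neg_zero, _root_.Fin.succ_one_eq_two, Fin.reduceEq, _root_.and_self, _root_.Fin.succ_ne_zero, _root_.neg_eq_zero, _root_.true_and])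

theorem r0_comm (σ : F →+* F) : r0 σ * t0 σ = t0 σ * r0 σ := by
  apply ext_mt
  rw [mt_mul, mt_mul, t0_val, r0_val]
  ext i j
  (revert i j; simp only [dmat, Matrix.mul_apply, Fin.sum_univ_three, _root_.Fin.forall_fin_succ, _root_.Matrix.of_apply, _root_.Matrix.cons_val', _root_.Matrix.cons_val_fin_one, Fin.isValue, _root_.Matrix.cons_val_zero, _root_.Matrix.cons_val_one, _root_.Matrix.cons_val, _root_.mul_neg, _root_.mul_one, _root_.MulZeroClass.mul_zero, _root_.add_zero, _root_.zero_add, _root_.Matrix.cons_val_succ, _root_.forall_const, _root_.neg_zero, _root_.and_self, _root_.implies_true])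

theorem t0_ne (h2 : (2 : F) ≠ 0) (σ : F →+* F) : t0 σ ≠ 1 := by
  intro h
  have h1 := congrFun (congrFun (congrArg (fun x : SUJ σ => x.1.1) h) 0) 0
  simp only [t0_val, mt_one, dmat] at h1
  simp at h1
  apply h2
  linear_combination -h1

theorem r0_ne (σ : F →+* F) : r0 σ ≠ 1 := by
  intro h
  have h1 := congrFun (congrFun (congrArg (fun x : SUJ σ => x.1.1) h) 0) 0
  simp only [r0_val, mt_one] at h1
  simp at h1

theorem r0_ne_t0 (σ : F →+* F) : r0 σ ≠ t0 σ := by
  intro h
  have h1 := congrFun (congrFun (congrArg (fun x : SUJ σ => x.1.1) h) 0) 0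
  simp only [r0_val, t0_val, dmat] at h1
  simp at h1

/-- an element of order at most two in the kernel is trivial -/
theorem Mod.eq_one (M : Mod F q) {x : SUJ M.σ} (h2 : x * x = 1) (h : M.π x = 1) : x = 1 := by
  have h3 := (M.ker x h).1
  rwa [h2, one_mul] at h3

/-- involutions lift -/
theorem Mod.lift (M : Mod F q) {s : PSU 3 F q} (h2 : s * s = 1) : ∃ x : SUJ M.σ, M.π x = s ∧ x * x = 1 := by
  obtain ⟨y, hy⟩ := M.surj s
  refine ⟨y * y * y, ?_, ?_⟩
  · rw [map_mul, map_mul, hy, h2, one_mul]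
  · have h3 : M.π (y * y) = 1 := by rw [map_mul, hy, h2]
    have h4 := (M.ker _ h3).1
    calc y * y * y * (y * y * y) = y * y * (y * y) * (y * y) := by group
      _ = 1 := h4

/-- the index of the centralizer in `PSU_3(q)` -/
theorem Mod.index_cent (M : Mod F q) (hF : Fintype.card F = q ^ 2) (g : SUJ M.σ) :
    (Subgroup.centralizer ({M.π (g * t0 M.σ * g⁻¹)} : Set (PSU 3 F q))).index ≤ q ^ 4 + q ^ 2 + 1 := by
  have hfin : Finite (SUJ M.σ) := inferInstance
  refine le_trans ?_ (Cfsg.Agent.H66.IFU.index_cent hF g)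
  have h1 : (Subgroup.centralizer ({g * t0 M.σ * g⁻¹} : Set (SUJ M.σ))).map M.π ≤
      Subgroup.centralizer ({M.π (g * t0 M.σ * g⁻¹)} : Set (PSU 3 F q)) := by
    rintro _ ⟨x, hx, rfl⟩
    rw [Subgroup.mem_centralizer_singleton_iff, ← map_mul, ← map_mul]
    rw [SetLike.mem_coe, Subgroup.mem_centralizer_singleton_iff] at hx
    rw [hx]
  have hfin' : Finite (PSU 3 F q) := Finite.of_surjective _ M.surj
  have h2 := Nat.le_of_dvd (Nat.pos_of_ne_zero (Subgroup.index_ne_zero_of_finite))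
    (Subgroup.index_dvd_of_le h1)
  have h3 := Nat.le_of_dvd (Nat.pos_of_ne_zero (Subgroup.index_ne_zero_of_finite))
    (Subgroup.index_map_dvd (Subgroup.centralizer ({g * t0 M.σ * g⁻¹} : Set (SUJ M.σ))) M.surj)
  exact h2.trans h3

theorem good (M : Mod F q) (hF : Fintype.card F = q ^ 2) (hq : Odd q) (h2 : (2 : F) ≠ 0) {p : ℕ} [hp : Fact p.Prime]
    [CharP F p] [IsSimpleGroup (PSU 3 F q)] {A : Subgroup (PSU 3 F q)} {Γ : Subgroup (MulAut (PSU 3 F q))}
    (h : IF A Γ) : Good p (A.comap M.π) := by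
  have hfin' : Finite (PSU 3 F q) := Finite.of_surjective _ M.surj
  have hna := exists_not_comm h.ne_bot h.ne_top
  intro g hg x hx hxp
  -- trace zero element
  obtain ⟨w, hw⟩ := Cfsg.Agent.LieClassical.HermBasic.exists_not_fixed hF
  rw [← M.hs] at hw
  have he : (w - M.σ w) + M.σ (w - M.σ w) = 0 := by
    rw [map_sub, M.hσ]
    ring
  have h0 : w - M.σ w ≠ 0 := fun h5 => hw (by linear_combination -h5)
  obtain ⟨y, rfl⟩ := exists_phi he h0 M.hσ hx
  -- the involution
  obtain ⟨t, ht⟩ : ∃ t, t = M.π (g * t0 M.σ * g⁻¹) := ⟨_, rfl⟩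
  have htA : t ∈ A := by rw [ht]; exact hg
  have hgg : (g * t0 M.σ * g⁻¹) * (g * t0 M.σ * g⁻¹) = 1 := by
    calc (g * t0 M.σ * g⁻¹) * (g * t0 M.σ * g⁻¹) = g * (t0 M.σ * t0 M.σ) * g⁻¹ := by group
      _ = 1 := by rw [t0_sq]; group
  have hto : orderOf t = 2 := by
    apply orderOf_eq_prime
    · rw [pow_two, ht, ← map_mul, hgg, map_one]
    · intro h5
      rw [ht] at h5
      have h6 := M.eq_one hgg h5
      apply t0_ne h2 M.σ
      have h7 : t0 M.σ = g⁻¹ * (g * t0 M.σ * g⁻¹) * g := by group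
      rw [h7, h6]
      group
  obtain ⟨-, -, -, -, hE⟩ := Cfsg.Agent.H999.IFB.IF.E2' h hna htA hto
  let f : SpecialLinearGroup (Fin 2) (kf M.σ) →* PSU 3 F q :=
    M.π.comp ((MulAut.conj g).toMonoidHom.comp (phi he h0))
  have hf : ∀ z, f z = M.π (g * phi he h0 z * g⁻¹) := fun z => rfl
  have hr : f.range ≤ Subgroup.centralizer ({t} : Set (PSU 3 F q)) := by
    rintro _ ⟨z, rfl⟩
    rw [Subgroup.mem_centralizer_singleton_iff, hf, ht, ← map_mul, ← map_mul]
    congr 1
    calc g * phi he h0 z * g⁻¹ * (g * t0 M.σ * g⁻¹) = g * (phi he h0 z * t0 M.σ) * g⁻¹ := by group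
      _ = g * (t0 M.σ * phi he h0 z) * g⁻¹ := by rw [phi_comm]
      _ = _ := by group
  have hidx := (hE _ hr).1
  rw [← Subgroup.index_comap] at hidx
  have hc := M.index_cent hF g
  rw [← ht] at hc
  have hk : Nat.card (kf M.σ) = q := by
    have h5 := card_kf M.hσ hw
    rw [Nat.card_eq_fintype_card, hF] at h5
    exact (Nat.pow_left_injective (by norm_num : 2 ≠ 0) h5).symm
  have hkf : Fintype (kf M.σ) := Fintype.ofFinite _
  have hk' : Fintype.card (kf M.σ) = q := by rw [← Nat.card_eq_fintype_card, hk]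
  have hmem : y ∈ A.comap f := by
    by_cases hq5 : 5 ≤ q
    · have h5 := Cfsg.Agent.H771.IFx.idx_top (F := kf M.σ) (by rw [hk']; exact hq) (by rw [hk']; exact hq5)
        (A.comap f) (by
          rw [hk']
          have h6 : q ^ 4 + q ^ 2 + 1 ≤ (q ^ 2 + q + 1) * q ^ 2 := by
            have : 1 ≤ q ^ 3 := Nat.one_le_pow _ _ (by omega)
            linarith only [this]
          omega)
      rw [h5]
      trivial
    · -- `q = 3`
      have hq2 : 2 ≤ q := Cfsg.Agent.LieClassical.HermBasic.two_le hF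
      have hq3 : q = 3 := by
        obtain ⟨k, hk⟩ := hq
        omega
      subst hq3
      have hp3 : p = 3 := by
        have h5 : p ∣ Fintype.card F := by
          obtain ⟨n, -, hn⟩ := FiniteField.card F p
          rw [hn]
          exact dvd_pow_self p n.ne_zero
        rw [hF] at h5
        have h6 := hp.out.dvd_of_dvd_pow h5
        exact (Nat.prime_dvd_prime_iff_eq hp.out Nat.prime_three).1 h6
      subst hp3
      have hy3 : y ^ 3 = 1 := by
        apply phi_injective he h0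
        rw [map_pow, map_one]
        exact hxp
      have h7 : (A.comap f).index ≤ 2 := by
        by_contra h8
        push Not at h8
        have h9 : 3 ^ 5 ≤ (A.comap f).index ^ 5 := Nat.pow_le_pow_left h8 5
        norm_num at hc h9
        omega
      have h8 : (A.comap f).index ≠ 0 := Subgroup.index_ne_zero_of_finite
      rcases (show (A.comap f).index = 1 ∨ (A.comap f).index = 2 by omega) with h9 | h9
      · rw [Subgroup.index_eq_one.1 h9]
        trivial
      · have h10 : y * y ∈ A.comap f := Subgroup.mul_self_mem_of_index_two h9 y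
        have h11 : y = (y * y)⁻¹ := by
          rw [eq_inv_iff_mul_eq_one, ← hy3, pow_three]
        rw [h11]
        exact inv_mem h10
  exact hmem

theorem odd (F : Type) [Field F] [Fintype F] (q : ℕ) (hF : Fintype.card F = q ^ 2) (hq : Odd q)
    (hs : IsSimpleGroup (PSU 3 F q)) : KillE (PSU 3 F q) := by
  intro A Γ h ⟨t, htA, hto⟩
  obtain ⟨M⟩ := exists_mod F hF
  have hfin' : Finite (PSU 3 F q) := Finite.of_surjective _ M.surj
  obtain ⟨p, hp⟩ := CharP.exists F
  have hpp : Fact p.Prime := ⟨CharP.char_is_prime F p⟩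
  have h2 : (2 : F) ≠ 0 := Cfsg.Agent.H771.IFx.two_ne_of_odd (by rw [hF]; exact hq.pow)
  have hna := exists_not_comm h.ne_bot h.ne_top
  have hG := good M hF hq h2 (p := p) h
  obtain ⟨w, hw⟩ := Cfsg.Agent.LieClassical.HermBasic.exists_not_fixed hF
  rw [← M.hs] at hw
  obtain ⟨e, he'⟩ : ∃ e, e = w - M.σ w := ⟨_, rfl⟩
  have he : e + M.σ e = 0 := by
    rw [he', map_sub, M.hσ]
    ring
  have h0 : e ≠ 0 := fun h5 => hw (by rw [he'] at h5; linear_combination -h5)
  have hn : ∀ a : F, M.σ a = a → a ≠ 0 → ∃ y, y * M.σ y = a := by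
    intro a ha ha0
    have h5 := S0754.result hF a ha0 (by rw [← M.hs]; exact ha)
    have h6 : 0 < Nat.card {x : F // x ^ (q + 1) = a} := by omega
    obtain ⟨⟨y, hy⟩⟩ := (Nat.card_pos_iff.1 h6).1
    exact ⟨y, by rw [M.hs, ← pow_succ', hy]⟩
  -- all involutions of `A`
  have hinv : ∀ s ∈ A, s * s = 1 → s ≠ 1 → ∃ g : SUJ M.σ, s = M.π (g * t0 M.σ * g⁻¹) := by
    intro s hs hss hs1
    obtain ⟨x, hx, hxx⟩ := M.lift hss
    obtain ⟨g, hg⟩ := inv_conj M.hσ h2 he h0 hn hxx (by
      rintro rfl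
      exact hs1 (by rw [← hx, map_one]))
    exact ⟨g, by rw [← hg, hx]⟩
  have htt : t * t = 1 := by rw [← pow_two, ← hto, pow_orderOf_eq_one]
  have ht1 : t ≠ 1 := fun h5 => by rw [h5, orderOf_one] at hto; omega
  obtain ⟨g, hg⟩ := hinv t htA htt ht1
  -- two involutions
  have hfin : ∀ g g' : SUJ M.σ, M.π (g * t0 M.σ * g⁻¹) ∈ A → M.π (g' * t0 M.σ * g'⁻¹) ∈ A →
      (g⁻¹ * g').1.1 2 1 = 0 := by
    intro g g' hg hg'
    by_contra hf
    let B : Subgroup (SUJ M.σ) := (A.comap M.π).comap (MulAut.conj g).toMonoidHom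
    have hmem : ∀ x, x ∈ B ↔ M.π (g * x * g⁻¹) ∈ A := fun x => Iff.rfl
    have hB : Good p B := by
      intro k hk x hx hxp
      have h5 := hG (g * k) (by
        have h6 : g * k * t0 M.σ * (g * k)⁻¹ = g * (k * t0 M.σ * k⁻¹) * g⁻¹ := by group
        rw [h6]
        exact hk) x hx hxp
      have h6 : g * k * x * (g * k)⁻¹ = g * (k * x * k⁻¹) * g⁻¹ := by group
      rw [h6] at h5
      exact h5
    have hf' : (g⁻¹ * g') * t0 M.σ * (g⁻¹ * g')⁻¹ ∈ B := by
      rw [hmem]
      have h6 : g * (g⁻¹ * g' * t0 M.σ * (g⁻¹ * g')⁻¹) * g⁻¹ = g' * t0 M.σ * g'⁻¹ := by group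
      rw [h6]
      exact hg'
    have hcore := core M.hσ h2 he h0 hB hg hf' hf
    -- a non central unitriangular element
    have hse : M.σ e = -e := by linear_combination he
    have hcb : e ^ 2 / 2 + M.σ (e ^ 2 / 2) + e * M.σ e = 0 := by
      rw [map_div₀, map_pow, hse, map_ofNat]
      field_simp
      ring
    have hu1 : M.π (up M.hσ e (e ^ 2 / 2) hcb) ≠ 1 := by
      intro h5
      have h6 := (M.ker _ h5).2 (t0 M.σ)
      have h7 := congrFun (congrFun (congrArg (fun x : SUJ M.σ => x.1.1) h6) 1) 2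
      simp only [mt_mul, up_val, t0_val, umt, dmat, Matrix.mul_apply, Fin.sum_univ_three, _root_.Subgroup.coe_mul, _root_.Fin.isValue, _root_.Matrix.SpecialLinearGroup.coe_mul, _root_.Cfsg.Agent.H66.IFU.up_val, _root_.Cfsg.Agent.H961.LinePSU3.umt, _root_.Cfsg.Agent.H66.IFU.t0_val, _root_.Cfsg.Agent.H961.LinePSU3.dmat, _root_.Matrix.mul_apply, _root_.Matrix.of_apply, _root_.Matrix.cons_val', _root_.Matrix.cons_val_fin_one, _root_.Matrix.cons_val_one, _root_.Matrix.cons_val_zero, _root_.Matrix.cons_val, _root_.Fin.sum_univ_three, _root_.MulZeroClass.mul_zero, _root_.add_zero, _root_.mul_neg, _root_.mul_one, _root_.zero_add, _root_.MulZeroClass.zero_mul, _root_.one_mul] at h7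
      have h8 : 2 * e = 0 := by linear_combination -h7
      exact h0 ((mul_eq_zero.1 h8).resolve_left h2)
    have hle : Subgroup.normalClosure ({M.π (up M.hσ e (e ^ 2 / 2) hcb)} : Set (PSU 3 F q)) ≤ A := by
      rw [Subgroup.normalClosure, Subgroup.closure_le]
      intro y hy
      obtain ⟨a, ha, hay⟩ := Group.mem_conjugatesOfSet_iff.1 hy
      rw [Set.mem_singleton_iff] at ha
      obtain ⟨k, hk⟩ := isConj_iff.1 hay
      obtain ⟨k', rfl⟩ := M.surj k
      have h5 := hcore (g⁻¹ * k') hcb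
      rw [hmem] at h5
      have h6 : g * (g⁻¹ * k' * up M.hσ e (e ^ 2 / 2) hcb * (g⁻¹ * k')⁻¹) * g⁻¹ =
          k' * up M.hσ e (e ^ 2 / 2) hcb * k'⁻¹ := by group
      rw [h6, map_mul, map_mul, map_inv, ← ha, hk] at h5
      exact h5
    rcases (Subgroup.normalClosure_normal (s := ({M.π (up M.hσ e (e ^ 2 / 2) hcb)} : Set (PSU 3 F q)))).eq_bot_or_eq_top
      with h5 | h5
    · apply hu1
      have h6 : M.π (up M.hσ e (e ^ 2 / 2) hcb) ∈ (⊥ : Subgroup (PSU 3 F q)) := by
        rw [← h5]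
        exact Subgroup.subset_normalClosure rfl
      exact Subgroup.mem_bot.1 h6
    · apply h.ne_top
      rw [eq_top_iff, ← h5]
      exact hle
  rw [hg] at htA
  by_cases hall : ∀ s ∈ A, s * s = 1 → s ≠ 1 → s = t
  · -- one involution
    have hAC : A ≤ Subgroup.centralizer ({t} : Set (PSU 3 F q)) := by
      intro a ha
      rw [Subgroup.mem_centralizer_singleton_iff]
      have htA' : t ∈ A := by rw [hg]; exact htA
      have h5 := hall (a * t * a⁻¹) (mul_mem (mul_mem ha htA') (inv_mem ha)) (by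
        calc a * t * a⁻¹ * (a * t * a⁻¹) = a * (t * t) * a⁻¹ := by group
          _ = 1 := by rw [htt]; group) (by
        intro h6
        apply ht1
        calc t = a⁻¹ * (a * t * a⁻¹) * a := by group
          _ = 1 := by rw [h6]; group)
      calc a * t = a * t * a⁻¹ * a := by group
        _ = t * a := by rw [h5]
    have hCinv : ∀ τ ∈ Γ, ∀ b ∈ Subgroup.centralizer ({t} : Set (PSU 3 F q)),
        τ b ∈ Subgroup.centralizer ({t} : Set (PSU 3 F q)) := by
      intro τ hτ b hb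
      rw [Subgroup.mem_centralizer_singleton_iff] at hb ⊢
      have htA' : t ∈ A := by rw [hg]; exact htA
      have h5 := hall (τ t) ((h.inv τ hτ t).2 htA') (by rw [← map_mul, htt, map_one]) (by
        intro h6
        apply ht1
        apply τ.injective
        rw [h6, map_one])
      calc τ b * t = τ b * τ t := by rw [h5]
        _ = τ t * τ b := by rw [← map_mul, hb, map_mul]
        _ = t * τ b := by rw [h5]
    rcases h.max _ hAC hCinv with h5 | h5
    · have hr : M.π (g * r0 M.σ * g⁻¹) ∈ A := by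
        rw [← h5, Subgroup.mem_centralizer_singleton_iff, hg, ← map_mul, ← map_mul]
        congr 1
        calc g * r0 M.σ * g⁻¹ * (g * t0 M.σ * g⁻¹) = g * (r0 M.σ * t0 M.σ) * g⁻¹ := by group
          _ = g * (t0 M.σ * r0 M.σ) * g⁻¹ := by rw [r0_comm]
          _ = _ := by group
      have hrr : g * r0 M.σ * g⁻¹ * (g * r0 M.σ * g⁻¹) = 1 := by
        calc g * r0 M.σ * g⁻¹ * (g * r0 M.σ * g⁻¹) = g * (r0 M.σ * r0 M.σ) * g⁻¹ := by group
          _ = 1 := by rw [r0_sq]; group
      have h6 := hall _ hr (by rw [← map_mul, hrr, map_one]) (by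
        intro h7
        apply r0_ne M.σ
        calc r0 M.σ = g⁻¹ * (g * r0 M.σ * g⁻¹) * g := by group
          _ = 1 := by rw [M.eq_one hrr h7]; group)
      have h7 : M.π (g * (r0 M.σ * t0 M.σ) * g⁻¹) = 1 := by
        have h8 : g * (r0 M.σ * t0 M.σ) * g⁻¹ = g * r0 M.σ * g⁻¹ * (g * t0 M.σ * g⁻¹) := by group
        rw [h8, map_mul, h6, ← hg, htt]
      have h8 := M.eq_one (x := g * (r0 M.σ * t0 M.σ) * g⁻¹) (by
        calc g * (r0 M.σ * t0 M.σ) * g⁻¹ * (g * (r0 M.σ * t0 M.σ) * g⁻¹) =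
            g * (r0 M.σ * (t0 M.σ * r0 M.σ) * t0 M.σ) * g⁻¹ := by group
          _ = g * (r0 M.σ * (r0 M.σ * t0 M.σ) * t0 M.σ) * g⁻¹ := by rw [r0_comm]
          _ = g * ((r0 M.σ * r0 M.σ) * (t0 M.σ * t0 M.σ)) * g⁻¹ := by group
          _ = 1 := by rw [r0_sq, t0_sq]; group) h7
      apply r0_ne_t0 M.σ
      have h9 : r0 M.σ * t0 M.σ = 1 := by
        calc r0 M.σ * t0 M.σ = g⁻¹ * (g * (r0 M.σ * t0 M.σ) * g⁻¹) * g := by group
          _ = 1 := by rw [h8]; group
      calc r0 M.σ = r0 M.σ * (t0 M.σ * t0 M.σ) := by rw [t0_sq, mul_one]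
        _ = r0 M.σ * t0 M.σ * t0 M.σ := by rw [mul_assoc]
        _ = t0 M.σ := by rw [h9, one_mul]
    · apply ht1
      apply Cfsg.Agent.H999.IFB.center_of hna
      intro x
      have h6 : x ∈ Subgroup.centralizer ({t} : Set (PSU 3 F q)) := by rw [h5]; trivial
      exact (Subgroup.mem_centralizer_singleton_iff.1 h6).symm
  · push Not at hall
    obtain ⟨s, hsA, hss, hs1, hst⟩ := hall
    obtain ⟨g', hg'⟩ := hinv s hsA hss hs1
    rw [hg'] at hsA
    have h5 := hfin g g' htA hsA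
    have h6 := hfin (g * (wl M.hσ e he h0)⁻¹) g' (by
      have h7 : g * (wl M.hσ e he h0)⁻¹ * t0 M.σ * (g * (wl M.hσ e he h0)⁻¹)⁻¹ = g * t0 M.σ * g⁻¹ := by
        have h8 : t0 M.σ * wl M.hσ e he h0 = wl M.hσ e he h0 * t0 M.σ := by
          apply ext_mt
          rw [mt_mul, mt_mul, t0_val, wl_val]
          ext i j
          (revert i j; simp only [dmat, Matrix.mul_apply, Fin.sum_univ_three, _root_.Fin.forall_fin_succ, _root_.Matrix.of_apply, _root_.Matrix.cons_val', _root_.Matrix.cons_val_fin_one, Fin.isValue, _root_.Matrix.cons_val_zero, _root_.Matrix.cons_val_one, _root_.Matrix.cons_val, _root_.MulZeroClass.mul_zero, _root_.add_zero, _root_.mul_neg, _root_.zero_add, _root_.mul_one, _root_.neg_inj, _root_.Matrix.cons_val_succ, _root_.forall_const, _root_.true_and, _root_.MulZeroClass.zero_mul, _root_.neg_mul, _root_.one_mul, _root_.and_self, _root_.neg_zero, _root_.implies_true])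
        calc g * (wl M.hσ e he h0)⁻¹ * t0 M.σ * (g * (wl M.hσ e he h0)⁻¹)⁻¹ =
            g * (wl M.hσ e he h0)⁻¹ * (t0 M.σ * wl M.hσ e he h0) * g⁻¹ := by group
          _ = g * (wl M.hσ e he h0)⁻¹ * (wl M.hσ e he h0 * t0 M.σ) * g⁻¹ := by rw [h8]
          _ = g * t0 M.σ * g⁻¹ := by group
      rw [h7]
      exact htA) hsA
    have h7 : (g * (wl M.hσ e he h0)⁻¹)⁻¹ * g' = wl M.hσ e he h0 * (g⁻¹ * g') := by group
    rw [h7, mt_mul, wl_val] at h6
    have h8 : (g⁻¹ * g').1.1 0 1 = 0 := by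
      simp only [Matrix.mul_apply, Fin.sum_univ_three] at h6
      simp only [h0, _root_.Fin.isValue, _root_.Matrix.of_apply, _root_.Matrix.cons_val', _root_.Matrix.cons_val_zero, _root_.Matrix.cons_val_fin_one, _root_.Matrix.cons_val, _root_.Matrix.cons_val_one, _root_.Subgroup.coe_mul, _root_.InvMemClass.coe_inv, _root_.Matrix.SpecialLinearGroup.coe_mul, _root_.Matrix.SpecialLinearGroup.coe_inv, _root_.neg_mul, _root_.MulZeroClass.zero_mul, _root_.add_zero, _root_.neg_eq_zero, _root_.mul_eq_zero, _root_.inv_eq_zero, _root_.false_or] at h6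
      exact h6
    have h9 := comm_of_eig (x := g⁻¹ * g') (l := (g⁻¹ * g').1.1 1 1) (by
      ext i
      fin_cases i
      · simpa only [e2, Matrix.mulVec, dotProduct, Fin.sum_univ_three, _root_.Matrix.mulVec, _root_.Subgroup.coe_mul, _root_.InvMemClass.coe_inv, _root_.Fin.zero_eta, _root_.Fin.isValue, _root_.Matrix.SpecialLinearGroup.coe_mul, _root_.Matrix.SpecialLinearGroup.coe_inv, _root_.Matrix.cons_val_zero, _root_.MulZeroClass.mul_zero, _root_.Matrix.cons_val_one, _root_.mul_one, _root_.zero_add, _root_.Matrix.cons_val, _root_.add_zero, _root_.Pi.smul_apply, _root_.smul_eq_mul] using h8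
      · simp only [e2, Matrix.mulVec, dotProduct, Fin.sum_univ_three, _root_.Matrix.mulVec, _root_.dotProduct, _root_.Subgroup.coe_mul, _root_.InvMemClass.coe_inv, _root_.Fin.mk_one, _root_.Fin.isValue, _root_.Matrix.SpecialLinearGroup.coe_mul, _root_.Matrix.SpecialLinearGroup.coe_inv, _root_.Cfsg.Agent.H66.IFU.e2, _root_.Fin.sum_univ_three, _root_.Matrix.cons_val_zero, _root_.MulZeroClass.mul_zero, _root_.Matrix.cons_val_one, _root_.mul_one, _root_.zero_add, _root_.Matrix.cons_val, _root_.add_zero, _root_.Pi.smul_apply, _root_.smul_eq_mul]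
      · simpa only [e2, Matrix.mulVec, dotProduct, Fin.sum_univ_three, _root_.Matrix.mulVec, _root_.Subgroup.coe_mul, _root_.InvMemClass.coe_inv, _root_.Fin.reduceFinMk, _root_.Matrix.SpecialLinearGroup.coe_mul, _root_.Matrix.SpecialLinearGroup.coe_inv, _root_.Fin.isValue, _root_.Matrix.cons_val_zero, _root_.MulZeroClass.mul_zero, _root_.Matrix.cons_val_one, _root_.mul_one, _root_.zero_add, _root_.Matrix.cons_val, _root_.add_zero, _root_.Pi.smul_apply, _root_.smul_eq_mul] using h5)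
    apply hst
    rw [hg', hg]
    congr 1
    calc g' * t0 M.σ * g'⁻¹ = g * (g⁻¹ * g' * t0 M.σ) * g'⁻¹ := by group
      _ = g * (t0 M.σ * (g⁻¹ * g')) * g'⁻¹ := by rw [h9]
      _ = g * t0 M.σ * g⁻¹ := by group

end main

end Cfsg.Agent.H66.IFU
end

-- part: H361/IFU/Heis
section
/-!
# Subgroups of small index in the unipotent group of `PSU_3(q)` (helper361, cell PSU.three of S5719)
-/

set_option autoImplicit false
set_option linter.unusedSectionVars false

namespace Cfsg.Agent.H361.IFU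

open Cfsg Cfsg.Agent.LieRecognition.RankOneAbstract Matrix Subgroup
open Cfsg.Agent.UThreeGen.MatGroup Cfsg.Agent.H705.PSU
open Cfsg.Agent.HKS.EndU (tor tmat tor_val tor_mem act tor_emb ci wel_tor exists_tor tor_mem_center sne tor_conj
  card_anti comm_of_a)
open Cfsg.Agent.H212.U3.Model (exists_a exists_trace_one card_HG)
open scoped commutatorElement

variable {F : Type} [Field F] {σ : F →+* F} [hσ : Fact (∀ x, σ (σ x) = x)]

/-- the centre of the unipotent group -/
def ZH (σ : F →+* F) [hσ : Fact (∀ x, σ (σ x) = x)] : Subgroup (HG σ) where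
  carrier := {x | x.a = 0}
  one_mem' := rfl
  mul_mem' := by
    intro x y hx hy
    show (x * y).a = 0
    rw [mul_a, show x.a = 0 from hx, show y.a = 0 from hy, add_zero]
  inv_mem' := by
    intro x hx
    show (x⁻¹).a = 0
    rw [inv_a, show x.a = 0 from hx, neg_zero]

theorem mem_ZH {x : HG σ} : x ∈ ZH σ ↔ x.a = 0 := Iff.rfl

theorem comm_a (x y : HG σ) : ⁅x, y⁆.a = 0 := by
  rw [commutatorElement_def]
  simp only [mul_a, inv_a]
  ring

theorem ext_ab {x y : HG σ} (h1 : x.a = y.a) (h2 : x.b = y.b) : x = y := HG.ext h1 h2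

section fin

variable [Fintype F] {q : ℕ}

theorem card_ZH (hF : Fintype.card F = q ^ 2) (hs : ∀ x, σ x = x ^ q) : Nat.card (ZH σ) = q := by
  rw [← card_anti hF hs]
  refine Nat.card_congr
    { toFun := fun x => ⟨x.1.b, by
        have h1 := x.1.h
        have h2 : x.1.a = 0 := x.2
        rw [h2, zero_mul] at h1
        exact h1⟩
      invFun := fun b => ⟨⟨0, b.1, by rw [zero_mul]; exact b.2⟩, rfl⟩
      left_inv := ?_
      right_inv := ?_ }
  · intro x
    apply Subtype.ext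
    exact ext_ab (show (0 : F) = x.1.a from (show x.1.a = 0 from x.2).symm) rfl
  · intro b
    rfl

theorem exists_comm (hF : Fintype.card F = q ^ 2) (hs : ∀ x, σ x = x ^ q) {u : HG σ} (hu : u ∉ ZH σ) {z : HG σ}
    (hz : z ∈ ZH σ) : ∃ v : HG σ, ⁅u, v⁆ = z := by
  have hu' : u.a ≠ 0 := hu
  have hz' : z.a = 0 := hz
  obtain ⟨s, hs1⟩ := exists_trace_one (σ := σ) hF hs
  have hzb : z.b + σ z.b = 0 := by
    have := z.h
    rw [hz', zero_mul] at this
    exact this
  obtain ⟨v, hv⟩ := exists_a (σ := σ) hF hs (σ (s * z.b / u.a))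
  refine ⟨v, ext_ab ?_ ?_⟩
  · rw [comm_a, hz']
  · rw [commutatorElement_def, Cfsg.Agent.H990.TIPsu.comm_b, hv, sig, map_div₀, map_mul]
    have h2 : σ u.a ≠ 0 := (map_ne_zero σ).2 hu'
    field_simp
    linear_combination (-σ s) * hzb + z.b * hs1

theorem Z_le (hF : Fintype.card F = q ^ 2) (hs : ∀ x, σ x = x ^ q) (hq : 2 ≤ q) {D : Subgroup (HG σ)}
    (hD : D.index ^ 5 < q ^ 4) : ZH σ ≤ D := by
  by_contra hcon
  have hfin : Finite (HG σ) := by
    apply Nat.finite_of_card_ne_zero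
    rw [card_HG hF hs]
    positivity
  have h1 := H667.TwoPSUGrp.heis_bound (Z := ZH σ) (A := D) (fun z hz => by
    rw [mem_center_iff]
    intro y
    exact (comm_of_a hz y).symm) (fun u v => comm_a u v) (fun u hu z hz => exists_comm hF hs hu hz) hcon
  rw [card_ZH hF hs, card_HG hF hs] at h1
  have h2 : Nat.card D * D.index = q ^ 3 := by rw [D.card_mul_index, card_HG hF hs]
  have h3 : Nat.card ↥(D ⊓ ZH σ) * 2 ≤ q := by
    have h4 : Nat.card ↥(D ⊓ ZH σ) ∣ q := by
      rw [← card_ZH (σ := σ) hF hs]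
      exact Subgroup.card_dvd_of_le inf_le_right
    obtain ⟨k, hk⟩ := h4
    rcases Nat.lt_or_ge k 2 with hk2 | hk2
    · exfalso
      interval_cases k
      · omega
      · apply hcon
        have h5 : D ⊓ ZH σ = ZH σ := Subgroup.eq_of_le_of_card_ge inf_le_right (by
          rw [card_ZH hF hs]
          omega)
        rw [← h5]
        exact inf_le_left
    · calc _ ≤ Nat.card ↥(D ⊓ ZH σ) * k := Nat.mul_le_mul_left _ hk2
        _ = q := hk.symm
  set c := Nat.card ↥(D ⊓ ZH σ)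
  set i := D.index
  set d := Nat.card D
  have h4 : q ^ 4 * q ^ 3 ≤ (i * c) ^ 2 * q ^ 3 := by
    calc q ^ 4 * q ^ 3 = (d * i) ^ 2 * q := by rw [h2]; ring
      _ = (d ^ 2 * q) * i ^ 2 := by ring
      _ ≤ (q ^ 3 * c ^ 2) * i ^ 2 := Nat.mul_le_mul_right _ h1
      _ = _ := by ring
  have h5 : (q ^ 2) ^ 2 ≤ (i * c) ^ 2 := by
    have := Nat.le_of_mul_le_mul_right h4 (by positivity)
    calc (q ^ 2) ^ 2 = q ^ 4 := by ring
      _ ≤ _ := this
  have h6 : q ^ 2 ≤ i * c := (Nat.pow_le_pow_iff_left two_ne_zero).1 h5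
  have h7 : q ≤ i := by
    by_contra h8
    push Not at h8
    have : i * c ≤ q * c := Nat.mul_le_mul_right _ h8.le
    nlinarith only [hq, h3, h6, this]
  have h8 : q ^ 4 ≤ i ^ 5 := by
    calc q ^ 4 ≤ i ^ 4 := Nat.pow_le_pow_left h7 4
      _ ≤ i ^ 5 := Nat.pow_le_pow_right (by omega) (by norm_num)
  omega

theorem index_lt (hq : 2 ≤ q) {i : ℕ} (h : i ^ 5 < q ^ 4) : i < q := by
  by_contra h7
  push Not at h7
  have h8 : q ^ 4 ≤ i ^ 5 := by
    calc q ^ 4 ≤ i ^ 4 := Nat.pow_le_pow_left h7 4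
      _ ≤ i ^ 5 := Nat.pow_le_pow_right (by omega) (by norm_num)
  omega

/-- a subgroup of index less than `q` which contains the centre and is invariant under the scalars is everything -/
theorem eq_top_of_scal (hF : Fintype.card F = q ^ 2) (hs : ∀ x, σ x = x ^ q) {D : Subgroup (HG σ)}
    (hD : D.index < q) (hZ : ZH σ ≤ D) (hact : ∀ l : Fˣ, σ (l : F) = l → ∀ x ∈ D, act l x ∈ D) : D = ⊤ := by
  classical
  have hfin : Finite (HG σ) := by
    apply Nat.finite_of_card_ne_zero
    rw [card_HG hF hs]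
    have := LieClassical.HermBasic.two_le hF
    positivity
  have hmem : ∀ x y : HG σ, x.a = y.a → y ∈ D → x ∈ D := by
    intro x y hxy hy
    have h1 : x * y⁻¹ ∈ D := hZ (by rw [mem_ZH, mul_a, inv_a, hxy, add_neg_cancel])
    have h2 := D.mul_mem h1 hy
    rwa [inv_mul_cancel_right] at h2
  rw [eq_top_iff]
  intro v _
  choose s hs' using fun a : F => exists_a (σ := σ) hF hs a
  let f : {l : F // l ^ q = l} → HG σ ⧸ D := fun l => (s (l.1 * v.a) : HG σ ⧸ D)
  have hnot : ¬ Function.Injective f := by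
    intro hinj
    have h1 := Nat.card_le_card_of_injective f hinj
    rw [LieClassical.HermBasic.card_fixed hF] at h1
    exact absurd hD (not_lt.2 h1)
  rw [Function.Injective] at hnot
  push Not at hnot
  obtain ⟨l, m, hlm, hne⟩ := hnot
  have h1 : (s (l.1 * v.a))⁻¹ * s (m.1 * v.a) ∈ D := QuotientGroup.eq.1 hlm
  have hd : m.1 - l.1 ≠ 0 := fun h => hne (Subtype.ext (sub_eq_zero.1 h).symm)
  have hfix : σ (m.1 - l.1) = m.1 - l.1 := by
    rw [map_sub, hs, hs, l.2, m.2]
  let u : Fˣ := Units.mk0 (m.1 - l.1) hd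
  have hu : σ ((u⁻¹ : Fˣ) : F) = (u⁻¹ : Fˣ) := by
    rw [Units.val_inv_eq_inv_val, map_inv₀]
    show (σ (m.1 - l.1))⁻¹ = _
    rw [hfix]
    rfl
  refine hmem v _ ?_ (hact u⁻¹ hu _ h1)
  show v.a = ((u⁻¹ : Fˣ) : F) ^ 2 / σ ((u⁻¹ : Fˣ) : F) * ((s (l.1 * v.a))⁻¹ * s (m.1 * v.a)).a
  rw [hu, mul_a, inv_a, hs', hs', Units.val_inv_eq_inv_val]
  have h2 : (u : F) = m.1 - l.1 := rfl
  rw [h2]
  field_simp
  ring

end fin

end Cfsg.Agent.H361.IFU
end

-- part: H361/IFU/Gen
section
/-!
# Subgroups of `PSU_3(q)` containing two opposite centres (helper361, cell PSU.three of S5719)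
-/

set_option autoImplicit false
set_option linter.unusedSectionVars false

namespace Cfsg.Agent.H361.IFU

open Cfsg Cfsg.Agent.LieRecognition.RankOneAbstract Matrix Subgroup
open Cfsg.Agent.UThreeGen.MatGroup Cfsg.Agent.H705.PSU
open Cfsg.Agent.HKS.EndU (tor tmat tor_val tor_mem act tor_emb ci wel_tor exists_tor tor_mem_center sne tor_conj
  card_anti comm_of_a)
open Cfsg.Agent.H212.U3.Model (exists_a exists_trace_one card_HG)
open scoped commutatorElement

variable {F : Type} [Field F] {σ : F →+* F} [hσ : Fact (∀ x, σ (σ x) = x)]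

/-- central elements -/
def ez (σ : F →+* F) [hσ : Fact (∀ x, σ (σ x) = x)] (b : F) (hb : b + σ b = 0) : HG σ :=
  ⟨0, b, by rw [zero_mul]; exact hb⟩

/-- the Weyl elements of the `SL_2` -/
def nn (b : F) (hb : b + σ b = 0) (hb' : -b⁻¹ + σ (-b⁻¹) = 0) : SUG σ :=
  emb σ (ez σ b hb) * (wel σ * emb σ (ez σ (-b⁻¹) hb') * wel σ) * emb σ (ez σ b hb)

theorem nn_val {b : F} (hb0 : b ≠ 0) (hb : b + σ b = 0) (hb' : -b⁻¹ + σ (-b⁻¹) = 0) :
    (nn b hb hb').1.1 = !![0, 0, b; 0, 1, 0; -b⁻¹, 0, 0] := by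
  rw [nn]
  simp only [coe_mul_SUG, emb_val, wel_val]
  ext i j
  (revert i j; simp only [umat, Wm, ez, Matrix.mul_apply, Fin.sum_univ_three, hb0, _root_.Fin.forall_fin_succ, _root_.map_zero, _root_.Matrix.cons_mul, _root_.Nat.succ_eq_add_one, Nat.reduceAdd, _root_.Matrix.vecMul_cons, _root_.Matrix.head_cons, _root_.zero_smul, _root_.Matrix.tail_cons, _root_.neg_smul, _root_.one_smul, _root_.Matrix.neg_cons, _root_.neg_zero, _root_.Matrix.neg_empty, _root_.Matrix.empty_vecMul, _root_.add_zero, _root_.zero_add, _root_.neg_neg, _root_.Matrix.empty_mul, _root_.Equiv.symm_apply_apply, _root_.Matrix.smul_cons, _root_.smul_eq_mul, _root_.mul_neg, _root_.mul_one, _root_.MulZeroClass.mul_zero, _root_.Matrix.smul_empty, _root_.Matrix.add_cons, _root_.Matrix.empty_add_empty, _root_.ne_eq, _root_.not_false_eq_true, _root_.mul_inv_cancel₀, _root_.add_neg_cancel, _root_.Matrix.of_apply, _root_.Matrix.cons_val', _root_.Matrix.cons_val_fin_one, Fin.isValue, _root_.Matrix.cons_val_zero,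 _root_.Matrix.cons_val_one, _root_.Matrix.cons_val, _root_.Matrix.cons_val_succ, _root_.forall_const, _root_.true_and, _root_.MulZeroClass.zero_mul, _root_.neg_mul, _root_.inv_mul_cancel₀, _root_.neg_add_cancel, _root_.implies_true, _root_.and_self])

theorem anti_inv {b : F} (hb : b + σ b = 0) : -b⁻¹ + σ (-b⁻¹) = 0 := by
  have h1 : σ b = -b := by linear_combination hb
  rw [map_neg, map_inv₀, h1, inv_neg]
  ring

theorem tor_mem_of {K : Subgroup (SUG σ)} (hZ : ∀ z ∈ ZH σ, emb σ z ∈ K)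
    (hZw : ∀ z ∈ ZH σ, wel σ * emb σ z * wel σ ∈ K) {δ : F} (hδ : δ + σ δ = 0) (hδ0 : δ ≠ 0) {l : Fˣ}
    (hl : σ (l : F) = l) : tor σ l ∈ K := by
  have hlδ : (l : F) * δ + σ ((l : F) * δ) = 0 := by
    rw [map_mul, hl]
    linear_combination (l : F) * hδ
  have hn : ∀ (b : F) (hb : b + σ b = 0) (hb' : -b⁻¹ + σ (-b⁻¹) = 0), nn b hb hb' ∈ K := fun b hb hb' =>
    K.mul_mem (K.mul_mem (hZ _ rfl) (hZw _ rfl)) (hZ _ rfl)
  have h1 : tor σ l * nn δ hδ (anti_inv hδ) = nn ((l : F) * δ) hlδ (anti_inv hlδ) := by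
    apply Subtype.ext
    apply Subtype.ext
    rw [coe_mul_SUG, nn_val hδ0, nn_val (mul_ne_zero l.ne_zero hδ0), tor_val]
    ext i j
    (revert i j; simp only [tmat, Matrix.mul_apply, Fin.sum_univ_three, hl, mul_comm, _root_.Fin.forall_fin_succ, _root_.ne_eq, _root_.Units.ne_zero, _root_.not_false_eq_true, _root_.div_self, _root_.Matrix.of_apply, _root_.Matrix.cons_val', _root_.Matrix.cons_val_fin_one, Fin.isValue, _root_.Matrix.cons_val_zero, _root_.Matrix.cons_val_one, _root_.Matrix.cons_val, _root_.mul_inv_rev, _root_.MulZeroClass.zero_mul, _root_.add_zero, _root_.neg_mul, _root_.zero_add, _root_.Matrix.cons_val_succ, _root_.one_mul, _root_.forall_const, _root_.true_and, _root_.MulZeroClass.mul_zero, _root_.neg_zero, _root_.and_self, _root_.implies_true])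
  have h2 : tor σ l = nn ((l : F) * δ) hlδ (anti_inv hlδ) * (nn δ hδ (anti_inv hδ))⁻¹ := by
    rw [← h1, mul_inv_cancel_right]
  rw [h2]
  exact K.mul_mem (hn _ _ _) (K.inv_mem (hn _ _ _))

section fin

variable [Fintype F] {q : ℕ} {T : Type} [Group T] {π : SUG σ →* T}

/-- the embedding of the unipotent group in the quotient -/
abbrev jj (π : SUG σ →* T) : HG σ →* T := π.comp (emb σ)

theorem range_jj (π : SUG σ →* T) : (jj π).range = (emb σ).range.map π := MonoidHom.range_comp _ _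

theorem exists_delta (hF : Fintype.card F = q ^ 2) (hs : ∀ x, σ x = x ^ q) : ∃ δ : F, δ + σ δ = 0 ∧ δ ≠ 0 := by
  obtain ⟨δ, hδ, hδ'⟩ := LieClassical.HermBasic.exists_trace_zero_ne hF
  rw [← hs] at hδ'
  exact ⟨δ, hδ', hδ⟩

theorem range_le (E : Mod q π) {K : Subgroup T} (hZ : ∀ z ∈ ZH σ, jj π z ∈ K)
    (hZw : ∀ z ∈ ZH σ, π (wel σ) * jj π z * π (wel σ) ∈ K) (hi : (K.comap (jj π)).index ^ 5 < q ^ 4) :
    (jj π).range ≤ K := by
  have hq2 : 2 ≤ q := LieClassical.HermBasic.two_le E.card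
  obtain ⟨δ, hδ, hδ0⟩ := exists_delta (σ := σ) E.card E.pow
  have htop : K.comap (jj π) = ⊤ := by
    refine eq_top_of_scal E.card E.pow (index_lt hq2 hi) (fun z hz => hZ z hz) ?_
    intro l hl x hx
    have h1 : tor σ l ∈ K.comap π := by
      refine tor_mem_of (fun z hz => hZ z hz) (fun z hz => ?_) hδ hδ0 hl
      rw [mem_comap, map_mul, map_mul]
      exact hZw z hz
    have h2 := tor_conj (π := π) l x
    show π (emb σ (act l x)) ∈ K
    rw [← h2]
    exact K.mul_mem (K.mul_mem h1 hx) (K.inv_mem h1)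
  rintro _ ⟨x, rfl⟩
  have : x ∈ K.comap (jj π) := by rw [htop]; exact mem_top _
  exact this

theorem eq_top (hq : 3 ≤ q) {π : SUG σ →* PSU 3 F q} (E : Mod q π) {K : Subgroup (PSU 3 F q)}
    (hZ : ∀ z ∈ ZH σ, jj π z ∈ K) (hZw : ∀ z ∈ ZH σ, π (wel σ) * jj π z * π (wel σ) ∈ K)
    (hi : (K.comap (jj π)).index ^ 5 < q ^ 4)
    (hiw : (K.comap ((MulAut.conj (π (wel σ))).toMonoidHom.comp (jj π))).index ^ 5 < q ^ 4) : K = ⊤ := by
  have hw2 : π (wel σ) * π (wel σ) = 1 := by rw [← map_mul, wel_mul_wel, map_one]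
  have hwi : (π (wel σ))⁻¹ = π (wel σ) := inv_eq_of_mul_eq_one_right hw2
  have h1 := range_le E hZ hZw hi
  have h2 : (jj π).range ≤ K.comap (MulAut.conj (π (wel σ))).toMonoidHom := by
    refine range_le E (fun z hz => ?_) (fun z hz => ?_) ?_
    · show π (wel σ) * jj π z * (π (wel σ))⁻¹ ∈ K
      rw [hwi]
      exact hZw z hz
    · show π (wel σ) * (π (wel σ) * jj π z * π (wel σ)) * (π (wel σ))⁻¹ ∈ K
      have h3 : π (wel σ) * (π (wel σ) * jj π z * π (wel σ)) * (π (wel σ))⁻¹ = jj π z := by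
        rw [hwi]
        calc _ = (π (wel σ) * π (wel σ)) * jj π z * (π (wel σ) * π (wel σ)) := by group
          _ = _ := by rw [hw2, one_mul, mul_one]
      rw [h3]
      exact hZ z hz
    · rw [comap_comap]
      exact hiw
  rw [eq_top_iff, ← H452.FprPsu3A.gen_top E.card hq E.pow E.surj E.ker]
  refine sup_le ?_ ?_
  · rw [← range_jj]
    exact h1
  · rintro _ ⟨_, ⟨_, ⟨x, rfl⟩, rfl⟩, rfl⟩
    have h3 : jj π x ∈ K.comap (MulAut.conj (π (wel σ))).toMonoidHom := h2 ⟨x, rfl⟩
    have h4 : π (wel σ) * jj π x * (π (wel σ))⁻¹ ∈ K := h3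
    show π (wel σ * emb σ x * (wel σ)⁻¹) ∈ K
    rw [map_mul, map_mul, map_inv]
    exact h4

end fin

end Cfsg.Agent.H361.IFU
end

-- part: H361/IFU/Even
section
/-!
# S5719, cell `PSU_3(q)`, `q` even (helper361)
-/

set_option autoImplicit false
set_option linter.unusedSectionVars false

namespace Cfsg.Agent.H361.IFU

open Cfsg Cfsg.Agent.LieRecognition.RankOneAbstract Matrix Subgroup MulAction
open Cfsg.Agent.UThreeGen.MatGroup Cfsg.Agent.H705.PSU Cfsg.Agent.H209.Fxy
open Cfsg.Agent.HKS.EndU (tor tmat tor_val tor_mem act tor_emb ci wel_tor exists_tor tor_mem_center sne tor_conj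
  card_anti comm_of_a)
open Cfsg.Agent.H212.U3.Model (exists_a exists_trace_one card_HG exists_decomp conj_emb exists_pi)
open scoped commutatorElement Pointwise

variable {F : Type} [Field F] [Fintype F] {σ : F →+* F} [hσ : Fact (∀ x, σ (σ x) = x)] {q : ℕ}
  {T : Type} [Group T] {π : SUG σ →* T}

/-- the embedding conjugated by `g` -/
abbrev jg (π : SUG σ →* T) (g : T) : HG σ →* T := (MulAut.conj g).toMonoidHom.comp (jj π)

theorem jg_apply (g : T) (x : HG σ) : jg π g x = g * jj π x * g⁻¹ := rfl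

theorem jg_inj (E : Mod q π) (g : T) {x y : HG σ} (h : jg π g x = jg π g y) : x = y := by
  rw [jg_apply, jg_apply] at h
  exact E.emb_inj (mul_left_cancel (mul_right_cancel h))

theorem jg_mul (g h : T) (x : HG σ) : jg π (g * h) x = g * jg π h x * g⁻¹ := by
  rw [jg_apply, jg_apply]; group

/-- elements of the Borel subgroup normalise the centre -/
theorem borel_conj {b : T} (hb : b ∈ (borel σ).map π) {z : HG σ} (hz : z ∈ ZH σ) :
    ∃ z' ∈ ZH σ, b * jj π z * b⁻¹ = jj π z' := by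
  obtain ⟨h, hh, rfl⟩ := hb
  obtain ⟨y, h1, h2, -⟩ := conj_emb hh z
  refine ⟨y, ?_, ?_⟩
  · rw [mem_ZH, h2, show z.a = 0 from hz, mul_zero]
  · show π h * π (emb σ z) * (π h)⁻¹ = π (emb σ y)
    rw [← map_mul, ← map_inv, ← map_mul, h1]

theorem jg_of_eq {g g' : T} (h : (g : T ⧸ (borel σ).map π) = (g' : T ⧸ (borel σ).map π)) {z : HG σ}
    (hz : z ∈ ZH σ) : ∃ z' ∈ ZH σ, jg π g z = jg π g' z' := by
  have h1 : g'⁻¹ * g ∈ (borel σ).map π := QuotientGroup.eq.1 h.symm
  obtain ⟨z', hz', h2⟩ := borel_conj h1 hz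
  refine ⟨z', hz', ?_⟩
  rw [jg_apply, jg_apply, ← h2]
  group

theorem card_Z_ne (hF : Fintype.card F = q ^ 2) (hs : ∀ x, σ x = x ^ q) :
    Nat.card {z : HG σ // z ∈ ZH σ ∧ z ≠ 1} = q - 1 := by
  classical
  have hfin : Finite (HG σ) := by
    apply Nat.finite_of_card_ne_zero
    rw [card_HG hF hs]
    have := LieClassical.HermBasic.two_le hF
    positivity
  have h1 : Nat.card {z : HG σ // z ∈ ZH σ ∧ z ≠ 1} = ({z : HG σ | z ∈ ZH σ ∧ z ≠ 1}).ncard := rfl
  have h2 : {z : HG σ | z ∈ ZH σ ∧ z ≠ 1} = (ZH σ : Set (HG σ)) \ {1} := by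
    ext z
    simp
  rw [h1, h2, Set.ncard_sdiff_singleton_of_mem (one_mem (ZH σ))]
  have h3 : (ZH σ : Set (HG σ)).ncard = q := card_ZH hF hs
  rw [h3]

/-- all the nontrivial central unipotent elements -/
def allZ (π : SUG σ →* T) : Set T := {x | ∃ k : T, ∃ z ∈ ZH σ, z ≠ 1 ∧ x = jg π k z}

theorem ncard_allZ [Finite T] (E : Mod q π) : (allZ π).ncard ≤ (q ^ 3 + 1) * (q - 1) := by
  classical
  have hfin : Finite (HG σ) := by
    apply Nat.finite_of_card_ne_zero
    rw [card_HG E.card E.pow]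
    have := LieClassical.HermBasic.two_le E.card
    positivity
  let f : (T ⧸ (borel σ).map π) × {z : HG σ // z ∈ ZH σ ∧ z ≠ 1} → T := fun p => jg π p.1.out p.2.1
  have h1 : allZ π ⊆ Set.range f := by
    rintro x ⟨k, z, hz, hz1, rfl⟩
    have h2 : ((k : T) : T ⧸ (borel σ).map π) = ((((k : T) : T ⧸ (borel σ).map π).out : T) : T ⧸ (borel σ).map π) :=
      (QuotientGroup.out_eq' _).symm
    obtain ⟨z', hz', h3⟩ := jg_of_eq h2 hz
    refine ⟨(((k : T) : T ⧸ (borel σ).map π), ⟨z', hz', ?_⟩), h3.symm⟩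
    rintro rfl
    apply hz1
    rw [map_one] at h3
    exact jg_inj E k (h3.trans (map_one _).symm)
  have h4 : (Set.range f).ncard ≤ Nat.card ((T ⧸ (borel σ).map π) × {z : HG σ // z ∈ ZH σ ∧ z ≠ 1}) := by
    rw [← Set.image_univ]
    exact (Set.ncard_image_le (Set.toFinite _)).trans (by rw [Set.ncard_univ])
  refine (Set.ncard_le_ncard h1 (Set.toFinite _)).trans (h4.trans ?_)
  rw [Nat.card_prod, card_Z_ne E.card E.pow]
  have h5 : Nat.card (T ⧸ (borel σ).map π) = q ^ 3 + 1 := by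
    have := E.data.index
    rw [E.card_unip] at this
    exact this
  rw [h5]

theorem index_centralizer_le [Finite T] (E : Mod q π) {k : T} {z : HG σ} (hz : z ∈ ZH σ) (hz1 : z ≠ 1) :
    (centralizer ({jg π k z} : Set T)).index ≤ (q ^ 3 + 1) * (q - 1) := by
  refine le_trans ?_ (ncard_allZ E)
  set t := jg π k z with ht
  let f : (T ⧸ centralizer ({t} : Set T)) → T := Quotient.lift (fun g : T => g * t * g⁻¹) (by
    intro a b hab
    have h1 : a⁻¹ * b ∈ centralizer ({t} : Set T) := QuotientGroup.leftRel_apply.1 hab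
    have h2 : t * (a⁻¹ * b) = (a⁻¹ * b) * t := mem_centralizer_iff.1 h1 t rfl
    show a * t * a⁻¹ = b * t * b⁻¹
    calc a * t * a⁻¹ = a * (t * (a⁻¹ * b)) * b⁻¹ := by group
      _ = a * ((a⁻¹ * b) * t) * b⁻¹ := by rw [h2]
      _ = _ := by group)
  have hf : Function.Injective f := by
    intro x y hxy
    induction x using QuotientGroup.induction_on with
    | H a =>
      induction y using QuotientGroup.induction_on with
      | H b =>
        have h1 : a * t * a⁻¹ = b * t * b⁻¹ := hxy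
        rw [QuotientGroup.eq, mem_centralizer_iff]
        rintro _ rfl
        calc t * (a⁻¹ * b) = a⁻¹ * (a * t * a⁻¹) * b := by group
          _ = a⁻¹ * (b * t * b⁻¹) * b := by rw [h1]
          _ = _ := by group
  have h1 : Set.range f ⊆ allZ π := by
    rintro _ ⟨x, rfl⟩
    induction x using QuotientGroup.induction_on with
    | H a =>
      refine ⟨a * k, z, hz, hz1, ?_⟩
      rw [jg_mul]
      rfl
  calc (centralizer ({t} : Set T)).index = Nat.card (T ⧸ centralizer ({t} : Set T)) := rfl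
    _ = (Set.range f).ncard := by rw [← Set.image_univ, Set.ncard_image_of_injective _ hf, Set.ncard_univ]
    _ ≤ _ := Set.ncard_le_ncard h1 (Set.toFinite _)

theorem arith (hq : 2 ≤ q) : (q ^ 3 + 1) * (q - 1) < q ^ 4 := by
  obtain ⟨r, rfl⟩ : ∃ r, q = r + 1 := ⟨q - 1, by omega⟩
  rw [Nat.add_sub_cancel]
  have h1 : r < (r + 1) ^ 3 := by
    calc r < r + 1 := by omega
      _ ≤ (r + 1) ^ 3 := Nat.le_self_pow (by norm_num) _
  calc ((r + 1) ^ 3 + 1) * r = (r + 1) ^ 3 * r + r := by ring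
    _ < (r + 1) ^ 3 * r + (r + 1) ^ 3 := by omega
    _ = _ := by ring

theorem sq_one (h2 : (2 : F) = 0) {z : HG σ} : z * z = 1 ↔ z.a = 0 := by
  constructor
  · intro h
    have h1 := congrArg HG.b h
    rw [mul_b, one_b] at h1
    have h3 : z.a * σ z.a = 0 := by linear_combination h1 - z.b * h2
    rcases mul_eq_zero.1 h3 with h4 | h4
    · exact h4
    · exact (map_eq_zero σ).1 h4
  · intro h
    have h3 := z.h
    refine ext_ab ?_ ?_
    · rw [mul_a, h, add_zero, one_a]
    · rw [mul_b, h, zero_mul, add_zero, one_b]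
      linear_combination z.b * h2

/-- every involution is a conjugate of a central unipotent element -/
theorem exists_jg [Finite T] (h2 : (2 : F) = 0) (E : Mod q π) (hq : 1 < q) {t : T} (ht : orderOf t = 2) :
    ∃ g : T, ∃ z ∈ ZH σ, z ≠ 1 ∧ t = jg π g z := by
  have hp : Fact (Nat.Prime 2) := ⟨Nat.prime_two⟩
  have : CharP F 2 := CharTwo.of_one_ne_zero_of_two_eq_zero one_ne_zero h2
  obtain ⟨n, hn, hqn⟩ := E.exists_pow (r := 2) hq
  obtain ⟨h3, h4, -, -⟩ := H990.TIPsu.facts (p := 2) (n := n) E.surj E.ker E.card E.pow hn hqn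
  have hR : IsPGroup 2 (H990.TIPsu.R0 π) := by
    apply IsPGroup.of_card (n := n * 3)
    rw [h3, hqn, pow_mul]
  let S : Sylow 2 T := hR.toSylow h4
  have htP : IsPGroup 2 (zpowers t) := by
    apply IsPGroup.of_card (n := 1)
    rw [Nat.card_zpowers, ht, pow_one]
  obtain ⟨P, hP⟩ := htP.exists_le_sylow
  obtain ⟨g, hg⟩ := exists_smul_eq T S P
  have h5 : t ∈ (g • S : Sylow 2 T) := by
    rw [hg]
    exact hP (mem_zpowers t)
  have h6 : g⁻¹ * t * g ∈ H990.TIPsu.R0 π := by
    have h7 : t ∈ (MulAut.conj g) • (S : Subgroup T) := h5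
    rw [Subgroup.mem_pointwise_smul_iff_inv_smul_mem] at h7
    have h8 : (MulAut.conj g)⁻¹ • t = g⁻¹ * t * g := by
      rw [← map_inv, MulAut.smul_def, MulAut.conj_apply, inv_inv]
    rw [h8] at h7
    exact h7
  obtain ⟨z, hz⟩ := h6
  have hz' : jj π z = g⁻¹ * t * g := hz
  have h9 : t = jg π g z := by
    rw [jg_apply, hz']
    group
  have h10 : t * t = 1 := by
    have := pow_orderOf_eq_one t
    rwa [ht, pow_two] at this
  have h11 : z * z = 1 := by
    apply jg_inj E g
    rw [map_mul, ← h9, h10, map_one]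
  refine ⟨g, z, (sq_one h2).1 h11, ?_, h9⟩
  rintro rfl
  rw [map_one] at h9
  rw [h9, orderOf_one] at ht
  norm_num at ht

theorem orderOf_jg (h2 : (2 : F) = 0) (E : Mod q π) {g : T} {z : HG σ} (hz : z ∈ ZH σ) (hz1 : z ≠ 1) :
    orderOf (jg π g z) = 2 := by
  apply orderOf_eq_prime
  · rw [pow_two, ← map_mul, (sq_one h2).2 hz, map_one]
  · intro h
    exact hz1 (jg_inj E g (h.trans (map_one _).symm))

section Main

variable [Finite T] [IsSimpleGroup T] {A : Subgroup T} {Γ : Subgroup (MulAut T)}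

theorem exists_z0 (hF : Fintype.card F = q ^ 2) (hs : ∀ x, σ x = x ^ q) : ∃ z ∈ ZH σ, z ≠ 1 := by
  obtain ⟨δ, h1, h2⟩ := exists_delta (σ := σ) hF hs
  refine ⟨ez σ δ h1, rfl, ?_⟩
  intro h
  exact h2 (congrArg HG.b h)

theorem nonab (E : Mod q π) : ∃ a b : T, a * b ≠ b * a := by
  obtain ⟨u, hu⟩ := E.exists_ne
  obtain ⟨z, hz, hz1⟩ := exists_z0 (σ := σ) E.card E.pow
  obtain ⟨v, hv⟩ := exists_comm E.card E.pow (σ := σ) (u := u) hu hz
  refine ⟨jj π u, jj π v, ?_⟩
  intro h
  rw [← map_mul, ← map_mul] at h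
  have h1 : u * v = v * u := E.emb_inj h
  apply hz1
  rw [← hv, commutatorElement_def, h1]
  group

theorem small_index (h2 : (2 : F) = 0) (E : Mod q π) (hq : 2 ≤ q) (h : IF A Γ) {g : T} {z : HG σ} (hz : z ∈ ZH σ)
    (hz1 : z ≠ 1) (hA : jg π g z ∈ A) : (A.comap (jg π g)).index ^ 5 < q ^ 4 := by
  have ho := orderOf_jg h2 E (g := g) hz hz1
  obtain ⟨-, -, -, -, h3⟩ := H999.IFB.IF.E2' h (nonab E) hA ho
  have h4 : (jg π g).range ≤ centralizer ({jg π g z} : Set T) := by
    rintro _ ⟨x, rfl⟩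
    rw [mem_centralizer_iff]
    rintro _ rfl
    rw [← map_mul, ← map_mul, comm_of_a hz x]
  have h5 := (h3 _ h4).1
  rw [Subgroup.index_comap]
  exact h5.trans_le ((index_centralizer_le E hz hz1).trans (arith hq).le)

theorem Zg_le (h2 : (2 : F) = 0) (E : Mod q π) (hq : 2 ≤ q) (h : IF A Γ) {g : T} {z : HG σ} (hz : z ∈ ZH σ)
    (hz1 : z ≠ 1) (hA : jg π g z ∈ A) {z' : HG σ} (hz' : z' ∈ ZH σ) : jg π g z' ∈ A :=
  Z_le E.card E.pow hq (small_index h2 E hq h hz hz1 hA) hz'

theorem index_map_conj (B : Subgroup T) (g : T) : (B.map (MulAut.conj g).toMonoidHom).index = B.index :=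
  Subgroup.index_map_equiv B (MulAut.conj g)

end Main

theorem same_point (h2 : (2 : F) = 0) {π : SUG σ →* PSU 3 F q} [Finite (PSU 3 F q)] [IsSimpleGroup (PSU 3 F q)]
    (E : Mod q π) (hq : 3 ≤ q) {A : Subgroup (PSU 3 F q)} {Γ : Subgroup (MulAut (PSU 3 F q))} (h : IF A Γ)
    {g g' : PSU 3 F q} {z z' : HG σ} (hz : z ∈ ZH σ) (hz1 : z ≠ 1) (hA : jg π g z ∈ A)
    (hz' : z' ∈ ZH σ) (hz1' : z' ≠ 1) (hA' : jg π g' z' ∈ A) :
    (g : PSU 3 F q ⧸ (borel σ).map π) = (g' : PSU 3 F q ⧸ (borel σ).map π) := by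
  by_contra hne
  obtain ⟨z0, hz0, hz01⟩ := exists_z0 (σ := σ) E.card E.pow
  have h3 := E.data.two_pretransitive
  rw [MulAction.is_two_pretransitive_iff] at h3
  have hwne : (QuotientGroup.mk 1 : PSU 3 F q ⧸ (borel σ).map π) ≠ QuotientGroup.mk (π (wel σ)) := by
    intro h4
    apply E.data.w_not_mem
    have := QuotientGroup.eq.1 h4
    simpa only [_root_.Subgroup.mem_map, _root_.Subtype.exists, _root_.inv_one, _root_.one_mul] using this
  obtain ⟨k, hk1, hk2⟩ := h3 hwne hne
  have hk1' : (k : PSU 3 F q ⧸ (borel σ).map π) = (g : PSU 3 F q ⧸ (borel σ).map π) := by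
    rw [← hk1]
    show _ = (QuotientGroup.mk (k * 1) : PSU 3 F q ⧸ (borel σ).map π)
    rw [mul_one]
  have hk2' : ((k * π (wel σ) : PSU 3 F q) : PSU 3 F q ⧸ (borel σ).map π) = (g' : PSU 3 F q ⧸ (borel σ).map π) := hk2
  have hkZ : ∀ z ∈ ZH σ, jg π k z ∈ A := by
    intro y hy
    obtain ⟨y', hy', h5⟩ := jg_of_eq hk1' hy
    rw [h5]
    exact Zg_le h2 E (by omega) h hz hz1 hA hy'
  have hkwZ : ∀ z ∈ ZH σ, jg π (k * π (wel σ)) z ∈ A := by
    intro y hy
    obtain ⟨y', hy', h5⟩ := jg_of_eq hk2' hy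
    rw [h5]
    exact Zg_le h2 E (by omega) h hz' hz1' hA' hy'
  have hw2 : π (wel σ) * π (wel σ) = 1 := by rw [← map_mul, wel_mul_wel, map_one]
  have hwi : (π (wel σ))⁻¹ = π (wel σ) := inv_eq_of_mul_eq_one_right hw2
  have htop : A.comap (MulAut.conj k).toMonoidHom = ⊤ := by
    refine eq_top hq E (fun y hy => hkZ y hy) (fun y hy => ?_) ?_ ?_
    · have h5 := hkwZ y hy
      rw [jg_mul, jg_apply, hwi] at h5
      exact h5
    · rw [comap_comap]
      exact small_index h2 E (by omega) h hz0 hz01 (hkZ z0 hz0)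
    · rw [comap_comap]
      have h6 : (MulAut.conj k).toMonoidHom.comp ((MulAut.conj (π (wel σ))).toMonoidHom.comp (jj π)) =
          jg π (k * π (wel σ)) := by
        ext1 x
        rw [jg_mul]
        rfl
      rw [h6]
      exact small_index h2 E (by omega) h hz0 hz01 (hkwZ z0 hz0)
  apply h.ne_top
  rw [eq_top_iff]
  intro x _
  have h7 : k⁻¹ * x * k ∈ A.comap (MulAut.conj k).toMonoidHom := by rw [htop]; exact mem_top _
  have h8 : k * (k⁻¹ * x * k) * k⁻¹ ∈ A := h7
  have h9 : k * (k⁻¹ * x * k) * k⁻¹ = x := by group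
  rwa [h9] at h8

/-- a fixed point free element -/
theorem eq_one_of_fix (E : Mod q π) {x : T} (hx : x ∉ (borel σ).map π) {z : HG σ}
    (h : x⁻¹ * jj π z * x ∈ (borel σ).map π) : z = 1 := by
  obtain ⟨s, hs, h1⟩ := E.data.bruhat x hx
  obtain ⟨_, ⟨u, rfl⟩, rfl⟩ := hs
  set b := (π (emb σ u) * π (wel σ))⁻¹ * x with hb
  have hx' : x = π (emb σ u) * π (wel σ) * b := by rw [hb]; group
  have h2 : (π (wel σ))⁻¹ * ((π (emb σ u))⁻¹ * jj π z * π (emb σ u)) * π (wel σ) ∈ (borel σ).map π := by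
    have h3 := mul_mem (mul_mem h1 h) (inv_mem h1)
    have h4 : b * (x⁻¹ * jj π z * x) * b⁻¹ =
        (π (wel σ))⁻¹ * ((π (emb σ u))⁻¹ * jj π z * π (emb σ u)) * π (wel σ) := by
      rw [hx']; group
    rwa [h4] at h3
  have h5 := E.data.inter _ ⟨emb σ (u⁻¹ * z * u), ⟨_, rfl⟩, by
    simp only [map_mul, map_inv]
    rfl⟩ h2
  have h6 : jj π z = 1 := by
    calc jj π z = π (emb σ u) * ((π (emb σ u))⁻¹ * jj π z * π (emb σ u)) * (π (emb σ u))⁻¹ := by group
      _ = 1 := by rw [h5]; group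
  exact E.emb_inj (h6.trans (map_one (jj π)).symm)

theorem card_fix_sq {V : Type*} [Group V] [Finite V] (h2 : ∀ v : V, v * v = 1) (τ : V →* V)
    (hτ : ∀ v, τ (τ v) = v) : Nat.card V ≤ Nat.card {v : V // τ v = v} ^ 2 := by
  have hc : ∀ a b : V, a * b = b * a := by
    intro a b
    have h3 := h2 (a * b)
    have hi : ∀ v : V, v⁻¹ = v := fun v => inv_eq_of_mul_eq_one_right (h2 v)
    have h4 : (a * b)⁻¹ = a * b := hi _
    rw [_root_.mul_inv_rev, hi, hi] at h4
    exact h4.symm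
  let f : V →* V :=
    { toFun := fun v => v * τ v
      map_one' := by rw [map_one, one_mul]
      map_mul' := fun a b => by
        rw [map_mul]
        calc a * b * (τ a * τ b) = a * (b * τ a) * τ b := by group
          _ = a * (τ a * b) * τ b := by rw [hc b]
          _ = _ := by group }
  have hker : Nat.card f.ker = Nat.card {v : V // τ v = v} := by
    refine Nat.card_congr (Equiv.subtypeEquivRight fun v => ?_)
    rw [MonoidHom.mem_ker]
    show v * τ v = 1 ↔ τ v = v
    constructor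
    · intro h
      have h3 := h2 v
      rw [← h3] at h
      exact mul_left_cancel h
    · intro h
      rw [h, h2]
  have hrange : Nat.card f.range ≤ Nat.card {v : V // τ v = v} := by
    refine Nat.card_le_card_of_injective (fun x : f.range => (⟨x.1, ?_⟩ : {v : V // τ v = v})) ?_
    · obtain ⟨_, v, rfl⟩ := x
      show τ (v * τ v) = v * τ v
      rw [map_mul, hτ, hc]
    · intro x y hxy
      exact Subtype.ext (congrArg (fun w : {v : V // τ v = v} => w.1) hxy)
  have h3 : Nat.card V = Nat.card f.ker * Nat.card f.range := by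
    rw [← f.ker.card_mul_index, Subgroup.index_ker]
  rw [h3, hker, pow_two]
  exact Nat.mul_le_mul_left _ hrange

theorem kill (h2 : (2 : F) = 0) {π : SUG σ →* PSU 3 F q} [Finite (PSU 3 F q)] [IsSimpleGroup (PSU 3 F q)]
    (E : Mod q π) (hq : 3 ≤ q) : KillE (PSU 3 F q) := by
  classical
  intro A Γ h ⟨t, htA, ht⟩
  have hfin : Finite (HG σ) := by
    apply Nat.finite_of_card_ne_zero
    rw [card_HG E.card E.pow]
    positivity
  obtain ⟨g, z1, hz1, hz1', rfl⟩ := exists_jg h2 E (by omega) ht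
  set B0 := (borel σ).map π with hB0
  -- all involutions of `A`
  have hinvol : ∀ s ∈ A, orderOf s = 2 → ∃ z ∈ ZH σ, z ≠ 1 ∧ s = jg π g z := by
    intro s hs ho
    obtain ⟨k, z, hz, hzn, rfl⟩ := exists_jg h2 E (by omega) ho
    have h3 := same_point h2 E hq h hz hzn hs hz1 hz1' htA
    obtain ⟨z', hz', h4⟩ := jg_of_eq h3 hz
    refine ⟨z', hz', ?_, h4⟩
    rintro rfl
    apply hzn
    rw [map_one] at h4
    exact jg_inj E k (h4.trans (map_one _).symm)
  have hZA : ∀ z ∈ ZH σ, jg π g z ∈ A := fun z hz => Zg_le h2 E (by omega) h hz1 hz1' htA hz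
  let V : Subgroup (PSU 3 F q) := (ZH σ).map (jg π g)
  have hVA : V ≤ A := by
    rintro _ ⟨z, hz, rfl⟩
    exact hZA z hz
  have hVinv : ∀ τ ∈ Γ, ∀ v ∈ V, τ v ∈ V := by
    rintro τ hτ _ ⟨z, hz, rfl⟩
    by_cases hz0 : z = 1
    · rw [hz0, map_one, map_one]
      exact one_mem _
    · obtain ⟨z', hz', -, h4⟩ := hinvol (τ (jg π g z)) ((h.inv τ hτ _).2 (hZA z hz)) (by
        rw [MulEquiv.orderOf_eq, orderOf_jg h2 E hz hz0])
      rw [h4]
      exact ⟨z', hz', rfl⟩
  have hV1 : V ≠ ⊥ := by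
    intro hV
    have h3 : jg π g z1 ∈ V := ⟨z1, hz1, rfl⟩
    rw [hV, mem_bot] at h3
    exact hz1' (jg_inj E g (h3.trans (map_one _).symm))
  -- `A` is a Borel subgroup
  have hAmem : ∀ x : PSU 3 F q, x ∈ A ↔ g⁻¹ * x * g ∈ B0 := by
    intro x
    constructor
    · intro hx
      have h3 : jg π (x * g) z1 ∈ A := by
        rw [jg_mul]
        exact A.mul_mem (A.mul_mem hx htA) (A.inv_mem hx)
      have h4 := same_point h2 E hq h hz1 hz1' h3 hz1 hz1' htA
      have h5 := QuotientGroup.eq.1 h4.symm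
      rwa [← mul_assoc] at h5
    · intro hx
      refine H680.Fxy.IF.norm h hVA hVinv hV1 ?_
      rintro _ ⟨z, hz, rfl⟩
      obtain ⟨z', hz', h4⟩ := borel_conj hx hz
      refine ⟨z', hz', ?_⟩
      rw [jg_apply, ← h4, jg_apply]
      group
  have hAeq : A = B0.map (MulAut.conj g).toMonoidHom := by
    ext x
    rw [hAmem]
    constructor
    · intro hx
      exact ⟨_, hx, by show g * (g⁻¹ * x * g) * g⁻¹ = x; group⟩
    · rintro ⟨y, hy, rfl⟩
      show g⁻¹ * (g * y * g⁻¹) * g ∈ B0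
      have h3 : g⁻¹ * (g * y * g⁻¹) * g = y := by group
      rw [h3]
      exact hy
  have hidx : A.index = q ^ 3 + 1 := by
    rw [hAeq, index_map_conj, E.data.index, E.card_unip]
  -- the involution with fixed points
  obtain ⟨τ, hτ, hτ2, hfx⟩ := h.ex
  have hττ : ∀ x, τ (τ x) = x := by
    intro x
    have h3 : τ ^ 2 = 1 := by rw [← hτ2]; exact pow_orderOf_eq_one τ
    rw [pow_two] at h3
    exact congrArg (fun e : MulAut (PSU 3 F q) => e x) h3
  let τV : V →* V :=
    { toFun := fun v => ⟨τ v, hVinv τ hτ v v.2⟩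
      map_one' := Subtype.ext (map_one τ)
      map_mul' := fun a b => Subtype.ext (map_mul τ _ _) }
  have hcV : Nat.card V = q := by
    have h3 := card_ZH (σ := σ) E.card E.pow
    have h4 : Nat.card (ZH σ) = Nat.card V :=
      Nat.card_congr ((ZH σ).equivMapOfInjective (jg π g) (fun x y hxy => jg_inj E g hxy)).toEquiv
    exact h4.symm.trans h3
  have hc := card_fix_sq (V := V) (fun v => by
    obtain ⟨_, z, hz, rfl⟩ := v
    apply Subtype.ext
    show jg π g z * jg π g z = 1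
    rw [← map_mul, (sq_one h2).2 hz, map_one]) τV (fun v => Subtype.ext (hττ v))
  rw [hcV] at hc
  set c := Nat.card {v : V // τV v = v} with hcdef
  -- another fixed point
  obtain ⟨p, hp, hp1⟩ : ∃ p ∈ fixSet A τ, p ≠ ((1 : PSU 3 F q) : PSU 3 F q ⧸ A) := by
    by_contra hcon
    push Not at hcon
    have h3 : fixSet A τ ⊆ {((1 : PSU 3 F q) : PSU 3 F q ⧸ A)} := fun p hp => hcon p hp
    have h4 := Set.ncard_le_ncard h3 (Set.toFinite _)
    rw [Set.ncard_singleton] at h4
    have h5 : 3 ≤ (fixSet A τ).ncard := hfx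
    omega
  obtain ⟨y, rfl, hy⟩ := hp
  have hyA : y ∉ A := by
    intro hyA
    apply hp1
    rw [QuotientGroup.eq, mul_one]
    exact A.inv_mem hyA
  have hfree : ∀ v ∈ V, y⁻¹ * v * y ∈ A → v = 1 := by
    rintro _ ⟨z, hz, rfl⟩ hv
    rw [hAmem] at hv
    have h3 : g⁻¹ * y * g ∉ B0 := fun h4 => hyA ((hAmem y).2 h4)
    have h4 : z = 1 := by
      apply eq_one_of_fix E h3
      have h5 : (g⁻¹ * y * g)⁻¹ * jj π z * (g⁻¹ * y * g) = g⁻¹ * (y⁻¹ * jg π g z * y) * g := by
        rw [jg_apply]; group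
      rw [h5]
      exact hv
    rw [h4, map_one]
  have h1c : c + 1 ≤ fx A τ := by
    let f : Option {v : V // τV v = v} → fixSet A τ := fun o => match o with
      | none => ⟨((1 : PSU 3 F q) : PSU 3 F q ⧸ A), 1, rfl, by rw [map_one, inv_one, mul_one]; exact A.one_mem⟩
      | some v => ⟨(((v.1 : PSU 3 F q) * y : PSU 3 F q) : PSU 3 F q ⧸ A), _, rfl, by
          have h3 : τ ((v.1 : PSU 3 F q)) = (v.1 : PSU 3 F q) := congrArg (fun w : V => (w : PSU 3 F q)) v.2
          rw [map_mul, h3]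
          have h4 : ((v.1 : PSU 3 F q) * y)⁻¹ * ((v.1 : PSU 3 F q) * τ y) = y⁻¹ * τ y := by group
          rw [h4]
          exact hy⟩
    have hf : Function.Injective f := by
      intro a b hab
      match a, b, hab with
      | none, none, _ => rfl
      | none, some v, hab =>
        exfalso
        have h3 : ((1 : PSU 3 F q) : PSU 3 F q ⧸ A) = (((v.1 : PSU 3 F q) * y : PSU 3 F q) : PSU 3 F q ⧸ A) :=
          congrArg Subtype.val hab
        have h4 := QuotientGroup.eq.1 h3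
        rw [inv_one, one_mul] at h4
        have h5 := A.mul_mem (A.inv_mem (hVA v.1.2)) h4
        rw [inv_mul_cancel_left] at h5
        exact hyA h5
      | some v, none, hab =>
        exfalso
        have h3 : (((v.1 : PSU 3 F q) * y : PSU 3 F q) : PSU 3 F q ⧸ A) = ((1 : PSU 3 F q) : PSU 3 F q ⧸ A) :=
          congrArg Subtype.val hab
        have h4 := QuotientGroup.eq.1 h3.symm
        rw [inv_one, one_mul] at h4
        have h5 := A.mul_mem (A.inv_mem (hVA v.1.2)) h4
        rw [inv_mul_cancel_left] at h5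
        exact hyA h5
      | some v, some w, hab =>
        have h3 : (((v.1 : PSU 3 F q) * y : PSU 3 F q) : PSU 3 F q ⧸ A) =
            (((w.1 : PSU 3 F q) * y : PSU 3 F q) : PSU 3 F q ⧸ A) := congrArg Subtype.val hab
        have h4 := QuotientGroup.eq.1 h3
        have h5 : ((v.1 : PSU 3 F q) * y)⁻¹ * ((w.1 : PSU 3 F q) * y) =
            y⁻¹ * ((v.1 : PSU 3 F q)⁻¹ * (w.1 : PSU 3 F q)) * y := by group
        rw [h5] at h4
        have h6 := hfree _ (V.mul_mem (V.inv_mem v.1.2) w.1.2) h4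
        have h7 : (v.1 : PSU 3 F q) = (w.1 : PSU 3 F q) := inv_mul_eq_one.1 h6
        exact congrArg some (Subtype.ext (Subtype.ext h7))
    have h3 := Nat.card_le_card_of_injective f hf
    rw [Finite.card_option] at h3
    exact h3
  have h3 := h.small τ hτ hτ2
  rw [hidx] at h3
  have h4 : q ^ 3 + 1 ≤ (c + 1) ^ 6 := by
    calc q ^ 3 + 1 ≤ (c ^ 2) ^ 3 + 1 := by
          have := Nat.pow_le_pow_left hc 3
          omega
      _ = c ^ 6 + 1 := by ring
      _ ≤ (c + 1) ^ 6 := by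
          have : c ^ 6 + 1 + (6 * c ^ 5 + 15 * c ^ 4 + 20 * c ^ 3 + 15 * c ^ 2 + 6 * c) = (c + 1) ^ 6 := by ring
          omega
  have h5 := Nat.pow_le_pow_left h1c 6
  omega

/-- **The cell `PSU_3(q)`, `q` even.** -/
theorem even (F : Type) [Field F] [Fintype F] (q : ℕ) (hF : Fintype.card F = q ^ 2) (hq2 : q ≠ 2) (he : Even q)
    (hs : IsSimpleGroup (PSU 3 F q)) : KillE (PSU 3 F q) := by
  have hq : 2 ≤ q := LieClassical.HermBasic.two_le hF
  let σ : F →+* F := (LieClassical.HermBasic.conj hF : F →+* F)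
  have hσ : ∀ x, σ x = x ^ q := LieClassical.HermBasic.conj_apply hF
  have : Fact (∀ x, σ (σ x) = x) := ⟨fun x => by
    rw [hσ, hσ, ← pow_mul, ← pow_two, ← hF, FiniteField.pow_card]⟩
  have h2 : (2 : F) = 0 := by
    have h3 : ((Fintype.card F : ℕ) : F) = 0 := FiniteField.cast_card_eq_zero F
    rw [hF, Nat.cast_pow, pow_eq_zero_iff two_ne_zero] at h3
    obtain ⟨p, hp⟩ := CharP.exists F
    have hpp : p.Prime := CharP.char_is_prime F p
    obtain ⟨n, -, hn⟩ := FiniteField.card F p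
    have h4 : 2 ∣ p ^ (n : ℕ) := by
      rw [← hn, hF]
      exact (even_iff_two_dvd.1 he).trans (dvd_pow_self q two_ne_zero)
    have h5 : 2 = p := (Nat.prime_dvd_prime_iff_eq Nat.prime_two hpp).1 (Nat.prime_two.dvd_of_dvd_pow h4)
    have h6 : ((2 : ℕ) : F) = 0 := by
      rw [h5]
      exact CharP.cast_eq_zero F p
    exact_mod_cast h6
  obtain ⟨π, hπ, hker⟩ := exists_pi (σ := σ) (by omega) hσ (by rw [Nat.card_eq_fintype_card, hF])
  have : Finite (PSU 3 F q) := Quotient.finite _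
  exact kill h2 ⟨hF, hσ, hπ, hker⟩ (by omega)

end Cfsg.Agent.H361.IFU
end

-- part: H66/IFU/Three
section
/-!
# S5719, cell `CellsPSU.three` (helper66, helper361)
-/

set_option autoImplicit false

namespace Cfsg.Agent.H66.IFU

open Cfsg Cfsg.Agent.H209.Fxy

/-- **`PSU_3(q)`, `|A|` even.** -/
theorem three (F : Type) [Field F] [Fintype F] (q : ℕ) (hF : Fintype.card F = q ^ 2) (hq : q ≠ 2)
    (hs : IsSimpleGroup (PSU 3 F q)) : KillE (PSU 3 F q) := by
  rcases Nat.even_or_odd q with h | h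
  · exact Cfsg.Agent.H361.IFU.even F q hF hq h hs
  · exact odd F q hF h hs

end Cfsg.Agent.H66.IFU
end

-- part: H353/IF/SpField
section
/-!
# S5719: `PSp_2m(q)`, `q ≡ 3 mod 4`, `m = 3, 4`, the elements `x² = -1` (helper353)

`K = F(i)`, `i² = -1` : `GU_m(K)` is the centraliser of `x` in `Sp_2m(F)`.
* `CM F K i` : the data; `psi : F^(2m) ≃ K^m`, `herm_psi`; `mkK T` : the symplectic element of a `K`-isometry;
* `kapG : GU_m(K) →* Sp_2m(F)`, `kapS : SU_m(K) →* Sp_2m(F)`; `xi` : multiplication by `i`;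
* `idx_su` : the indices of the proper subgroups of `SU_3`, `SU_4`;
* `kill_field`.
-/

set_option autoImplicit false
set_option linter.unusedSectionVars false

namespace Cfsg.Agent.H353.IF.SpField

open Cfsg Module
open Cfsg.Agent.LieClassical.HermBasic Cfsg.Agent.LieClassical.HermSiegel
open Cfsg.Agent.ClassicalGeometry.SympBasic
open Cfsg.Agent.ClassicalGeometry.SympSiegel (smul_def ofIso ofIso_smul ext_smul smul_smul' smul_neg')

/-- `K = F(i)` -/
structure CM (F K : Type*) [Field F] [Fintype F] [Field K] [Fintype K] [Algebra F K] (i : K) : Prop where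
  card : Fintype.card K = Fintype.card F ^ 2
  sq : i * i = -1
  ns : ¬ IsSquare (-1 : F)

section

variable {F K : Type*} [Field F] [Fintype F] [Field K] [Fintype K] [Algebra F K] {i : K} (h : CM F K i)

include h

theorem CM.mod4 : Fintype.card F % 4 = 3 := by
  by_contra hcon
  exact h.ns (FiniteField.isSquare_neg_one_iff.2 hcon)

theorem CM.zero {a b : F} (hab : algebraMap F K a + algebraMap F K b * i = 0) : a = 0 ∧ b = 0 := by
  have hb : b = 0 := by
    by_contra hb
    apply h.ns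
    refine ⟨a / b, ?_⟩
    apply (algebraMap F K).injective
    have hb' : algebraMap F K b ≠ 0 := (map_ne_zero _).2 hb
    rw [map_mul, map_div₀, map_neg, map_one, ← h.sq]
    have h1 : i = -(algebraMap F K a / algebraMap F K b) := by
      field_simp
      linear_combination hab
    rw [h1]
    ring
  refine ⟨?_, hb⟩
  rw [hb, map_zero, zero_mul, add_zero] at hab
  exact (map_eq_zero _).1 hab

theorem CM.ext {a b c d : F}
    (hab : algebraMap F K a + algebraMap F K b * i = algebraMap F K c + algebraMap F K d * i) : a = c ∧ b = d := by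
  have h1 := h.zero (a := a - c) (b := b - d) (by
    rw [map_sub, map_sub]
    linear_combination hab)
  exact ⟨sub_eq_zero.1 h1.1, sub_eq_zero.1 h1.2⟩

theorem CM.surj (z : K) : ∃ a b : F, algebraMap F K a + algebraMap F K b * i = z := by
  have h1 : Function.Bijective (fun p : F × F => algebraMap F K p.1 + algebraMap F K p.2 * i) := by
    rw [Fintype.bijective_iff_injective_and_card]
    refine ⟨fun p p' hp => ?_, ?_⟩
    · obtain ⟨e1, e2⟩ := h.ext hp
      exact Prod.ext e1 e2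
    · rw [Fintype.card_prod, h.card, pow_two]
  obtain ⟨⟨a, b⟩, hab⟩ := h1.2 z
  exact ⟨a, b, hab⟩

theorem CM.ipow : i ^ Fintype.card F = -i := by
  have h1 : ∀ a : F, (algebraMap F K a) ^ Fintype.card F = algebraMap F K a := fun a => by
    rw [← map_pow, FiniteField.pow_card]
  have h2 : (i ^ Fintype.card F - i) * (i ^ Fintype.card F + i) = 0 := by
    have h3 : i ^ Fintype.card F * i ^ Fintype.card F = -1 := by
      rw [← mul_pow, h.sq]
      have h4 := h1 (-1)
      rwa [map_neg, map_one] at h4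
    linear_combination h3 - h.sq
  rcases mul_eq_zero.1 h2 with h3 | h3
  · exfalso
    obtain ⟨z, hz⟩ := exists_not_fixed h.card
    obtain ⟨a, b, rfl⟩ := h.surj z
    apply hz
    rw [add_pow_q h.card, mul_pow, h1, h1, sub_eq_zero.1 h3]
  · exact eq_neg_of_add_eq_zero_left h3

theorem CM.conj (a b : F) : (algebraMap F K a + algebraMap F K b * i) ^ Fintype.card F =
    algebraMap F K a - algebraMap F K b * i := by
  rw [add_pow_q h.card, mul_pow, ← map_pow, ← map_pow, FiniteField.pow_card, FiniteField.pow_card, h.ipow]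
  ring

variable {m : ℕ}

/-- `F^(2m) = K^m` -/
noncomputable def psi (m : ℕ) : (Fin m ⊕ Fin m → F) ≃ₗ[F] (Fin m → K) :=
  LinearEquiv.ofBijective
    { toFun := fun v j => algebraMap F K (v (.inl j)) + algebraMap F K (v (.inr j)) * i
      map_add' := fun v w => by
        funext j
        simp only [Pi.add_apply, map_add]
        ring
      map_smul' := fun c v => by
        funext j
        simp only [Pi.smul_apply, smul_eq_mul, map_mul, RingHom.id_apply, Algebra.smul_def]
        ring }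
    ⟨fun v w hvw => by
      funext j
      rcases j with j | j
      · exact (h.ext (congrFun hvw j)).1
      · exact (h.ext (congrFun hvw j)).2, fun w => by
      choose a b hab using fun j => h.surj (w j)
      exact ⟨Sum.elim a b, funext hab⟩⟩

theorem psi_apply (v : Fin m ⊕ Fin m → F) (j : Fin m) :
    psi h m v j = algebraMap F K (v (.inl j)) + algebraMap F K (v (.inr j)) * i := rfl

theorem herm_psi (u v : Fin m ⊕ Fin m → F) :
    hermForm m K (Fintype.card F) (psi h m u) (psi h m v) =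
      algebraMap F K (∑ j, (u (.inl j) * v (.inl j) + u (.inr j) * v (.inr j))) +
        algebraMap F K (sympForm m F u v) * i := by
  rw [herm_def, sympForm_eq_sum, map_sum, map_sum, Finset.sum_mul, ← Finset.sum_add_distrib]
  refine Finset.sum_congr rfl fun j _ => ?_
  rw [psi_apply, psi_apply, h.conj, map_add, map_sub, map_mul, map_mul, map_mul, map_mul]
  linear_combination (-(algebraMap F K (u (.inr j)) * algebraMap F K (v (.inr j)))) * h.sq

/-- the `F`-linear map of a `K`-linear map -/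
noncomputable def tr (T : (Fin m → K) →ₗ[K] (Fin m → K)) : (Fin m ⊕ Fin m → F) →ₗ[F] (Fin m ⊕ Fin m → F) :=
  (psi h m).symm.toLinearMap ∘ₗ (T.restrictScalars F) ∘ₗ (psi h m).toLinearMap

theorem psi_tr (T : (Fin m → K) →ₗ[K] (Fin m → K)) (v : Fin m ⊕ Fin m → F) :
    psi h m (tr h T v) = T (psi h m v) := (psi h m).apply_symm_apply _

theorem tr_form (T : (Fin m → K) →ₗ[K] (Fin m → K))
    (hT : ∀ u v, hermForm m K (Fintype.card F) (T u) (T v) = hermForm m K (Fintype.card F) u v)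
    (u v : Fin m ⊕ Fin m → F) : sympForm m F (tr h T u) (tr h T v) = sympForm m F u v := by
  have h1 := hT (psi h m u) (psi h m v)
  rw [← psi_tr, ← psi_tr, herm_psi, herm_psi] at h1
  exact (h.ext h1).2

/-- the symplectic element of a `K`-isometry -/
noncomputable def mkK (T : (Fin m → K) →ₗ[K] (Fin m → K))
    (hT : ∀ u v, hermForm m K (Fintype.card F) (T u) (T v) = hermForm m K (Fintype.card F) u v) :
    Matrix.symplecticGroup (Fin m) F :=
  ofIso (tr h T) (tr_form h T hT)

theorem psi_mkK (T : (Fin m → K) →ₗ[K] (Fin m → K))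
    (hT : ∀ u v, hermForm m K (Fintype.card F) (T u) (T v) = hermForm m K (Fintype.card F) u v)
    (v : Fin m ⊕ Fin m → F) : psi h m (mkK h T hT • v) = T (psi h m v) := by
  unfold mkK
  rw [ofIso_smul, psi_tr]

/-- multiplication by `i` -/
noncomputable def xi (m : ℕ) : Matrix.symplecticGroup (Fin m) F :=
  mkK h (i • LinearMap.id) (fun u v => by
    rw [LinearMap.smul_apply, LinearMap.smul_apply, LinearMap.id_apply, LinearMap.id_apply, herm_smul_left,
      herm_smul_right, h.ipow]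
    linear_combination (-hermForm m K (Fintype.card F) u v) * h.sq)

theorem psi_xi (v : Fin m ⊕ Fin m → F) : psi h m (xi h m • v) = i • psi h m v := psi_mkK h _ _ v

theorem xi_xi (v : Fin m ⊕ Fin m → F) : xi h m • xi h m • v = -v := by
  apply (psi h m).injective
  rw [psi_xi, psi_xi, smul_smul, h.sq, map_neg, neg_smul, one_smul]

/-- the matrix of an element of `GU` -/
def gmat (A : GU m K (Fintype.card F)) : Matrix (Fin m) (Fin m) K :=
  ((A : Matrix.GeneralLinearGroup (Fin m) K) : Matrix (Fin m) (Fin m) K)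

omit h in
theorem formG (A : GU m K (Fintype.card F)) (u v : Fin m → K) :
    hermForm m K (Fintype.card F) (Matrix.toLin' (gmat A) u) (Matrix.toLin' (gmat A) v) =
      hermForm m K (Fintype.card F) u v := by
  rw [Matrix.toLin'_apply, Matrix.toLin'_apply]
  exact A.2 u v

/-- the map `GU_m(K) → Sp_2m(F)` -/
noncomputable def kapG0 (A : GU m K (Fintype.card F)) : Matrix.symplecticGroup (Fin m) F :=
  mkK h (Matrix.toLin' (gmat A)) (formG A)

theorem psi_kapG0 (A : GU m K (Fintype.card F)) (v : Fin m ⊕ Fin m → F) : psi h m (kapG0 h A • v) =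
    (gmat A).mulVec (psi h m v) := psi_mkK h _ _ v

/-- `GU_m(K) → Sp_2m(F)` -/
noncomputable def kapG (m : ℕ) : GU m K (Fintype.card F) →* Matrix.symplecticGroup (Fin m) F where
  toFun A := kapG0 h A
  map_one' := by
    apply ext_smul
    intro v
    apply (psi h m).injective
    rw [psi_kapG0, one_smul]
    exact Matrix.one_mulVec _
  map_mul' A B := by
    apply ext_smul
    intro v
    apply (psi h m).injective
    rw [psi_kapG0, mul_smul, psi_kapG0, psi_kapG0, Matrix.mulVec_mulVec]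
    rfl

theorem psi_kapG (A : GU m K (Fintype.card F)) (v : Fin m ⊕ Fin m → F) : psi h m (kapG h m A • v) =
    (gmat A).mulVec (psi h m v) := psi_kapG0 h A v

theorem kapG_injective : Function.Injective (kapG h m) := by
  intro A B hAB
  apply Subtype.ext
  apply Units.ext
  apply Matrix.toLin'.injective
  apply LinearMap.ext
  intro w
  have h1 := psi_kapG h A ((psi h m).symm w)
  have h2 := psi_kapG h B ((psi h m).symm w)
  rw [hAB, h2, LinearEquiv.apply_symm_apply] at h1
  exact h1.symm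

theorem kapG_comm (A : GU m K (Fintype.card F)) : kapG h m A * xi h m = xi h m * kapG h m A := by
  apply ext_smul
  intro v
  apply (psi h m).injective
  rw [mul_smul, mul_smul, psi_kapG, psi_xi, psi_xi, psi_kapG, Matrix.mulVec_smul]

omit h in
theorem formS (A : SU m K (Fintype.card F)) (u v : Fin m → K) :
    hermForm m K (Fintype.card F) (Matrix.toLin' (mat A) u) (Matrix.toLin' (mat A) v) =
      hermForm m K (Fintype.card F) u v := by
  rw [Matrix.toLin'_apply, Matrix.toLin'_apply]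
  exact A.2 u v

/-- the map `SU_m(K) → Sp_2m(F)` -/
noncomputable def kapS0 (A : SU m K (Fintype.card F)) : Matrix.symplecticGroup (Fin m) F :=
  mkK h (Matrix.toLin' (mat A)) (formS A)

theorem psi_kapS0 (A : SU m K (Fintype.card F)) (v : Fin m ⊕ Fin m → F) : psi h m (kapS0 h A • v) =
    act A (psi h m v) := psi_mkK h _ _ v

/-- `SU_m(K) → Sp_2m(F)` -/
noncomputable def kapS (m : ℕ) : SU m K (Fintype.card F) →* Matrix.symplecticGroup (Fin m) F where
  toFun A := kapS0 h A
  map_one' := by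
    apply ext_smul
    intro v
    apply (psi h m).injective
    rw [psi_kapS0, one_smul, act_one]
  map_mul' A B := by
    apply ext_smul
    intro v
    apply (psi h m).injective
    rw [psi_kapS0, mul_smul, psi_kapS0, psi_kapS0, act_mul]

theorem psi_kapS (A : SU m K (Fintype.card F)) (v : Fin m ⊕ Fin m → F) : psi h m (kapS h m A • v) =
    act A (psi h m v) := psi_kapS0 h A v

theorem kapS_comm (A : SU m K (Fintype.card F)) : kapS h m A * xi h m = xi h m * kapS h m A := by
  apply ext_smul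
  intro v
  apply (psi h m).injective
  rw [mul_smul, mul_smul, psi_kapS, psi_xi, psi_xi, psi_kapS, act_smul]

end

/-! ### indices -/

theorem idx_of_quot {G : Type*} [Group G] [Finite G] (hG : commutator G = ⊤) {B : ℕ}
    (hT : ∀ H : Subgroup (G ⧸ Subgroup.center G), H ≠ ⊤ → B ≤ H.index) {M : Subgroup G} (hM : M ≠ ⊤) :
    B ≤ M.index := by
  have h1 : M.map (QuotientGroup.mk' (Subgroup.center G)) ≠ ⊤ := by
    intro h
    apply hM
    have h1 : M ⊔ Subgroup.center G = ⊤ := by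
      have := congrArg (Subgroup.comap (QuotientGroup.mk' (Subgroup.center G))) h
      rwa [Subgroup.comap_map_eq, QuotientGroup.ker_mk', Subgroup.comap_top] at this
    have hn : M.Normal := by
      refine ⟨fun m hm g => ?_⟩
      have hg : g ∈ M ⊔ Subgroup.center G := by rw [h1]; exact Subgroup.mem_top g
      obtain ⟨a, ha, z, hz, rfl⟩ := Subgroup.mem_sup_of_normal_right.1 hg
      have hz' := Subgroup.mem_center_iff.1 hz m
      have e : a * z * m * (a * z)⁻¹ = a * m * a⁻¹ := by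
        rw [mul_assoc a z m, ← hz', mul_inv_rev]
        group
      rw [e]
      exact M.mul_mem (M.mul_mem ha hm) (M.inv_mem ha)
    have h2 := Subgroup.Normal.commutator_le_of_self_sup_commutative_eq_top h1 inferInstance
    rw [hG] at h2
    exact top_le_iff.mp h2
  exact (hT _ h1).trans (Nat.le_of_dvd (Nat.pos_of_ne_zero Subgroup.index_ne_zero_of_finite)
    (Subgroup.index_map_dvd _ (QuotientGroup.mk'_surjective _)))

theorem idx_su {K : Type*} [Field K] [Fintype K] {q m : ℕ} (hK : Fintype.card K = q ^ 2) (h4 : q % 4 = 3)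
    (hm : m = 3 ∨ m = 4) {M : Subgroup (SU m K q)} (hM : M ≠ ⊤) :
    (if m = 3 then q ^ 3 + 1 else (q + 1) * (q ^ 3 + 1)) ≤ M.index := by
  refine idx_of_quot (Cfsg.Agent.LieClassical.HermPerfect.commutator_SU_eq_top hK (by omega) (by omega)) ?_ hM
  rcases hm with rfl | rfl
  · rw [if_pos rfl]
    exact (Cfsg.Agent.S2148.result q hK (by omega) (by omega)).1
  · rw [if_neg (by norm_num)]
    exact (Cfsg.Agent.S2150.result q hK (by omega)).1

/-- `diag(-1, -1, 1, ...)` -/
theorem exists_T {K : Type*} [Field K] [Fintype K] {q m : ℕ} (hK : Fintype.card K = q ^ 2) (h2 : (2 : K) ≠ 0)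
    (hm : m = 3 ∨ m = 4) : ∃ T : SU m K q, (∀ v, act T (act T v) = v) ∧ (¬ ∀ v, act T v = v) ∧
      ¬ ∀ v, act T v = -v := by
  let d : Fin m → K := fun j => if (j : ℕ) < 2 then -1 else 1
  have hd : ∀ j, d j * d j ^ q = 1 := by
    intro j
    by_cases hj : (j : ℕ) < 2
    · simp only [d, if_pos hj, neg_pow_q hK, one_pow]
      norm_num
    · simp only [d, if_neg hj, one_pow, mul_one]
  have hd2 : ∀ j, d j * d j = 1 := by
    intro j
    by_cases hj : (j : ℕ) < 2
    · simp only [d, if_pos hj]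
      norm_num
    · simp only [d, if_neg hj, mul_one]
  have hdet : (Matrix.diagonal d).det = 1 := by
    rw [Matrix.det_diagonal]
    rcases hm with rfl | rfl
    · simp only [d, Fin.prod_univ_succ, _root_.Order.lt_two_iff, _root_.Fin.prod_univ_succ, _root_.Fin.isValue, _root_.Fin.coe_ofNat_eq_mod, _root_.Nat.zero_mod, _root_.zero_le, ↓ _root_.reduceIte, _root_.Fin.val_succ, _root_.add_le_iff_nonpos_left, _root_.nonpos_iff_eq_zero, _root_.Fin.val_eq_zero_iff, _root_.Finset.prod_ite_eq', _root_.Finset.mem_univ, _root_.mul_neg, _root_.mul_one, _root_.neg_neg]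
    · simp only [d, Fin.prod_univ_succ, _root_.Order.lt_two_iff, _root_.Fin.prod_univ_succ, _root_.Fin.isValue, _root_.Fin.coe_ofNat_eq_mod, _root_.Nat.zero_mod, _root_.zero_le, ↓ _root_.reduceIte, _root_.Fin.val_succ, _root_.add_le_iff_nonpos_left, _root_.nonpos_iff_eq_zero, _root_.Fin.val_eq_zero_iff, _root_.Finset.prod_ite_eq', _root_.Finset.mem_univ, _root_.mul_neg, _root_.mul_one, _root_.neg_neg]
  let T : SU m K q := mkSU (Matrix.diagonal d) hdet (fun u v => by
    rw [herm_def, herm_def]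
    refine Finset.sum_congr rfl fun j _ => ?_
    rw [Matrix.mulVec_diagonal, Matrix.mulVec_diagonal, mul_pow]
    linear_combination (u j * v j ^ q) * hd j)
  have hT : ∀ v j, act T v j = d j * v j := fun v j => Matrix.mulVec_diagonal _ _ _
  refine ⟨T, fun v => ?_, fun hcon => ?_, fun hcon => ?_⟩
  · funext j
    rw [hT, hT, ← mul_assoc, hd2, one_mul]
  · have h1 := congrFun (hcon (fun _ => 1)) ⟨0, by omega⟩
    rw [hT] at h1
    simp only [d, if_pos (show ((⟨0, by omega⟩ : Fin m) : ℕ) < 2 by simp)] at h1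
    apply h2
    linear_combination -h1
  · have h1 := congrFun (hcon (fun _ => 1)) ⟨2, by omega⟩
    rw [hT] at h1
    simp only [d, if_neg (show ¬ ((⟨2, by omega⟩ : Fin m) : ℕ) < 2 by simp), Pi.neg_apply] at h1
    apply h2
    linear_combination h1

theorem num {q m : ℕ} (hq : 3 ≤ q) (hm : m = 3 ∨ m = 4) :
    q ^ (m ^ 2) * ∏ j ∈ Finset.range m, (q ^ (2 * (j + 1)) - 1) ≤
      (if m = 3 then q ^ 3 + 1 else (q + 1) * (q ^ 3 + 1)) ^ 5 *
        (q ^ (m * (m - 1) / 2) * ∏ j ∈ Finset.range m, (if Even j then q ^ (j + 1) + 1 else q ^ (j + 1) - 1)) := by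
  have e1 : Even 0 := by decide
  have e2 : ¬ Even 1 := by decide
  have e3 : Even 2 := by decide
  have e4 : ¬ Even 3 := by decide
  have hq1 : q ≤ q + 1 := by omega
  have hq3 : q ^ 3 ≤ q ^ 3 + 1 := by omega
  rcases hm with rfl | rfl
  · rw [if_pos rfl]
    simp only [Finset.prod_range_succ, Finset.prod_range_zero, one_mul, if_pos e1, if_neg e2, if_pos e3,
      Nat.reduceAdd, Nat.reduceMul, Nat.reduceSub, Nat.reduceDiv, Nat.reducePow, zero_add, pow_one]
    calc q ^ 9 * ((q ^ 2 - 1) * (q ^ 4 - 1) * (q ^ 6 - 1)) ≤ q ^ 9 * ((q ^ 2 - 1) * q ^ 4 * q ^ 6) :=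
          Nat.mul_le_mul_left _ (Nat.mul_le_mul (Nat.mul_le_mul_left _ (Nat.sub_le _ _)) (Nat.sub_le _ _))
      _ = q ^ 19 * (q ^ 2 - 1) := by ring
      _ ≤ q ^ 22 * (q ^ 2 - 1) := Nat.mul_le_mul_right _ (Nat.pow_le_pow_right (by omega) (by norm_num))
      _ = (q ^ 3) ^ 5 * (q ^ 3 * (q * (q ^ 2 - 1) * q ^ 3)) := by ring
      _ ≤ (q ^ 3 + 1) ^ 5 * (q ^ 3 * ((q + 1) * (q ^ 2 - 1) * (q ^ 3 + 1))) :=
          Nat.mul_le_mul (Nat.pow_le_pow_left hq3 5)
            (Nat.mul_le_mul_left _ (Nat.mul_le_mul (Nat.mul_le_mul_right _ hq1) hq3))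
  · rw [if_neg (by norm_num)]
    simp only [Finset.prod_range_succ, Finset.prod_range_zero, one_mul, if_pos e1, if_neg e2, if_pos e3, if_neg e4,
      Nat.reduceAdd, Nat.reduceMul, Nat.reduceSub, Nat.reduceDiv, Nat.reducePow, zero_add, pow_one]
    calc q ^ 16 * ((q ^ 2 - 1) * (q ^ 4 - 1) * (q ^ 6 - 1) * (q ^ 8 - 1)) ≤
          q ^ 16 * ((q ^ 2 - 1) * (q ^ 4 - 1) * q ^ 6 * q ^ 8) :=
          Nat.mul_le_mul_left _ (Nat.mul_le_mul (Nat.mul_le_mul_left _ (Nat.sub_le _ _)) (Nat.sub_le _ _))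
      _ = (q * q ^ 3) ^ 5 * (q ^ 6 * (q * (q ^ 2 - 1) * q ^ 3 * (q ^ 4 - 1))) := by ring
      _ ≤ ((q + 1) * (q ^ 3 + 1)) ^ 5 * (q ^ 6 * ((q + 1) * (q ^ 2 - 1) * (q ^ 3 + 1) * (q ^ 4 - 1))) :=
          Nat.mul_le_mul (Nat.pow_le_pow_left (Nat.mul_le_mul hq1 hq3) 5)
            (Nat.mul_le_mul_left _ (Nat.mul_le_mul_right _ (Nat.mul_le_mul (Nat.mul_le_mul_right _ hq1) hq3)))

/-! ### the theorem -/

theorem exists_cm {F : Type} [Field F] [Fintype F] (hsq : ¬ IsSquare (-1 : F)) :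
    ∃ (K : Type) (_ : Field K) (_ : Fintype K) (_ : Algebra F K) (i : K), CM F K i := by
  classical
  open Polynomial in
  have hirr : Irreducible (X ^ 2 + 1 : F[X]) := by
    have hdeg : (X ^ 2 + 1 : F[X]).natDegree = 2 := by compute_degree!
    apply Polynomial.irreducible_of_degree_le_three_of_not_isRoot
    · rw [hdeg]
      decide
    · intro x hx
      apply hsq
      refine ⟨x, ?_⟩
      have h1 : x ^ 2 + 1 = 0 := by simpa only [IsRoot, _root_.Polynomial.eval_add, _root_.Polynomial.eval_pow, _root_.Polynomial.eval_X, _root_.Polynomial.eval_one] using hx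
      linear_combination -h1
  open Polynomial in
  have : Fact (Irreducible (X ^ 2 + 1 : F[X])) := ⟨hirr⟩
  open Polynomial in
  let K := AdjoinRoot (X ^ 2 + 1 : F[X])
  open Polynomial in
  let pb := AdjoinRoot.powerBasis (K := F) (f := (X ^ 2 + 1 : F[X])) hirr.ne_zero
  have : Module.Finite F K := pb.finite
  have : Finite K := Module.finite_of_finite F
  have hft : Fintype K := Fintype.ofFinite K
  open Polynomial in
  refine ⟨K, inferInstance, hft, inferInstance, AdjoinRoot.root (X ^ 2 + 1 : F[X]), ?_, ?_, hsq⟩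
  · rw [Module.card_eq_pow_finrank (K := F), pb.finrank]
    congr 1
    open Polynomial in
    have hdeg : (X ^ 2 + 1 : F[X]).natDegree = 2 := by compute_degree!
    exact hdeg
  · have h1 := AdjoinRoot.eval₂_root (Polynomial.X ^ 2 + 1 : Polynomial F)
    rw [Polynomial.eval₂_add, Polynomial.eval₂_pow, Polynomial.eval₂_X, Polynomial.eval₂_one] at h1
    linear_combination h1

theorem kill_field {F : Type} [Field F] [Fintype F] {m : ℕ} (hm : m = 3 ∨ m = 4) (h2 : (2 : F) ≠ 0)
    (hsq : ¬ IsSquare (-1 : F)) {H : Subgroup (Matrix.symplecticGroup (Fin m) F)}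
    (H0 : ∀ y ∈ H, (∀ v : Fin m ⊕ Fin m → F, y • y • v = v) → (∀ v : Fin m ⊕ Fin m → F, y • v = v) ∨
      ∀ v : Fin m ⊕ Fin m → F, y • v = -v)
    {x : Matrix.symplecticGroup (Fin m) F} (hxx : ∀ v : Fin m ⊕ Fin m → F, x • x • v = -v)
    (hE : ∀ B : Subgroup (Matrix.symplecticGroup (Fin m) F), B ≤ Subgroup.centralizer {x} →
      H.relIndex B ^ 5 < (Subgroup.centralizer {x}).index) : False := by
  classical
  obtain ⟨K, _, _, _, i, h⟩ := exists_cm hsq
  set q := Fintype.card F with hq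
  have h4 : q % 4 = 3 := h.mod4
  have h2K : (2 : K) ≠ 0 := by
    intro h0
    apply h2
    apply (algebraMap F K).injective
    rw [map_ofNat, h0, map_zero]
  obtain ⟨g, hg⟩ := Cfsg.Agent.H500.IFSp.conj_of_sq h2 hxx (xi_xi h (m := m))
  have hx : x = g⁻¹ * xi h m * g := by
    rw [← hg]
    group
  have hcent : ∀ y, y * xi h m = xi h m * y → g⁻¹ * y * g ∈ Subgroup.centralizer {x} := by
    intro y hy
    rw [Subgroup.mem_centralizer_singleton_iff, hx]
    have e1 : g⁻¹ * y * g * (g⁻¹ * xi h m * g) = g⁻¹ * (y * xi h m) * g := by group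
    have e2 : g⁻¹ * xi h m * g * (g⁻¹ * y * g) = g⁻¹ * (xi h m * y) * g := by group
    rw [e1, e2, hy]
  -- the order
  have hcard : Nat.card (GU m K q) ≤ Nat.card (Subgroup.centralizer ({x} : Set (Matrix.symplecticGroup (Fin m) F))) := by
    let φ : GU m K q → Subgroup.centralizer ({x} : Set (Matrix.symplecticGroup (Fin m) F)) := fun A =>
      ⟨g⁻¹ * kapG h m A * g, hcent _ (kapG_comm h A)⟩
    refine Nat.card_le_card_of_injective φ fun A B hAB => ?_
    have h5 : g⁻¹ * kapG h m A * g = g⁻¹ * kapG h m B * g := congrArg Subtype.val hAB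
    exact kapG_injective h (mul_left_cancel (mul_right_cancel h5))
  -- the index
  let f : SU m K q →* Matrix.symplecticGroup (Fin m) F := (MulAut.conj g⁻¹).toMonoidHom.comp (kapS h m)
  have hf : ∀ A, f A = g⁻¹ * kapS h m A * g := fun A => by
    change g⁻¹ * kapS h m A * g⁻¹⁻¹ = _
    rw [inv_inv]
  have hfv : ∀ A v, psi h m (g • f A • v) = act A (psi h m (g • v)) := by
    intro A v
    rw [hf, mul_smul, mul_smul, smul_inv_smul, psi_kapS]
  have hle : f.range ≤ Subgroup.centralizer {x} := by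
    rintro _ ⟨A, rfl⟩
    rw [hf]
    exact hcent _ (kapS_comm h A)
  obtain ⟨T, hT1, hT2, hT3⟩ := exists_T (m := m) (h.card) h2K hm
  have hne : H.comap f ≠ ⊤ := by
    intro htop
    have hTH : f T ∈ H := by
      have : T ∈ H.comap f := by rw [htop]; exact Subgroup.mem_top T
      exact this
    have hTT : ∀ v : Fin m ⊕ Fin m → F, f T • f T • v = v := by
      intro v
      have e1 : g • f T • f T • v = g • v := by
        apply (psi h m).injective
        rw [hfv, hfv, hT1]
      exact (MulAction.injective g) e1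
    have hsur : ∀ w, ∃ v, psi h m (g • v) = w := by
      intro w
      refine ⟨g⁻¹ • (psi h m).symm w, ?_⟩
      rw [smul_inv_smul, LinearEquiv.apply_symm_apply]
    rcases H0 _ hTH hTT with h5 | h5
    · apply hT2
      intro w
      obtain ⟨v, rfl⟩ := hsur w
      rw [← hfv, h5]
    · apply hT3
      intro w
      obtain ⟨v, rfl⟩ := hsur w
      rw [← hfv, h5, smul_neg', map_neg]
  have hidx := idx_su h.card h4 hm hne
  have hrel : (H.comap f).index ≤ H.relIndex (Subgroup.centralizer {x}) := by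
    rw [Subgroup.index_comap]
    exact Subgroup.relIndex_le_of_le_right hle Subgroup.index_ne_zero_of_finite
  have h6 := hE _ le_rfl
  have h7 := (Nat.pow_le_pow_left (hidx.trans hrel) 5).trans_lt h6
  have h8 := Subgroup.index_mul_card (Subgroup.centralizer ({x} : Set (Matrix.symplecticGroup (Fin m) F)))
  have h9 := Cfsg.Agent.S0245.result (F := F) hq.symm m
  have h10 := Cfsg.Agent.S0277.result (F := K) h.card m
  have h11 : (if m = 3 then q ^ 3 + 1 else (q + 1) * (q ^ 3 + 1)) ^ 5 * Nat.card (GU m K q) <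
      Nat.card (Matrix.symplecticGroup (Fin m) F) := by
    rw [← h8]
    exact Nat.mul_lt_mul_of_lt_of_le h7 hcard Nat.card_pos
  rw [h9, h10] at h11
  exact absurd (h11.trans_le (num (by omega) hm)) (lt_irrefl _)

end Cfsg.Agent.H353.IF.SpField
end

private theorem dce_1a38ea5e23ad : _root_.True := by
  try have : _root_.True := by simp only [_root_.Cfsg.Agent.H66.IFU.hd.congr_simp]
  try have : _root_.True := by simp only [_root_.Cfsg.Agent.H353.IF.SpField.xi.congr_simp]
  try have : _root_.True := by simp only [_root_.Cfsg.Agent.H66.IFU.up.congr_simp]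
  try have : _root_.True := by simp only [_root_.Cfsg.Agent.H66.IFU.e2.eq_1]
  try have : _root_.True := by simp only [_root_.Cfsg.Agent.H66.IFU.lo.congr_simp]
  try have : _root_.True := by simp only [_root_.Cfsg.Agent.H361.IFU.ez.congr_simp]
  try have : _root_.True := by simp only [_root_.Cfsg.Agent.H361.IFU.nn.eq_1]
  try have : _root_.True := by simp only [_root_.Cfsg.Agent.H66.IFU.phi.congr_simp]
  try have : _root_.True := by simp only [_root_.Cfsg.Agent.H66.IFU.phiM.eq_1]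
  try have : _root_.True := by simp only [_root_.Cfsg.Agent.H66.IFU.wl.congr_simp]
  try have : _root_.True := by simp only [_root_.Cfsg.Agent.H361.IFU.ez.eq_1]
  exact _root_.True.intro
end

-- part: H353/IF/SpFieldBig
section
prune_inst 0x257034247122020000002514102000204c00042000008c00ada303420a48c0228d8208400b000107522201811004002813100010424000000e000400000501208082d00432400104260019800180000000000000000000000000000000010000200000000
set_option linter.all false
open scoped Cfsg.Agent.FastGrp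

/-!
# S5719: `PSp_2m(q)`, `q ≡ 3 mod 4`, `m ≥ 5`, the elements `x² = -1` (helper353)

`kill_field_big` : by (PHI) for `SU_m(K)` (helper27): `q^(m²/4) ≤ |SU_m : Y|`, the class of `x` has at most `q^(m²+m)`
elements. `hFT` is the odd order theorem (`fun D _ _ h => Cfsg.Agent.S0205.result h`).
-/

set_option autoImplicit false
set_option linter.unusedSectionVars false

namespace Cfsg.Agent.H353.IF.SpField

open Cfsg Module
open Cfsg.Agent.LieClassical.HermBasic Cfsg.Agent.LieClassical.HermSiegel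
open Cfsg.Agent.ClassicalGeometry.SympBasic
open Cfsg.Agent.ClassicalGeometry.SympSiegel (smul_def ofIso ofIso_smul ext_smul smul_smul' smul_neg')
open Cfsg.Agent.H353.Phi (fund)

theorem prod_even {q : ℕ} (hq : 1 ≤ q) (k : ℕ) :
    ∏ i ∈ Finset.range (2 * k), (if Even i then q ^ (i + 1) - 1 else q ^ (i + 1) + 1) ≤ q ^ (k * (2 * k + 1)) := by
  induction k with
  | zero => simp only [_root_.MulZeroClass.mul_zero, _root_.Finset.range_zero, _root_.Finset.prod_empty, _root_.zero_add, _root_.mul_one, _root_.pow_zero, _root_.Std.le_refl]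
  | succ k ih =>
    rw [show 2 * (k + 1) = 2 * k + 1 + 1 by ring, Finset.prod_range_succ, Finset.prod_range_succ,
      if_pos (by simp only [_root_.even_two, _root_.Even.mul_right]), if_neg (by simp only [_root_.Nat.not_even_bit1, _root_.not_false_eq_true])]
    have h1 : (q ^ (2 * k + 1) - 1) * (q ^ (2 * k + 1 + 1) + 1) ≤ q ^ (4 * k + 3) := by
      have h2 : 1 ≤ q ^ (2 * k + 1) := Nat.one_le_pow _ _ hq
      obtain ⟨a, ha⟩ := Nat.exists_eq_add_of_le h2
      obtain ⟨b, rfl⟩ := Nat.exists_eq_add_of_le hq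
      have h3 : (1 + b) ^ (2 * k + 1 + 1) = (1 + b) ^ (2 * k + 1) * (1 + b) := pow_succ _ _
      have h4 : (1 + b) ^ (4 * k + 3) = (1 + b) ^ (2 * k + 1) * ((1 + b) ^ (2 * k + 1) * (1 + b)) := by ring
      rw [h3, h4, ha, Nat.add_sub_cancel_left]
      linarith only [Nat.zero_le (a * b)]
    calc _ = (∏ i ∈ Finset.range (2 * k), (if Even i then q ^ (i + 1) - 1 else q ^ (i + 1) + 1)) *
          ((q ^ (2 * k + 1) - 1) * (q ^ (2 * k + 1 + 1) + 1)) := by rw [mul_assoc]
      _ ≤ q ^ (k * (2 * k + 1)) * q ^ (4 * k + 3) := Nat.mul_le_mul ih h1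
      _ = q ^ ((k + 1) * (2 * k + 1 + 1 + 1)) := by
        rw [← pow_add]
        congr 1
        ring

theorem prod_le' {q : ℕ} (hq : 1 ≤ q) (m : ℕ) :
    ∏ i ∈ Finset.range m, (if Even i then q ^ (i + 1) - 1 else q ^ (i + 1) + 1) ≤ q ^ (m * (m - 1) / 2 + m) := by
  obtain ⟨k, rfl | rfl⟩ := Nat.even_or_odd' m
  · refine (prod_even hq k).trans (le_of_eq ?_)
    congr 1
    rcases Nat.eq_zero_or_pos k with rfl | hk
    · rfl
    · obtain ⟨j, rfl⟩ := Nat.exists_eq_add_of_le hk
      rw [mul_assoc, Nat.mul_div_cancel_left _ (by norm_num), show 2 * (1 + j) - 1 = 2 * j + 1 by omega]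
      ring
  · rw [Finset.prod_range_succ, if_pos (by simp only [_root_.even_two, _root_.Even.mul_right])]
    refine (Nat.mul_le_mul (prod_even hq k) (Nat.sub_le _ _)).trans (le_of_eq ?_)
    rw [← pow_add]
    congr 1
    rw [show 2 * k + 1 - 1 = 2 * k by omega, show (2 * k + 1) * (2 * k) = 2 * ((2 * k + 1) * k) by ring,
      Nat.mul_div_cancel_left _ (by norm_num)]
    ring

theorem card_le {q : ℕ} (hq : 1 ≤ q) (m : ℕ) :
    q ^ (m ^ 2) * ∏ j ∈ Finset.range m, (q ^ (2 * (j + 1)) - 1) ≤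
      q ^ (m ^ 2 + m) *
        (q ^ (m * (m - 1) / 2) * ∏ j ∈ Finset.range m, (if Even j then q ^ (j + 1) + 1 else q ^ (j + 1) - 1)) := by
  have h1 : ∏ j ∈ Finset.range m, (q ^ (2 * (j + 1)) - 1) =
      (∏ j ∈ Finset.range m, (if Even j then q ^ (j + 1) - 1 else q ^ (j + 1) + 1)) *
        ∏ j ∈ Finset.range m, (if Even j then q ^ (j + 1) + 1 else q ^ (j + 1) - 1) := by
    rw [← Finset.prod_mul_distrib]
    refine Finset.prod_congr rfl fun j _ => ?_
    have h2 : q ^ (2 * (j + 1)) - 1 = (q ^ (j + 1) + 1) * (q ^ (j + 1) - 1) := by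
      rw [mul_comm 2, pow_mul, ← Nat.sq_sub_sq, one_pow]
    by_cases hj : Even j
    · rw [if_pos hj, if_pos hj, h2, mul_comm]
    · rw [if_neg hj, if_neg hj, h2]
  rw [h1]
  calc q ^ (m ^ 2) * ((∏ j ∈ Finset.range m, (if Even j then q ^ (j + 1) - 1 else q ^ (j + 1) + 1)) *
        ∏ j ∈ Finset.range m, (if Even j then q ^ (j + 1) + 1 else q ^ (j + 1) - 1)) ≤
      q ^ (m ^ 2) * (q ^ (m * (m - 1) / 2 + m) *
        ∏ j ∈ Finset.range m, (if Even j then q ^ (j + 1) + 1 else q ^ (j + 1) - 1)) :=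
        Nat.mul_le_mul_left _ (Nat.mul_le_mul_right _ (prod_le' hq m))
    _ = _ := by
      rw [pow_add, pow_add]
      ring

theorem exp_le {m : ℕ} (hm : 5 ≤ m) : m ^ 2 + m ≤ m ^ 2 / 4 * 5 := by
  obtain ⟨k, rfl | rfl⟩ := Nat.even_or_odd' m
  · have h1 : (2 * k) ^ 2 / 4 = k ^ 2 := by
      rw [mul_pow, show 2 ^ 2 = 4 by norm_num, Nat.mul_div_cancel_left _ (by norm_num)]
    rw [h1]
    have hk : 3 ≤ k := by omega
    nlinarith
  · have h1 : (2 * k + 1) ^ 2 / 4 = k ^ 2 + k := by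
      have : (2 * k + 1) ^ 2 = 4 * (k ^ 2 + k) + 1 := by ring
      omega
    rw [h1]
    have hk : 2 ≤ k := by omega
    nlinarith only [hm]

/-- the case `x² = -1`, `-1` a nonsquare, `m ≥ 5` -/
theorem kill_field_big (hFT : ∀ (D : Type) [Group D] [Finite D], Odd (Nat.card D) → Group.IsSolvable D)
    {F : Type} [Field F] [Fintype F] {m : ℕ} (hm : 5 ≤ m) (h2 : (2 : F) ≠ 0)
    (hsq : ¬ IsSquare (-1 : F)) {H : Subgroup (Matrix.symplecticGroup (Fin m) F)}
    (H0 : ∀ y ∈ H, (∀ v : Fin m ⊕ Fin m → F, y • y • v = v) → (∀ v : Fin m ⊕ Fin m → F, y • v = v) ∨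
      ∀ v : Fin m ⊕ Fin m → F, y • v = -v)
    {x : Matrix.symplecticGroup (Fin m) F} (hxx : ∀ v : Fin m ⊕ Fin m → F, x • x • v = -v)
    (hE : ∀ B : Subgroup (Matrix.symplecticGroup (Fin m) F), B ≤ Subgroup.centralizer {x} →
      H.relIndex B ^ 5 < (Subgroup.centralizer {x}).index) : False := by
  classical
  obtain ⟨K, _, _, _, i, h⟩ := exists_cm hsq
  set q := Fintype.card F with hq
  have h4 : q % 4 = 3 := h.mod4
  have h2K : (2 : K) ≠ 0 := by
    intro h0
    apply h2
    apply (algebraMap F K).injective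
    rw [map_ofNat, h0, map_zero]
  obtain ⟨g, hg⟩ := Cfsg.Agent.H500.IFSp.conj_of_sq h2 hxx (xi_xi h (m := m))
  have hx : x = g⁻¹ * xi h m * g := by
    rw [← hg]
    group
  have hcent : ∀ y, y * xi h m = xi h m * y → g⁻¹ * y * g ∈ Subgroup.centralizer {x} := by
    intro y hy
    rw [Subgroup.mem_centralizer_singleton_iff, hx]
    have e1 : g⁻¹ * y * g * (g⁻¹ * xi h m * g) = g⁻¹ * (y * xi h m) * g := by group
    have e2 : g⁻¹ * xi h m * g * (g⁻¹ * y * g) = g⁻¹ * (xi h m * y) * g := by group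
    rw [e1, e2, hy]
  -- the order
  have hcard : Nat.card (GU m K q) ≤ Nat.card (Subgroup.centralizer ({x} : Set (Matrix.symplecticGroup (Fin m) F))) := by
    let φ : GU m K q → Subgroup.centralizer ({x} : Set (Matrix.symplecticGroup (Fin m) F)) := fun A =>
      ⟨g⁻¹ * kapG h m A * g, hcent _ (kapG_comm h A)⟩
    refine Nat.card_le_card_of_injective φ fun A B hAB => ?_
    have h5 : g⁻¹ * kapG h m A * g = g⁻¹ * kapG h m B * g := congrArg Subtype.val hAB
    exact kapG_injective h (mul_left_cancel (mul_right_cancel h5))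
  -- the index
  let f : SU m K q →* Matrix.symplecticGroup (Fin m) F := (MulAut.conj g⁻¹).toMonoidHom.comp (kapS h m)
  have hf : ∀ A, f A = g⁻¹ * kapS h m A * g := fun A => by
    change g⁻¹ * kapS h m A * g⁻¹⁻¹ = _
    rw [inv_inv]
  have hfv : ∀ A v, psi h m (g • f A • v) = act A (psi h m (g • v)) := by
    intro A v
    rw [hf, mul_smul, mul_smul, smul_inv_smul, psi_kapS]
  have hle : f.range ≤ Subgroup.centralizer {x} := by
    rintro _ ⟨A, rfl⟩
    rw [hf]
    exact hcent _ (kapS_comm h A)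
  have hsur : ∀ w, ∃ v, psi h m (g • v) = w := by
    intro w
    refine ⟨g⁻¹ • (psi h m).symm w, ?_⟩
    rw [smul_inv_smul, LinearEquiv.apply_symm_apply]
  have hB := Cfsg.Agent.H450.UF.hform h.card m
  let e := (Cfsg.Agent.H450.UF.toIso (n := m) h.card)
  have hidx : q ^ (m ^ 2 / 4) ≤ (H.comap f).index := by
    have h5 := Cfsg.Agent.H27.IF.phi_abs h.card h2K hFT hB ((H.comap f).comap e.symm.toMonoidHom) (by
      rintro z hz ⟨hz1, hz2⟩
      set A := e.symm z with hA
      have hzA : ∀ v, z.1 v = act A v := fun v => by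
        rw [← Cfsg.Agent.H450.UF.toIso_apply h.card A v, hA]
        change _ = (e (e.symm z)).1 v
        rw [MulEquiv.apply_symm_apply]
      have hAA : ∀ v, act A (act A v) = v := fun v => by
        rw [← hzA, ← hzA]
        exact LinearEquiv.congr_fun hz1 v
      have hAH : f A ∈ H := hz
      have hTT : ∀ v : Fin m ⊕ Fin m → F, f A • f A • v = v := by
        intro v
        have e1 : g • f A • f A • v = g • v := by
          apply (psi h m).injective
          rw [hfv, hfv, hAA]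
        exact (MulAction.injective g) e1
      rcases H0 _ hAH hTT with h5 | h5
      · have h6 : (z.1 : (Fin m → K) →ₗ[K] (Fin m → K)) - 1 = 0 := by
          apply LinearMap.ext
          intro w
          obtain ⟨v, rfl⟩ := hsur w
          change z.1 (psi h m (g • v)) - psi h m (g • v) = 0
          rw [hzA, ← hfv, h5, sub_self]
        rw [h6, LinearMap.range_zero, finrank_bot] at hz2
        exact absurd hz2 (by norm_num)
      · have h6 : (z.1 : (Fin m → K) →ₗ[K] (Fin m → K)) - 1 = (-2 : K) • LinearMap.id := by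
          apply LinearMap.ext
          intro w
          obtain ⟨v, rfl⟩ := hsur w
          change z.1 (psi h m (g • v)) - psi h m (g • v) = (-2 : K) • psi h m (g • v)
          rw [hzA, ← hfv, h5, smul_neg', map_neg, neg_smul, two_smul]
          abel
        rw [h6, LinearMap.range_smul _ _ (neg_ne_zero.2 h2K), LinearMap.range_id, finrank_top, finrank_fin_fun] at hz2
        omega)
    rw [finrank_fin_fun] at h5
    rwa [Subgroup.index_comap_of_surjective _ e.symm.surjective] at h5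
  have hrel : (H.comap f).index ≤ H.relIndex (Subgroup.centralizer {x}) := by
    rw [Subgroup.index_comap]
    exact Subgroup.relIndex_le_of_le_right hle Subgroup.index_ne_zero_of_finite
  have h6 := hE _ le_rfl
  have h7 := (Nat.pow_le_pow_left (hidx.trans hrel) 5).trans_lt h6
  have h8 := Subgroup.index_mul_card (Subgroup.centralizer ({x} : Set (Matrix.symplecticGroup (Fin m) F)))
  have h9 := Cfsg.Agent.S0245.result (F := F) hq.symm m
  have h10 := Cfsg.Agent.S0277.result (F := K) h.card m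
  have h11 : (q ^ (m ^ 2 / 4)) ^ 5 * Nat.card (GU m K q) < Nat.card (Matrix.symplecticGroup (Fin m) F) := by
    rw [← h8]
    exact Nat.mul_lt_mul_of_lt_of_le h7 hcard Nat.card_pos
  rw [h9, h10] at h11
  refine absurd (h11.trans_le (card_le (by omega) m)) (not_lt.2 (Nat.mul_le_mul_right _ ?_))
  rw [← pow_mul]
  exact Nat.pow_le_pow_right (by omega) (exp_le hm)

end Cfsg.Agent.H353.IF.SpField
end

-- part: H716/IFO/PslOdd
section
prune_inst 0x1000190002000000008041001c025800042000088800008108000400a8000800002001000001400000000004000000000080000000000000000000010000000090040100a000020008000000000000000000000000000000000000010000000000000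
set_option linter.all false
open scoped Cfsg.Agent.FastGrp

-- part: H716/IFO/CasesB
section
/-!
# S5719, `|A|` odd, linear groups (helper716): field extension (`dim_E V ≥ 2`) and extraspecial cases
-/

set_option autoImplicit false
set_option linter.unusedSectionVars false

namespace Cfsg.Agent.H716.IFO
open Cfsg.Agent.H198.FC Cfsg.Agent.H716.FC Module

universe u v

variable {K : Type u} [Field K] {V : Type v} [AddCommGroup V] [Module K V]

/-- the centralizer of `A₀` in `PGL(V)` -/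
theorem cent_mem [Finite K] [Module.Finite K V] {A₀ : Subgroup (Equiv.Perm (R K V))} {r m : ℕ} (h : Dat A₀ r m)
    {x : (R K V)ˣ} (hx : ∀ f ∈ A₀, cj K V x * f = f * cj K V x) : cj K V x ∈ A₀ := by
  classical
  haveI := h.nontriv
  haveI : Finite (R K V) := finite_R
  haveI : Fintype A₀ := Fintype.ofFinite A₀
  obtain ⟨y, hy⟩ := h.exists_rep
  have h1 := h.expand hy (x : R K V)
  have h2 : ∃ α : A₀, LinearMap.trace K V ((x : R K V) * (((y α)⁻¹ : (R K V)ˣ) : R K V)) ≠ 0 := by
    by_contra hcon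
    push Not at hcon
    rw [Finset.sum_congr rfl fun (α : A₀) _ => by rw [hcon α, zero_smul], Finset.sum_const_zero] at h1
    exact h.n_ne_zero (smul_eq_zero_unit h1)
  obtain ⟨α, hα⟩ := h2
  set z : (R K V)ˣ := x * (y α)⁻¹ with hz
  have h3 : ∀ u ∈ Lf A₀, (z : R K V) * u = u * z := by
    intro u hu
    have h4 : cj K V z * cj K V u = cj K V u * cj K V z := by
      rw [hz, map_mul, map_inv, hy]
      have h5 := hx _ hu
      have h6 := h.hcomm _ α.2 _ hu
      have h7 : (α : Equiv.Perm (R K V))⁻¹ * cj K V u = cj K V u * (α : Equiv.Perm (R K V))⁻¹ := by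
        rw [inv_mul_eq_iff_eq_mul, ← mul_assoc, h6, mul_assoc, mul_inv_cancel, mul_one]
      rw [mul_assoc, h7, ← mul_assoc, h5, mul_assoc]
    obtain ⟨ε, hε⟩ := comm_sc h4
    have h5 : LinearMap.trace K V (((u⁻¹ : (R K V)ˣ) : R K V) * (z : R K V) * u) = LinearMap.trace K V (z : R K V) := by
      rw [LinearMap.trace_mul_comm, ← mul_assoc, Units.mul_inv, one_mul]
    have h6 : ((u⁻¹ : (R K V)ˣ) : R K V) * (z : R K V) * u = ε • (z : R K V) := by
      rw [mul_assoc, hε, mul_smul_comm, ← mul_assoc, Units.inv_mul, one_mul]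
    rw [h6, map_smul, smul_eq_mul] at h5
    have h7 : (ε - 1) * LinearMap.trace K V (z : R K V) = 0 := by linear_combination h5
    rcases mul_eq_zero.1 h7 with h8 | h8
    · rw [hε, sub_eq_zero.1 h8, one_smul]
    · exfalso
      apply hα
      rw [← h8, hz, Units.val_mul]
  obtain ⟨s, hs⟩ := h.sc_of_comm' h3
  have h8 : (x : R K V) = s • (y α : R K V) := by
    have h9 : (x : R K V) = (z : R K V) * (y α : R K V) := by
      rw [hz, Units.val_mul, mul_assoc, Units.inv_mul, mul_one]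
    rw [h9, hs, smul_mul_assoc, one_mul]
  rw [cj_eq_of' h8, hy]
  exact α.2

namespace Fr

variable {A S : Subgroup (Equiv.Perm (R K V))} [Finite K] [Module.Finite K V]

/-- the extraspecial case; `hinv` : an element of `SL(V)` of order 2 inverting `A₀` -/
theorem case_C6 {X : Subgroup (R K V)ˣ} (h : Fr X A S) {A₀ : Subgroup (Equiv.Perm (R K V))} {r m : ℕ}
    (hC : C6Data S A₀ r m)
    (hinv : r ≠ 2 → ∃ g : (R K V)ˣ, g * g = 1 ∧ cj K V g ∈ X.map (cj K V) ∧
      ∀ f ∈ A₀, cj K V g * f * (cj K V g)⁻¹ = f⁻¹) : False := by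
  haveI := h.nontriv
  have hD : Dat A₀ r m := Dat.of hC
  have hA₀S : A₀ ≤ S := hC.2.2.2.1
  have hnorm : ∀ g ∈ S, ∀ f ∈ A₀, g * f * g⁻¹ ∈ A₀ := hC.2.2.2.2.2.2.2.2.2.1
  have hmin := hC.2.2.2.2.2.2.2.2.2.2
  set T := X.map (cj K V) with hT
  let N : Subgroup (Equiv.Perm (R K V)) := Subgroup.normalizer (A₀ : Set (Equiv.Perm (R K V)))
  have hN : S ≤ N := by
    intro f hf
    rw [Subgroup.mem_normalizer_iff]
    intro x
    refine ⟨fun hx => hnorm f hf x hx, fun hx => ?_⟩
    have h1 := hnorm f⁻¹ (inv_mem hf) _ hx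
    have e : f⁻¹ * (f * x * f⁻¹) * f⁻¹⁻¹ = x := by group
    rwa [e] at h1
  -- an element of `T ∩ N` centralizes `A₀` if `A₀ ∩ T = 1`
  have key : A₀ ⊓ T = ⊥ → ∀ t ∈ T, t ∈ N → t = 1 := by
    intro h1 t ht htN
    have h2 : ∀ f ∈ A₀, t * f = f * t := by
      intro f hf
      have h3 : t * f * t⁻¹ * f⁻¹ ∈ A₀ := mul_mem ((Subgroup.mem_normalizer_iff.1 htN f).1 hf) (inv_mem hf)
      have h4 : t * f * t⁻¹ * f⁻¹ ∈ T := by
        have h5 : f * t⁻¹ * f⁻¹ ∈ T := h.invX f (hA₀S hf) _ (inv_mem ht)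
        have h6 := mul_mem ht h5
        have e : t * (f * t⁻¹ * f⁻¹) = t * f * t⁻¹ * f⁻¹ := by group
        rwa [e] at h6
      have h5 : t * f * t⁻¹ * f⁻¹ ∈ A₀ ⊓ T := ⟨h3, h4⟩
      rw [h1, Subgroup.mem_bot] at h5
      have h6 := congrArg (fun x => x * f * t) h5
      simp only [one_mul] at h6
      have e : t * f * t⁻¹ * f⁻¹ * f * t = t * f := by group
      rwa [e] at h6
    have h3 : t ∈ A₀ := by
      obtain ⟨x, hx, rfl⟩ := ht
      exact cent_mem hD h2
    have h4 : t ∈ A₀ ⊓ T := ⟨h3, ht⟩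
    rwa [h1, Subgroup.mem_bot] at h4
  have hA₀1 : A₀ ≠ ⊥ := by
    intro h1
    have h2 := hD.hcard
    rw [h1, Subgroup.card_bot] at h2
    have h3 := Nat.one_lt_pow (n := 2 * m) (by have := hD.ha; omega) hD.pr.one_lt
    omega
  rcases h.eq_or N hN with h1 | h1
  · rcases hmin (A₀ ⊓ T) inf_le_left (fun g hg f hf => ⟨hnorm g hg f hf.1, h.invX g hg f hf.2⟩) with h2 | h2
    · apply h.A1
      rw [Subgroup.eq_bot_iff_forall]
      intro a ha
      exact key h2 a (h.AX ha) (hN (h.AS ha))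
    · have hAT : A₀ ≤ T := by rw [← h2]; exact inf_le_right
      have hA₀A : A₀ ≤ A := by
        rw [← h1]
        exact le_inf hAT Subgroup.le_normalizer
      have hr : r ≠ 2 := by
        rintro rfl
        have h3 : Nat.card A₀ ∣ Nat.card A := Subgroup.card_dvd_of_le hA₀A
        rw [hD.hcard] at h3
        have h4 : 2 ∣ Nat.card A := (dvd_pow_self 2 (by have := hD.ha; omega)).trans h3
        exact (Nat.not_even_iff_odd.2 h.odd) (even_iff_two_dvd.2 h4)
      obtain ⟨g, hg, hgT, hgi⟩ := hinv hr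
      have hgA : cj K V g ∈ A := by
        rw [← h1]
        refine Subgroup.mem_inf.2 ⟨hgT, ?_⟩
        rw [Subgroup.mem_normalizer_iff]
        intro x
        constructor
        · intro hx
          rw [hgi x hx]
          exact inv_mem hx
        · intro hx
          have h3 := hgi _ hx
          have h4 : cj K V g * (cj K V g * x * (cj K V g)⁻¹) * (cj K V g)⁻¹ = x := by
            have h5 : cj K V g * cj K V g = 1 := by rw [← map_mul, hg, map_one]
            have h6 : (cj K V g)⁻¹ = cj K V g := inv_eq_of_mul_eq_one_left h5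
            rw [h6]
            calc cj K V g * (cj K V g * x * cj K V g) * cj K V g = (cj K V g * cj K V g) * x * (cj K V g * cj K V g) := by
                  group
              _ = x := by rw [h5]; simp
          rw [h4] at h3
          rw [h3]
          exact inv_mem hx
      have h3 : cj K V g = 1 := h.even_contra hgA 1 (by rw [pow_one, sq, ← map_mul, hg, map_one])
      apply hA₀1
      rw [Subgroup.eq_bot_iff_forall]
      intro f hf
      have h4 := hgi f hf
      rw [h3, one_mul, inv_one, mul_one] at h4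
      have h5 : f ^ 2 = 1 := by
        rw [sq]
        nth_rewrite 1 [h4]
        exact inv_mul_cancel f
      have h6 : f ^ r = 1 := hD.hpow f hf
      have h7 : Nat.Coprime 2 r := (Nat.coprime_primes Nat.prime_two hD.pr).2 (Ne.symm hr)
      have h8 := orderOf_dvd_of_pow_eq_one h5
      have h9 := orderOf_dvd_of_pow_eq_one h6
      exact orderOf_eq_one_iff.1 (Nat.eq_one_of_dvd_coprimes h7 h8 h9)
  · obtain ⟨x, hx, y, hy, hxy⟩ := h.nab
    rcases h.simple (A₀ ⊓ T) inf_le_right (fun t ht x hx =>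
      Subgroup.mem_inf.2 ⟨(Subgroup.mem_normalizer_iff.1 (h1 ht) x).1 hx.1,
        mul_mem (mul_mem ht hx.2) (inv_mem ht)⟩) with h2 | h2
    · apply hxy
      rw [key h2 x hx (h1 hx), key h2 y hy (h1 hy)]
    · apply hxy
      have h3 : ∀ t ∈ T, t ∈ A₀ := fun t ht => by
        have h5 : t ∈ A₀ ⊓ T := by rw [h2]; exact ht
        exact h5.1
      exact hD.hcomm x (h3 x hx) y (h3 y hy)

/-- the field extension case, `dim_E V ≥ 2` -/
theorem case_C3 (h : Fr (SLX K V) A S) (E : Subalgebra K (R K V)) (hE : IsField E) (h2 : 2 ≤ finrank K E)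
    (hSE : ∀ f ∈ S, ∀ X ∈ E, f X ∈ E) (hne : finrank K E ≠ finrank K V) : False := by
  haveI := h.nontriv
  letI : Field E := hE.toField
  haveI : IsScalarTower K E V := ⟨fun a X v => by
    change (a • (X : R K V)) v = a • ((X : R K V) v)
    rfl⟩
  haveI : Module.Finite K E := inferInstance
  haveI : Module.Finite E V := Module.Finite.of_restrictScalars_finite K E V
  have hmul := Module.finrank_mul_finrank K E V
  have hm : 2 ≤ finrank E V := by
    have h1 : finrank E V ≠ 0 := by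
      intro h1
      rw [h1, mul_zero] at hmul
      have := h.hn
      omega
    have h3 : finrank E V ≠ 1 := by
      intro h3
      rw [h3, mul_one] at hmul
      exact hne hmul
    omega
  let b := Module.finBasis E V
  let i0 : Fin (finrank E V) := ⟨0, by omega⟩
  let i1 : Fin (finrank E V) := ⟨1, by omega⟩
  have h01 : i0 ≠ i1 := by
    intro h1
    have h2 : (0 : ℕ) = 1 := congrArg Fin.val h1
    omega
  let a0 : V →ₗ[E] V := (b.coord i0).smulRight (b i1)
  let b0 : V →ₗ[E] V := (b.coord i1).smulRight (b i0)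
  let a : R K V := a0.restrictScalars K
  let c : R K V := b0.restrictScalars K
  have hc1 : b.coord i0 (b i1) = 0 := by
    rw [Module.Basis.coord_apply, Module.Basis.repr_self, Finsupp.single_eq_of_ne h01]
  have hc2 : b.coord i1 (b i0) = 0 := by
    rw [Module.Basis.coord_apply, Module.Basis.repr_self, Finsupp.single_eq_of_ne h01.symm]
  have hc3 : ∀ i, b.coord i (b i) = 1 := by
    intro i
    rw [Module.Basis.coord_apply, Module.Basis.repr_self, Finsupp.single_eq_same]
  have ha : ∀ v, a v = b.coord i0 v • b i1 := fun v => rfl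
  have hcc : ∀ v, c v = b.coord i1 v • b i0 := fun v => rfl
  have haa : a * a = 0 := by
    ext v
    rw [Module.End.mul_apply, ha v, ha, map_smul, hc1, smul_zero, zero_smul]
    rfl
  have hbb : c * c = 0 := by
    ext v
    rw [Module.End.mul_apply, hcc v, hcc, map_smul, hc2, smul_zero, zero_smul]
    rfl
  have haE : ∀ (s : E) v, a (s • v) = s • a v := a0.map_smul
  have hcE : ∀ (s : E) v, c (s • v) = s • c v := b0.map_smul
  have ha1 : a (b i0) = b i1 := by rw [ha, hc3, one_smul]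
  have hc4 : c (b i1) = b i0 := by rw [hcc, hc3, one_smul]
  have haba : a * c * a = a := by
    ext v
    rw [Module.End.mul_apply, Module.End.mul_apply, ha v, hcE, hc4, haE, ha1]
  have hbab : c * a * c = c := by
    ext v
    rw [Module.End.mul_apply, Module.End.mul_apply, hcc v, haE, ha1, hcE, hc4]
  have ha0 : a ≠ 0 := by
    intro h1
    have h3 := ha (b i0)
    rw [h1, hc3, one_smul] at h3
    exact b.ne_zero i1 h3.symm
  obtain ⟨x, hx, hxi, hx1, hx4, hxc⟩ := exists_J haa hbb haba hbab ha0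
  have hlin : ∀ (g : V →ₗ[E] V) (Y : R K V), Y ∈ E → (g.restrictScalars K : R K V) * Y = Y * g.restrictScalars K := by
    intro g Y hY
    ext v
    exact g.map_smul (⟨Y, hY⟩ : E) v
  have hcom : ∀ Y ∈ E, (x : R K V) * Y = Y * x := by
    intro Y hY
    have e1 : a * Y = Y * a := hlin a0 Y hY
    have e2 : c * Y = Y * c := hlin b0 Y hY
    have e3 : a * c * Y = Y * (a * c) := by rw [mul_assoc, e2, ← mul_assoc, e1, mul_assoc]
    have e4 : c * a * Y = Y * (c * a) := by rw [mul_assoc, e1, ← mul_assoc, e2, mul_assoc]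
    rw [hx]
    simp only [mul_sub, mul_add, sub_mul, add_mul, one_mul, mul_one]
    rw [e1, e2, e3, e4]
  have hN : S ≤ StS (E : Set (R K V)) := fun f hf => mem_StS_of fun Y hY => hSE f hf Y hY
  have hJ : cj K V x ∈ StS (E : Set (R K V)) := by
    apply mem_StS_of
    intro Y hY
    rw [cj_apply, hcom Y hY, mul_assoc, Units.mul_inv, mul_one]
    exact hY
  have h3 := h.le_of_even (StS (E : Set (R K V))) hN (cj_mem hx1) hJ 2
    (by rw [show (2 : ℕ) ^ 2 = 4 from rfl, ← map_pow, hx4, map_one]) hxc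
  have h4 := h.sc_of_StS (E : Set (R K V)) h3 hx1 hxc hcom
  have h5 : E = ⊥ := by
    rw [eq_bot_iff]
    intro Y hY
    obtain ⟨s, hs⟩ := h4 Y hY
    rw [Algebra.mem_bot]
    exact ⟨s, by rw [hs, Algebra.algebraMap_eq_smul_one]⟩
  rw [h5, Subalgebra.finrank_bot] at h2
  omega

end Fr

end Cfsg.Agent.H716.IFO
end

-- part: H716/IFO/PslFr
section
/-!
# S5719, `PSL_n(q)`, `|A|` odd: the frame (helper716)

`emb : PSL_n(F) → Perm (End V)`, `V = F^n`, and `SL Γ` the group of the ring (anti)automorphisms of `End V` inducing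
elements of `Γ`.
-/

set_option autoImplicit false
set_option linter.unusedSectionVars false

namespace Cfsg.Agent.H716.IFO

open Matrix Subgroup Cfsg.Agent.H198.FC Cfsg.Agent.H199.PslAut Cfsg.Agent.H602.FC Cfsg.Agent.H209.Fxy
open Cfsg.Agent.ClassicalGeometry.AutPSL.Root (pr pr_surjective)

variable {n : ℕ} {F : Type} [Field F]

/-- conjugation by `s` -/
noncomputable def cps : SpecialLinearGroup (Fin n) F →* Equiv.Perm (R F (H602.FC.V n F)) :=
  (H198.FC.cj F (H602.FC.V n F)).comp ((U n F).comp SpecialLinearGroup.toGL)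

theorem cps_apply (s : SpecialLinearGroup (Fin n) F) :
    cps s = H198.FC.cj F (H602.FC.V n F) (U n F (s : GL (Fin n) F)) := rfl

theorem pair_cps (s : SpecialLinearGroup (Fin n) F) : ((cps s, MulAut.conj (pr s)) : GG n F) ∈ HH n F := by
  have h : ((cps s, MulAut.conj (pr s)) : GG n F) = H602.FC.A n F (s : GL (Fin n) F) :=
    Prod.ext rfl (Psi_coe s).symm
  rw [h]
  exact H602.FC.A_mem _

theorem eqL_of_fst {f : Equiv.Perm (R F (H602.FC.V n F))} {σ τ : MulAut (ProjectiveSpecialLinearGroup (Fin n) F)}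
    (h : ((f, σ) : GG n F) ∈ HH n F) (h' : ((f, τ) : GG n F) ∈ HH n F) : σ = τ := by
  have h1 : ((f, σ) : GG n F)⁻¹ * (f, τ) ∈ HH n F := mul_mem (inv_mem h) h'
  have h2 := eq_one_of_fst h1 (by
    change f⁻¹ * f = 1
    exact inv_mul_cancel f)
  have h3 : σ⁻¹ * τ = 1 := congrArg Prod.snd h2
  exact (inv_mul_eq_one.1 h3)

theorem eqL_of_snd (hn : 2 ≤ n) {f g : Equiv.Perm (R F (H602.FC.V n F))}
    {σ : MulAut (ProjectiveSpecialLinearGroup (Fin n) F)}
    (h : ((f, σ) : GG n F) ∈ HH n F) (h' : ((g, σ) : GG n F) ∈ HH n F) : f = g := by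
  have h1 : ((f, σ) : GG n F)⁻¹ * (g, σ) ∈ HH n F := mul_mem (inv_mem h) h'
  have h2 := eq_one_of_snd hn h1 (by
    change σ⁻¹ * σ = 1
    exact inv_mul_cancel σ)
  have h3 : f⁻¹ * g = 1 := congrArg Prod.fst h2
  exact (inv_mul_eq_one.1 h3)

theorem cps_eq_one (hn : 2 ≤ n) {s : SpecialLinearGroup (Fin n) F} (h : pr s = 1) : cps s = 1 := by
  refine eqL_of_snd hn (σ := 1) ?_ (one_mem _)
  have h1 := pair_cps s
  rwa [h, map_one] at h1

variable (n F) in
/-- `PSL_n(F)` in `Perm (End V)` -/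
noncomputable def emb (hn : 2 ≤ n) : ProjectiveSpecialLinearGroup (Fin n) F →* Equiv.Perm (R F (H602.FC.V n F)) :=
  QuotientGroup.lift (Subgroup.center (SpecialLinearGroup (Fin n) F)) cps fun s hs => by
    apply cps_eq_one hn
    exact (Cfsg.Agent.ClassicalGeometry.AutPSL.Root.pr_eq_one_iff s).2 hs

theorem emb_pr (hn : 2 ≤ n) (s : SpecialLinearGroup (Fin n) F) : emb n F hn (pr s) = cps s := rfl

theorem pair_emb (hn : 2 ≤ n) (t : ProjectiveSpecialLinearGroup (Fin n) F) :
    ((emb n F hn t, MulAut.conj t) : GG n F) ∈ HH n F := by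
  obtain ⟨s, rfl⟩ := pr_surjective t
  rw [emb_pr]
  exact pair_cps s

/-- **conjugation by the elements of the frame** -/
theorem conj_emb (hn : 2 ≤ n) {f : Equiv.Perm (R F (H602.FC.V n F))}
    {σ : MulAut (ProjectiveSpecialLinearGroup (Fin n) F)}
    (h : ((f, σ) : GG n F) ∈ HH n F) (t : ProjectiveSpecialLinearGroup (Fin n) F) :
    f * emb n F hn t * f⁻¹ = emb n F hn (σ t) := by
  refine eqL_of_snd hn (σ := MulAut.conj (σ t)) ?_ (pair_emb hn (σ t))
  have h1 : ((f, σ) : GG n F) * (emb n F hn t, MulAut.conj t) * (f, σ)⁻¹ ∈ HH n F :=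
    mul_mem (mul_mem h (pair_emb hn t)) (inv_mem h)
  have h2 : σ * MulAut.conj t * σ⁻¹ = MulAut.conj (σ t) := by
    ext x
    simp only [MulAut.mul_apply, MulAut.conj_apply, map_mul, map_inv, MulAut.apply_inv_self]
  have h3 : ((f, σ) : GG n F) * (emb n F hn t, MulAut.conj t) * (f, σ)⁻¹ =
      (f * emb n F hn t * f⁻¹, MulAut.conj (σ t)) := Prod.ext rfl h2
  rwa [h3] at h1

/-- the range of `emb` -/
theorem emb_range (hn : 2 ≤ n) : (emb n F hn).range = (SLX F (H602.FC.V n F)).map (H198.FC.cj F (H602.FC.V n F)) := by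
  ext f
  constructor
  · rintro ⟨t, rfl⟩
    obtain ⟨s, rfl⟩ := pr_surjective t
    refine ⟨U n F (s : GL (Fin n) F), ?_, rfl⟩
    rw [SetLike.mem_coe, mem_SLX, coe_U]
    have h1 := LinearMap.det_toLin' (s : Matrix (Fin n) (Fin n) F)
    rw [s.2] at h1
    exact h1
  · rintro ⟨x, hx, rfl⟩
    rw [SetLike.mem_coe, mem_SLX] at hx
    have hd : ((E n F).symm (x : R F (H602.FC.V n F))).det = 1 :=
      (LinearMap.det_toMatrix' (x : R F (H602.FC.V n F))).trans hx
    let s : SpecialLinearGroup (Fin n) F := ⟨(E n F).symm (x : R F (H602.FC.V n F)), hd⟩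
    have hs : U n F (s : GL (Fin n) F) = x := by
      apply Units.ext
      rw [coe_U]
      exact (E n F).apply_symm_apply _
    refine ⟨pr s, ?_⟩
    rw [emb_pr, cps_apply, hs]

variable (Γ : Subgroup (MulAut (ProjectiveSpecialLinearGroup (Fin n) F)))

/-- the group of the ring (anti)automorphisms inducing elements of `Γ` -/
noncomputable def SL : Subgroup (Equiv.Perm (R F (H602.FC.V n F))) :=
  (HH n F ⊓ Γ.comap (MonoidHom.snd _ _)).map (MonoidHom.fst _ _)

variable {Γ}

theorem mem_SL {f : Equiv.Perm (R F (H602.FC.V n F))} :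
    f ∈ SL Γ ↔ ∃ σ ∈ Γ, ((f, σ) : GG n F) ∈ HH n F := by
  constructor
  · rintro ⟨p, ⟨hp, hp2⟩, rfl⟩
    exact ⟨p.2, hp2, hp⟩
  · rintro ⟨σ, hσ, h⟩
    exact ⟨(f, σ), ⟨h, hσ⟩, rfl⟩

theorem SL_le [Fintype F] : SL Γ ≤ RA F (H602.FC.V n F) := by
  intro f hf
  obtain ⟨σ, -, h⟩ := mem_SL.1 hf
  exact fst_mem h

theorem SL_solvable (hn : 2 ≤ n) (hΓ : Group.IsSolvable Γ) : Group.IsSolvable (SL Γ) := by
  have hT : Group.IsSolvable (HH n F ⊓ Γ.comap (MonoidHom.snd _ _) : Subgroup (GG n F)) := by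
    let f : (HH n F ⊓ Γ.comap (MonoidHom.snd _ _) : Subgroup (GG n F)) →* Γ :=
      ((MonoidHom.snd (Equiv.Perm (R F (H602.FC.V n F))) (MulAut (ProjectiveSpecialLinearGroup (Fin n) F))).comp
        (Subgroup.subtype (HH n F ⊓ Γ.comap (MonoidHom.snd _ _)))).codRestrict Γ fun p => p.2.2
    have hf : Function.Injective f := by
      rw [injective_iff_map_eq_one]
      intro p hp
      apply Subtype.ext
      exact eq_one_of_snd hn p.2.1 (congrArg Subtype.val hp)
    exact Group.isSolvable_of_isSolvable_injective hf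
  exact Group.isSolvable_of_surjective (MonoidHom.subgroupMap_surjective
    (MonoidHom.fst (Equiv.Perm (R F (H602.FC.V n F))) (MulAut (ProjectiveSpecialLinearGroup (Fin n) F)))
      (HH n F ⊓ Γ.comap (MonoidHom.snd _ _)))

theorem emb_inj (hn : 2 ≤ n) [IsSimpleGroup (ProjectiveSpecialLinearGroup (Fin n) F)]
    {A : Subgroup (ProjectiveSpecialLinearGroup (Fin n) F)} (h : IF A Γ) : Function.Injective (emb n F hn) := by
  rw [injective_iff_map_eq_one]
  intro t ht
  have h1 := pair_emb hn t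
  rw [ht] at h1
  have h2 : MulAut.conj t = 1 := eqL_of_fst h1 (one_mem _)
  apply H574.IFO.center_bot h
  intro y
  have h3 := DFunLike.congr_fun h2 y
  rw [MulAut.conj_apply, MulAut.one_apply] at h3
  exact mul_inv_eq_iff_eq_mul.1 h3

theorem emb_mem (hn : 2 ≤ n) {A : Subgroup (ProjectiveSpecialLinearGroup (Fin n) F)} (h : IF A Γ)
    {t : ProjectiveSpecialLinearGroup (Fin n) F} : emb n F hn t ∈ SL Γ ↔ t ∈ A := by
  rw [mem_SL]
  constructor
  · rintro ⟨σ, hσ, h1⟩
    have h2 := eqL_of_fst h1 (pair_emb hn t)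
    rw [h2] at hσ
    exact (h.conj _).1 hσ
  · intro hs
    exact ⟨_, (h.conj _).2 hs, pair_emb hn t⟩

/-- **The frame.** -/
theorem fr_psl [Fintype F] (hn : 3 ≤ n) [IsSimpleGroup (ProjectiveSpecialLinearGroup (Fin n) F)]
    {A : Subgroup (ProjectiveSpecialLinearGroup (Fin n) F)} (h : IF A Γ) (hodd : Odd (Nat.card A)) :
    Fr (SLX F (H602.FC.V n F)) (A.map (emb n F (by omega))) (SL Γ) := by
  have hn2 : 2 ≤ n := by omega
  have hinj := emb_inj hn2 h
  have hfin : Finite (ProjectiveSpecialLinearGroup (Fin n) F) := Quotient.finite _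
  have hran := emb_range (F := F) hn2
  have hmapinj : Function.Injective (Subgroup.map (emb n F hn2)) := Subgroup.map_injective hinj
  have hsub : ∀ B : Subgroup (Equiv.Perm (R F (H602.FC.V n F))), B ≤ (emb n F hn2).range →
      (B.comap (emb n F hn2)).map (emb n F hn2) = B := by
    intro B hB
    rw [Subgroup.map_comap_eq]
    exact inf_eq_right.2 hB
  refine ⟨by simpa only [H602.FC.V, _root_.Cfsg.Agent.H602.FC.V, _root_.Module.finrank_fintype_fun_eq_card, _root_.Fintype.card_fin] using hn, SL_le, SL_solvable hn2 (H574.IFO.solvable (Schreier.ClassPSL.sch hn2) h hodd),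
    ?_, ?_, ?_, ?_, ?_, ?_, ?_, ?_, ?_⟩
  · rw [← hran, MonoidHom.range_eq_map]
    exact Subgroup.map_mono le_top
  · rintro _ ⟨a, ha, rfl⟩
    exact (emb_mem hn2 h).2 ha
  · intro h1
    apply h.ne_bot
    apply hmapinj
    rw [h1, Subgroup.map_bot]
  · intro h1
    rw [← hran, MonoidHom.range_eq_map] at h1
    exact h.ne_top (hmapinj h1)
  · intro f hf x hx
    rw [← hran] at hx ⊢
    obtain ⟨t, rfl⟩ := hx
    obtain ⟨σ, -, hp⟩ := mem_SL.1 hf
    rw [conj_emb hn2 hp]
    exact ⟨_, rfl⟩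
  · intro B hAB hB hinv
    rw [← hran] at hB ⊢
    rcases h.max (B.comap (emb n F hn2)) (fun a ha => hAB ⟨a, ha, rfl⟩) (fun σ hσ b hb => by
      obtain ⟨p, hp, hp2⟩ := exists_pair hn2 σ
      have h1 : ((p.1, σ) : GG n F) ∈ HH n F := by rw [← hp2]; exact hp
      rw [Subgroup.mem_comap, ← conj_emb hn2 h1]
      exact hinv _ (mem_SL.2 ⟨σ, hσ, h1⟩) _ hb) with h1 | h1
    · left
      rw [← h1, hsub B hB]
    · right
      rw [← hsub B hB, h1, MonoidHom.range_eq_map]
  · rw [Subgroup.card_map_of_injective hinj]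
    exact hodd
  · intro N hN hnorm
    rw [← hran] at hN hnorm ⊢
    have h1 : (N.comap (emb n F hn2)).Normal := ⟨fun x hx t => by
      rw [Subgroup.mem_comap, map_mul, map_mul, map_inv]
      exact hnorm _ ⟨t, rfl⟩ _ hx⟩
    rcases h1.eq_bot_or_eq_top with h2 | h2
    · left
      rw [← hsub N hN, h2, Subgroup.map_bot]
    · right
      rw [← hsub N hN, h2, MonoidHom.range_eq_map]
  · obtain ⟨x, y, hxy⟩ := H574.IFO.not_comm h
    rw [← hran]
    refine ⟨emb n F hn2 x, ⟨x, rfl⟩, emb n F hn2 y, ⟨y, rfl⟩, fun h1 => hxy ?_⟩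
    apply hinj
    rw [map_mul, map_mul, h1]

/-- fixed elements -/
theorem card_fix (hn : 2 ≤ n) [IsSimpleGroup (ProjectiveSpecialLinearGroup (Fin n) F)]
    {A : Subgroup (ProjectiveSpecialLinearGroup (Fin n) F)} (h : IF A Γ)
    {f : Equiv.Perm (R F (H602.FC.V n F))} {σ : MulAut (ProjectiveSpecialLinearGroup (Fin n) F)}
    (hf : ((f, σ) : GG n F) ∈ HH n F) :
    Nat.card {a // a ∈ A ∧ σ a = a} = Nat.card {a // a ∈ A.map (emb n F hn) ∧ f * a = a * f} := by
  have hinj := emb_inj hn h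
  have key : ∀ a : ProjectiveSpecialLinearGroup (Fin n) F, σ a = a ↔ f * emb n F hn a = emb n F hn a * f := by
    intro a
    have h1 := conj_emb hn hf a
    constructor
    · intro h2
      rw [h2] at h1
      exact mul_inv_eq_iff_eq_mul.1 h1
    · intro h2
      apply hinj
      rw [← h1, h2, mul_assoc, mul_inv_cancel, mul_one]
  refine Nat.card_congr (Equiv.ofBijective (fun a => ⟨emb n F hn a.1, ⟨a.1, a.2.1, rfl⟩, (key _).1 a.2.2⟩) ⟨?_, ?_⟩)
  · intro a b hab
    apply Subtype.ext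
    apply hinj
    exact congrArg Subtype.val hab
  · rintro ⟨_, ⟨a, ha, rfl⟩, hc⟩
    exact ⟨⟨a, ha, (key a).2 hc⟩, rfl⟩

theorem card_A (hn : 2 ≤ n) [IsSimpleGroup (ProjectiveSpecialLinearGroup (Fin n) F)]
    {A : Subgroup (ProjectiveSpecialLinearGroup (Fin n) F)} (h : IF A Γ) :
    Nat.card (A.map (emb n F hn)) = Nat.card A := Subgroup.card_map_of_injective (emb_inj hn h)

end Cfsg.Agent.H716.IFO
end

-- part: H716/IFO/PslPair
section
/-!
# S5719, `PSL_n(q)`, `|A|` odd: the ring (anti)automorphisms inducing graph, field and graph-field automorphisms (helper716)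
-/

set_option autoImplicit false
set_option linter.unusedSectionVars false

namespace Cfsg.Agent.H716.IFO

open Matrix Subgroup Cfsg.Agent.H198.FC Cfsg.Agent.H199.PslAut Cfsg.Agent.H602.FC Cfsg.Agent.H209.Fxy
open Cfsg.Agent.ClassicalGeometry.AutPSL.Root (pr pr_surjective)

variable {n : ℕ} {F : Type} [Field F]

theorem semA (g : GL (Fin n) F) (s : F) (X : R F (H602.FC.V n F)) :
    H198.FC.cj F (H602.FC.V n F) (U n F g) (s • X) = s • H198.FC.cj F (H602.FC.V n F) (U n F g) X := by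
  rw [cj_apply, cj_apply, mul_smul_comm, smul_mul_assoc]

theorem semB (τ : F ≃+* F) (s : F) (X : R F (H602.FC.V n F)) :
    fm n F τ (s • X) = τ s • fm n F τ X := by
  obtain ⟨M, rfl⟩ := (E n F).surjective X
  rw [← map_smul, fm_E, fm_E, ← map_smul]
  congr 1
  ext i j
  simp

theorem semC (s : F) (X : R F (H602.FC.V n F)) : tm n F (s • X) = s • tm n F X := by
  obtain ⟨M, rfl⟩ := (E n F).surjective X
  rw [← map_smul, tm_E, tm_E, ← map_smul]
  rfl

theorem antC (X Y : R F (H602.FC.V n F)) : tm n F (X * Y) = tm n F Y * tm n F X := by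
  obtain ⟨M, rfl⟩ := (E n F).surjective X
  obtain ⟨N, rfl⟩ := (E n F).surjective Y
  rw [← map_mul, tm_E, tm_E, tm_E, ← map_mul, transpose_mul]

/-- the action on the scalars -/
theorem exists_sem {p : GG n F} (hp : p ∈ HH n F) : ∃ ρ : F ≃+* F, ∀ (s : F) X, p.1 (s • X) = ρ s • p.1 X := by
  rcases hp with ⟨g, σ, rfl⟩ | ⟨-, g, σ, rfl⟩
  · refine ⟨σ, fun s X => ?_⟩
    change H198.FC.cj F (H602.FC.V n F) (U n F g) (fm n F σ (s • X)) =
      σ s • H198.FC.cj F (H602.FC.V n F) (U n F g) (fm n F σ X)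
    rw [semB, semA]
  · refine ⟨σ, fun s X => ?_⟩
    change H198.FC.cj F (H602.FC.V n F) (U n F g) (fm n F σ (tm n F (s • X))) =
      σ s • H198.FC.cj F (H602.FC.V n F) (U n F g) (fm n F σ (tm n F X))
    rw [semC, semB, semA]

/-- a conjugate -/
theorem sem_conj {κ f : Equiv.Perm (R F (H602.FC.V n F))} {ρ τ : F ≃+* F} (hκ : ∀ (s : F) X, κ (s • X) = ρ s • κ X)
    (hf : ∀ (s : F) X, f (s • X) = τ s • f X) (s : F) (X : R F (H602.FC.V n F)) :
    (κ⁻¹ * f * κ) (s • X) = (ρ.symm (τ (ρ s))) • (κ⁻¹ * f * κ) X := by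
  change κ⁻¹ (f (κ (s • X))) = (ρ.symm (τ (ρ s))) • κ⁻¹ (f (κ X))
  apply κ.injective
  rw [hκ, hκ, hf, RingEquiv.apply_symm_apply]
  have h1 : ∀ Z, κ (κ⁻¹ Z) = Z := κ.apply_symm_apply
  rw [h1, h1]

theorem mul_conj {κ f : Equiv.Perm (R F (H602.FC.V n F))} (hκ : κ ∈ RA F (H602.FC.V n F))
    (hf : ∀ X Y, f (X * Y) = f X * f Y) (X Y : R F (H602.FC.V n F)) :
    (κ⁻¹ * f * κ) (X * Y) = (κ⁻¹ * f * κ) X * (κ⁻¹ * f * κ) Y := by
  change κ⁻¹ (f (κ (X * Y))) = κ⁻¹ (f (κ X)) * κ⁻¹ (f (κ Y))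
  have h1 : ∀ Z, κ (κ⁻¹ Z) = Z := κ.apply_symm_apply
  apply κ.injective
  rcases hκ.2 with h2 | h2
  · rw [h1, h2, h2, hf, h1, h1]
  · rw [h1, h2, h2, hf, h1, h1]

theorem ant_conj {κ f : Equiv.Perm (R F (H602.FC.V n F))} (hκ : κ ∈ RA F (H602.FC.V n F))
    (hf : ∀ X Y, f (X * Y) = f Y * f X) (X Y : R F (H602.FC.V n F)) :
    (κ⁻¹ * f * κ) (X * Y) = (κ⁻¹ * f * κ) Y * (κ⁻¹ * f * κ) X := by
  change κ⁻¹ (f (κ (X * Y))) = κ⁻¹ (f (κ Y)) * κ⁻¹ (f (κ X))
  have h1 : ∀ Z, κ (κ⁻¹ Z) = Z := κ.apply_symm_apply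
  apply κ.injective
  rcases hκ.2 with h2 | h2
  · rw [h1, h2, h2, hf, h1, h1]
  · rw [h1, h2, h2, hf, h1, h1]

/-- graph automorphisms -/
theorem pair_graph (hn : 3 ≤ n) {σ : MulAut (ProjectiveSpecialLinearGroup (Fin n) F)} (hcl : IsGraphAutClassPSL σ) :
    ∃ f : Equiv.Perm (R F (H602.FC.V n F)), ((f, σ) : GG n F) ∈ HH n F ∧ (∀ (s : F) X, f (s • X) = s • f X) ∧
      ∀ X Y, f (X * Y) = f Y * f X := by
  obtain ⟨-, δ, γ, hδ, hγ, rfl⟩ := hcl
  obtain ⟨g, rfl⟩ := (innerDiag_iff δ).1 hδ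
  obtain rfl := (invTr_iff γ).1 hγ
  refine ⟨(H602.FC.A n F g * B n F 1 * C n F).1, ?_, fun s X => ?_, fun X Y => ?_⟩
  · have h1 : (((H602.FC.A n F g * B n F 1 * C n F).1, Psi n F g * iot n F) : GG n F) =
        H602.FC.A n F g * B n F 1 * C n F := by
      refine Prod.ext rfl ?_
      change Psi n F g * iot n F = Psi n F g * phi n F 1 * iot n F
      rw [map_one, mul_one]
    rw [h1]
    exact Or.inr ⟨hn, g, 1, rfl⟩
  · rw [map_one, mul_one]
    change H198.FC.cj F (H602.FC.V n F) (U n F g) (tm n F (s • X)) =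
      s • H198.FC.cj F (H602.FC.V n F) (U n F g) (tm n F X)
    rw [semC, semA]
  · rw [map_one, mul_one]
    change H198.FC.cj F (H602.FC.V n F) (U n F g) (tm n F (X * Y)) =
      H198.FC.cj F (H602.FC.V n F) (U n F g) (tm n F Y) * H198.FC.cj F (H602.FC.V n F) (U n F g) (tm n F X)
    rw [antC, (cj_mem_RP _).2]

variable [Fintype F]

theorem conj_ne {ρ τ : F ≃+* F} (hτ : τ ≠ RingEquiv.refl F) : ∃ s, (ρ.trans (τ.trans ρ.symm)) s ≠ s := by
  by_contra hcon
  push Not at hcon
  apply hτ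
  ext s
  have h1 := hcon (ρ.symm s)
  change ρ.symm (τ (ρ (ρ.symm s))) = ρ.symm s at h1
  rw [RingEquiv.apply_symm_apply] at h1
  exact ρ.symm.injective h1

/-- field automorphisms -/
theorem pair_field (hn : 3 ≤ n) {σ : MulAut (ProjectiveSpecialLinearGroup (Fin n) F)} (hcl : IsFieldAutClassPSL σ) :
    ∃ (f : Equiv.Perm (R F (H602.FC.V n F))) (τ : F ≃+* F), ((f, σ) : GG n F) ∈ HH n F ∧ (∃ s, τ s ≠ s) ∧
      (∀ (s : F) X, f (s • X) = τ s • f X) ∧ ∀ X Y, f (X * Y) = f X * f Y := by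
  obtain ⟨α, τ, hτ, hstd⟩ := hcl
  have h0 := (std_iff τ _).1 hstd
  obtain ⟨p, hp, hpα⟩ := exists_pair (by omega : 2 ≤ n) α
  obtain ⟨ρ, hρ⟩ := exists_sem hp
  have hB : B n F τ ∈ HH n F := Or.inl ⟨1, τ, by rw [map_one, one_mul]⟩
  refine ⟨p.1⁻¹ * fm n F τ * p.1, ρ.trans (τ.trans ρ.symm), ?_, conj_ne hτ, sem_conj hρ (semB τ),
    mul_conj (fst_mem hp) (fm_mem τ).2⟩
  have h1 : ((p.1⁻¹ * fm n F τ * p.1, σ) : GG n F) = p⁻¹ * B n F τ * p := by
    refine Prod.ext rfl ?_
    change σ = p.2⁻¹ * phi n F τ * p.2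
    rw [← h0, hpα]
    group
  rw [h1]
  exact mul_mem (mul_mem (inv_mem hp) hB) hp

/-- graph-field automorphisms -/
theorem pair_gf (hn : 3 ≤ n) {σ : MulAut (ProjectiveSpecialLinearGroup (Fin n) F)} (hcl : IsGraphFieldAutClassPSL σ) :
    ∃ (f : Equiv.Perm (R F (H602.FC.V n F))) (τ : F ≃+* F), ((f, σ) : GG n F) ∈ HH n F ∧ (∃ s, τ s ≠ s) ∧
      (∀ (s : F) X, f (s • X) = τ s • f X) ∧ ∀ X Y, f (X * Y) = f Y * f X := by
  obtain ⟨-, α, φ, γ, τ, hτ, hstd, hγ, h0⟩ := hcl
  have h2 := (std_iff τ _).1 hstd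
  have h3 := (invTr_iff γ).1 hγ
  rw [h2, h3] at h0
  obtain ⟨p, hp, hpα⟩ := exists_pair (by omega : 2 ≤ n) α
  obtain ⟨ρ, hρ⟩ := exists_sem hp
  have hB : B n F τ * C n F ∈ HH n F := Or.inr ⟨hn, 1, τ, by rw [map_one, one_mul]⟩
  refine ⟨p.1⁻¹ * (fm n F τ * tm n F) * p.1, ρ.trans (τ.trans ρ.symm), ?_, conj_ne hτ, sem_conj hρ (τ := τ) ?_,
    ant_conj (fst_mem hp) ?_⟩
  · have h1 : ((p.1⁻¹ * (fm n F τ * tm n F) * p.1, σ) : GG n F) = p⁻¹ * (B n F τ * C n F) * p := by
      refine Prod.ext rfl ?_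
      change σ = p.2⁻¹ * (phi n F τ * iot n F) * p.2
      rw [← h0, hpα]
      group
    rw [h1]
    exact mul_mem (mul_mem (inv_mem hp) hB) hp
  · intro s X
    change fm n F τ (tm n F (s • X)) = τ s • fm n F τ (tm n F X)
    rw [semC, semB]
  · intro X Y
    change fm n F τ (tm n F (X * Y)) = fm n F τ (tm n F Y) * fm n F τ (tm n F X)
    rw [antC, (fm_mem τ).2]

/-- `f` is an involution -/
theorem pair_sq (hn : 2 ≤ n) {f : Equiv.Perm (R F (H602.FC.V n F))}
    {σ : MulAut (ProjectiveSpecialLinearGroup (Fin n) F)} (hf : ((f, σ) : GG n F) ∈ HH n F) (ho : orderOf σ = 2) :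
    f * f = 1 := by
  have h1 : ((f, σ) : GG n F) * (f, σ) ∈ HH n F := mul_mem hf hf
  have h2 : σ * σ = 1 := by rw [← pow_two, ← ho, pow_orderOf_eq_one]
  exact congrArg Prod.fst (eq_one_of_snd hn h1 h2)

/-- an involutory automorphism of a finite field -/
theorem exists_q0 {τ : F ≃+* F} (hτ : ∃ s, τ s ≠ s) (h2 : ∀ s, τ (τ s) = s) : ∃ q0 : ℕ, Fintype.card F = q0 ^ 2 := by
  have h3 : orderOf τ = 2 := by
    refine orderOf_eq_prime ?_ ?_
    · rw [pow_two]
      ext s
      exact h2 s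
    · rintro rfl
      obtain ⟨s, hs⟩ := hτ
      exact hs rfl
  let G := Subgroup.zpowers τ
  haveI : Finite (F ≃+* F) := Finite.of_injective (fun f : F ≃+* F => (f : F → F)) DFunLike.coe_injective
  haveI : Fintype G := Fintype.ofFinite G
  have h4 : Module.finrank (FixedPoints.subfield G F) F = 2 := by
    rw [FixedPoints.finrank_eq_card, ← Nat.card_eq_fintype_card, Nat.card_zpowers, h3]
  haveI : Fintype (FixedPoints.subfield G F) := Fintype.ofFinite _
  refine ⟨Fintype.card (FixedPoints.subfield G F), ?_⟩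
  rw [← h4]
  exact Module.card_eq_pow_finrank

theorem tau_sq (hn : 2 ≤ n) {τ : F ≃+* F} {f : Equiv.Perm (R F (H602.FC.V n F))} (hff : f * f = 1)
    (hf : ∀ (s : F) X, f (s • X) = τ s • f X) (s : F) : τ (τ s) = s := by
  have h1 : ∀ X, f (f X) = X := fun X => DFunLike.congr_fun hff X
  have h2 : s • (1 : R F (H602.FC.V n F)) = τ (τ s) • (1 : R F (H602.FC.V n F)) := by
    rw [← h1 (s • 1), hf, hf, h1]
  haveI : Nonempty (Fin n) := ⟨⟨0, by omega⟩⟩
  haveI : Nontrivial (H602.FC.V n F) := by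
    unfold H602.FC.V
    infer_instance
  obtain ⟨v, hv⟩ := exists_ne (0 : H602.FC.V n F)
  have h3 : s • v = τ (τ s) • v := DFunLike.congr_fun h2 v
  have h4 : (s - τ (τ s)) • v = 0 := by rw [sub_smul, h3, sub_self]
  rcases smul_eq_zero.1 h4 with h5 | h5
  · exact (sub_eq_zero.1 h5).symm
  · exact absurd h5 hv

/-- no inner automorphism of order 2 -/
theorem not_inner [IsSimpleGroup (ProjectiveSpecialLinearGroup (Fin n) F)]
    {A : Subgroup (ProjectiveSpecialLinearGroup (Fin n) F)} {Γ : Subgroup (MulAut (ProjectiveSpecialLinearGroup (Fin n) F))}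
    (h : IF A Γ) (hodd : Odd (Nat.card A)) {a : ProjectiveSpecialLinearGroup (Fin n) F} (ha : MulAut.conj a ∈ Γ)
    (ho : orderOf (MulAut.conj a) = 2) : False := by
  have h1 := (h.conj a).1 ha
  have hinj : Function.Injective (MulAut.conj : ProjectiveSpecialLinearGroup (Fin n) F →* _) := by
    rw [injective_iff_map_eq_one]
    intro t ht
    apply H574.IFO.center_bot h
    intro y
    have h3 := DFunLike.congr_fun ht y
    rw [MulAut.conj_apply, MulAut.one_apply] at h3
    exact mul_inv_eq_iff_eq_mul.1 h3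
  rw [orderOf_injective _ hinj] at ho
  have h2 : orderOf (⟨a, h1⟩ : A) ∣ Nat.card A := orderOf_dvd_natCard _
  rw [Subgroup.orderOf_mk, ho] at h2
  exact (Nat.not_even_iff_odd.2 hodd) (even_iff_two_dvd.2 h2)

end Cfsg.Agent.H716.IFO
end

-- part: H14/IFO/Two
section
/-!
# S5719, `|A|` odd, linear groups (helper14 for helper716): an involution of `SL(V)` leaving two subspaces invariant
-/

set_option autoImplicit false
set_option linter.unusedSectionVars false

namespace Cfsg.Agent.H14.IFO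
open Cfsg.Agent.H198.FC Cfsg.Agent.H716.FC Module

universe u v

variable {K : Type u} [Field K] {V : Type v} [AddCommGroup V] [Module K V]

theorem exists_fn {v : V} (hv : v ≠ 0) : ∃ φ : V →ₗ[K] K, φ v = 1 := by
  obtain ⟨φ, hφ⟩ := Module.Projective.exists_dual_ne_zero K hv
  refine ⟨(φ v)⁻¹ • φ, ?_⟩
  rw [LinearMap.smul_apply, smul_eq_mul, inv_mul_cancel₀ hφ]

/-- a rank one idempotent adapted to two subspaces -/
theorem adapted [Nontrivial V] (W W' : Submodule K V) :
    ∃ (φ : V →ₗ[K] K) (v : V), φ v = 1 ∧ (v ∈ W ∨ ∀ w ∈ W, φ w = 0) ∧ (v ∈ W' ∨ ∀ w ∈ W', φ w = 0) := by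
  have key : ∀ (W W' : Submodule K V), W ≠ ⊥ → W ⊓ W' = ⊥ →
      ∃ (φ : V →ₗ[K] K) (v : V), φ v = 1 ∧ v ∈ W ∧ ∀ w ∈ W', φ w = 0 := by
    intro W W' hW h
    obtain ⟨v, hv, hv0⟩ := W.ne_bot_iff.1 hW
    have h1 : v ∉ W' := by
      intro h2
      apply hv0
      have h3 : v ∈ W ⊓ W' := ⟨hv, h2⟩
      rwa [h, Submodule.mem_bot] at h3
    obtain ⟨φ, hφ1, hφ2⟩ := Submodule.exists_le_ker_of_notMem h1
    refine ⟨(φ v)⁻¹ • φ, v, ?_, hv, ?_⟩
    · rw [LinearMap.smul_apply, smul_eq_mul, inv_mul_cancel₀ hφ1]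
    · intro w hw
      have h3 : φ w = 0 := hφ2 hw
      rw [LinearMap.smul_apply, h3, smul_zero]
  by_cases h : W ⊓ W' = ⊥
  · by_cases hW : W = ⊥
    · by_cases hW' : W' = ⊥
      · obtain ⟨v, hv⟩ := exists_ne (0 : V)
        obtain ⟨φ, hφ⟩ := exists_fn (K := K) hv
        refine ⟨φ, v, hφ, Or.inr ?_, Or.inr ?_⟩
        · intro w hw
          rw [hW, Submodule.mem_bot] at hw
          rw [hw, map_zero]
        · intro w hw
          rw [hW', Submodule.mem_bot] at hw
          rw [hw, map_zero]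
      · obtain ⟨φ, v, h1, h2, h3⟩ := key W' W hW' (by rw [inf_comm]; exact h)
        exact ⟨φ, v, h1, Or.inr h3, Or.inl h2⟩
    · obtain ⟨φ, v, h1, h2, h3⟩ := key W W' hW h
      exact ⟨φ, v, h1, Or.inl h2, Or.inr h3⟩
  · obtain ⟨v, hv, hv0⟩ := (W ⊓ W').ne_bot_iff.1 h
    obtain ⟨φ, hφ⟩ := exists_fn (K := K) hv0
    exact ⟨φ, v, hφ, Or.inl hv.1, Or.inl hv.2⟩

theorem inv_of_adapted {W : Submodule K V} {φ : V →ₗ[K] K} {v : V} (h : v ∈ W ∨ ∀ w ∈ W, φ w = 0) {w : V}
    (hw : w ∈ W) : φ w • v ∈ W := by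
  rcases h with h | h
  · exact W.smul_mem _ h
  · rw [h w hw, zero_smul]
    exact W.zero_mem

/-- a second one -/
theorem adapted2 [Module.Finite K V] (W W' : Submodule K V) {φ : V →ₗ[K] K} {v : V} (h1 : φ v = 1)
    (hW : v ∈ W ∨ ∀ w ∈ W, φ w = 0) (hW' : v ∈ W' ∨ ∀ w ∈ W', φ w = 0) (hn : 2 ≤ finrank K V) :
    ∃ (ψ : V →ₗ[K] K) (u : V), ψ u = 1 ∧ φ u = 0 ∧ ψ v = 0 ∧ (u ∈ W ∨ ∀ w ∈ W, ψ w = 0) ∧
      (u ∈ W' ∨ ∀ w ∈ W', ψ w = 0) := by
  have hnt : Nontrivial (LinearMap.ker φ) := by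
    apply Module.nontrivial_of_finrank_pos (R := K)
    have h2 := LinearMap.finrank_range_add_finrank_ker φ
    have h3 : finrank K (LinearMap.range φ) ≤ 1 := by
      have := Submodule.finrank_le (LinearMap.range φ)
      rwa [Module.finrank_self] at this
    omega
  obtain ⟨ψ, u, hu, h2, h3⟩ := adapted (W.comap (LinearMap.ker φ).subtype) (W'.comap (LinearMap.ker φ).subtype)
  have hk : ∀ w : V, (LinearMap.id - φ.smulRight v : V →ₗ[K] V) w ∈ LinearMap.ker φ := by
    intro w
    rw [LinearMap.mem_ker, LinearMap.sub_apply, LinearMap.id_apply, LinearMap.smulRight_apply, map_sub, map_smul, h1,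
      smul_eq_mul, mul_one, sub_self]
  let π : V →ₗ[K] LinearMap.ker φ := LinearMap.codRestrict (LinearMap.ker φ) (LinearMap.id - φ.smulRight v) hk
  have hπ : ∀ w, ((π w : LinearMap.ker φ) : V) = w - φ w • v := fun w => rfl
  have hπu : ∀ w : LinearMap.ker φ, π w = w := by
    intro w
    apply Subtype.ext
    rw [hπ, LinearMap.mem_ker.1 w.2, zero_smul, sub_zero]
  have hinv : ∀ (W : Submodule K V), (v ∈ W ∨ ∀ w ∈ W, φ w = 0) →
      (u ∈ W.comap (LinearMap.ker φ).subtype ∨ ∀ w ∈ W.comap (LinearMap.ker φ).subtype, ψ w = 0) →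
      ((u : V) ∈ W ∨ ∀ w ∈ W, (ψ ∘ₗ π) w = 0) := by
    intro W hW h2
    rcases h2 with h2 | h2
    · exact Or.inl h2
    · right
      intro w hw
      rw [LinearMap.comp_apply]
      apply h2
      change ((π w : LinearMap.ker φ) : V) ∈ W
      rw [hπ]
      exact W.sub_mem hw (inv_of_adapted hW hw)
  refine ⟨ψ ∘ₗ π, u, ?_, LinearMap.mem_ker.1 u.2, ?_, hinv W hW h2, hinv W' hW' h3⟩
  · rw [LinearMap.comp_apply, hπu, hu]
  · have h4 : π v = 0 := by
      apply Subtype.ext
      rw [hπ, h1, one_smul, sub_self]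
      rfl
    rw [LinearMap.comp_apply, h4, map_zero]

/-- a transvection -/
theorem adaptedT [Module.Finite K V] (W W' : Submodule K V) (hn : 3 ≤ finrank K V) :
    ∃ (φ : V →ₗ[K] K) (v : V), φ v = 0 ∧ φ ≠ 0 ∧ v ≠ 0 ∧ (v ∈ W ∨ ∀ w ∈ W, φ w = 0) ∧
      (v ∈ W' ∨ ∀ w ∈ W', φ w = 0) := by
  have key : ∀ (W W' : Submodule K V), W ⊓ W' = ⊥ → 2 ≤ finrank K W →
      ∃ (φ : V →ₗ[K] K) (v : V), φ v = 0 ∧ φ ≠ 0 ∧ v ≠ 0 ∧ v ∈ W ∧ ∀ w ∈ W', φ w = 0 := by
    intro W W' h h2
    have hnt : Nontrivial W := Module.nontrivial_of_finrank_pos (R := K) (by omega)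
    obtain ⟨v, hv⟩ := exists_ne (0 : W)
    have hv0 : (v : V) ≠ 0 := fun h => hv (Subtype.ext h)
    have h3 : ∃ u ∈ W, u ∉ Submodule.span K {(v : V)} := by
      by_contra hcon
      push Not at hcon
      have h4 : W ≤ Submodule.span K {(v : V)} := hcon
      have h5 := Submodule.finrank_mono h4
      rw [finrank_span_singleton hv0] at h5
      omega
    obtain ⟨u, hu, huv⟩ := h3
    have h4 : u ∉ W' ⊔ Submodule.span K {(v : V)} := by
      intro h5
      obtain ⟨a, ha, b, hb, hab⟩ := Submodule.mem_sup.1 h5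
      apply huv
      have hbW : b ∈ W := by
        obtain ⟨c, rfl⟩ := Submodule.mem_span_singleton.1 hb
        exact W.smul_mem c v.2
      have h6 : a ∈ W ⊓ W' := ⟨by rw [eq_sub_of_add_eq hab]; exact W.sub_mem hu hbW, ha⟩
      rw [h, Submodule.mem_bot] at h6
      rw [← hab, h6, zero_add]
      exact hb
    obtain ⟨φ, hφ1, hφ2⟩ := Submodule.exists_le_ker_of_notMem h4
    refine ⟨φ, v, ?_, ?_, hv0, v.2, ?_⟩
    · exact hφ2 (Submodule.mem_sup_right (Submodule.mem_span_singleton_self _))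
    · rintro rfl
      exact hφ1 rfl
    · intro w hw
      exact hφ2 (Submodule.mem_sup_left hw)
  by_cases h : W ⊓ W' = ⊥
  · by_cases hs : W ⊔ W' = ⊤
    · have h1 := Submodule.finrank_sup_add_finrank_inf_eq W W'
      rw [hs, h, finrank_top, finrank_bot] at h1
      rcases Nat.lt_or_ge 1 (finrank K W) with h2 | h2
      · obtain ⟨φ, v, a1, a2, a3, a4, a5⟩ := key W W' h h2
        exact ⟨φ, v, a1, a2, a3, Or.inl a4, Or.inr a5⟩
      · obtain ⟨φ, v, a1, a2, a3, a4, a5⟩ := key W' W (by rw [inf_comm]; exact h) (by omega)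
        exact ⟨φ, v, a1, a2, a3, Or.inr a5, Or.inl a4⟩
    · have h1 : ∃ u, u ∉ W ⊔ W' := by
        by_contra hcon
        push Not at hcon
        exact hs (eq_top_iff.2 fun u _ => hcon u)
      obtain ⟨u, hu⟩ := h1
      obtain ⟨φ, hφ1, hφ2⟩ := Submodule.exists_le_ker_of_notMem hu
      have hnt : Nontrivial (LinearMap.ker φ) := by
        apply Module.nontrivial_of_finrank_pos (R := K)
        have h2 := LinearMap.finrank_range_add_finrank_ker φ
        have h3 : finrank K (LinearMap.range φ) ≤ 1 := by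
          have := Submodule.finrank_le (LinearMap.range φ)
          rwa [Module.finrank_self] at this
        omega
      obtain ⟨v, hv⟩ := exists_ne (0 : LinearMap.ker φ)
      refine ⟨φ, v, LinearMap.mem_ker.1 v.2, ?_, fun h => hv (Subtype.ext h), Or.inr ?_, Or.inr ?_⟩
      · rintro rfl
        exact hφ1 rfl
      · intro w hw
        exact hφ2 (Submodule.mem_sup_left hw)
      · intro w hw
        exact hφ2 (Submodule.mem_sup_right hw)
  · obtain ⟨v, hv, hv0⟩ := (W ⊓ W').ne_bot_iff.1 h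
    have h3 : ∃ u, u ∉ Submodule.span K {v} := by
      by_contra hcon
      push Not at hcon
      have h4 : (⊤ : Submodule K V) ≤ Submodule.span K {v} := fun u _ => hcon u
      have h5 := Submodule.finrank_mono h4
      rw [finrank_span_singleton hv0, finrank_top] at h5
      omega
    obtain ⟨u, hu⟩ := h3
    obtain ⟨φ, hφ1, hφ2⟩ := Submodule.exists_le_ker_of_notMem hu
    refine ⟨φ, v, hφ2 (Submodule.mem_span_singleton_self _), ?_, hv0, Or.inl hv.1, Or.inl hv.2⟩
    rintro rfl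
    exact hφ1 rfl

/-- **an involution of `SL(V)` leaving two subspaces invariant** -/
theorem two_el [Finite K] [Module.Finite K V] (hn : 3 ≤ Module.finrank K V) (W W' : Submodule K V) :
    ∃ x : (R K V)ˣ, LinearMap.det (x : R K V) = 1 ∧ cj K V x ≠ 1 ∧ x ^ 2 = 1 ∧
      (∀ w ∈ W, (x : R K V) w ∈ W) ∧ (∀ w ∈ W', (x : R K V) w ∈ W') := by
  have hnt : Nontrivial V := Module.nontrivial_of_finrank_pos (R := K) (by omega)
  by_cases h2 : (2 : K) = 0
  · obtain ⟨φ, v, hφv, hφ, hv, hW, hW'⟩ := adaptedT W W' hn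
    let N : R K V := φ.smulRight v
    have hN : ∀ w, N w = φ w • v := fun w => rfl
    have hNN : N * N = 0 := by
      ext w
      rw [Module.End.mul_apply, hN, hN, map_smul, hφv, smul_zero, zero_smul]
      rfl
    have hadd : ∀ w : V, w + w = 0 := fun w => by rw [← two_smul K w, h2, zero_smul]
    have hN2 : N + N = 0 := by
      ext w
      exact hadd _
    have hx : (1 + N) * (1 + N) = 1 := by
      rw [mul_add, mul_one, add_mul, one_mul, hNN, add_zero, add_assoc, hN2, add_zero]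
    refine ⟨⟨1 + N, 1 + N, hx, hx⟩, Cfsg.Agent.H923.FC.det_one_add hNN, ?_, ?_, ?_, ?_⟩
    · intro h3
      obtain ⟨s, hs⟩ := cj_eq_one h3
      have hs' : ∀ w, w + φ w • v = s • w := fun w => by
        have := congrArg (fun Z : R K V => Z w) hs
        simpa only [hN, _root_.LinearMap.add_apply, _root_.Module.End.one_apply, _root_.LinearMap.smul_apply] using this
      have hs1 : s = 1 := by
        have h4 := hs' v
        rw [hφv, zero_smul, add_zero] at h4
        have h5 : (s - 1) • v = 0 := by rw [sub_smul, ← h4, one_smul, sub_self]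
        rcases smul_eq_zero.1 h5 with h6 | h6
        · exact sub_eq_zero.1 h6
        · exact absurd h6 hv
      apply hφ
      ext w
      have h4 := hs' w
      rw [hs1, one_smul, add_eq_left] at h4
      rcases smul_eq_zero.1 h4 with h6 | h6
      · exact h6
      · exact absurd h6 hv
    · apply Units.ext
      rw [pow_two]
      exact hx
    · intro w hw
      exact W.add_mem hw (inv_of_adapted hW hw)
    · intro w hw
      exact W'.add_mem hw (inv_of_adapted hW' hw)
  · obtain ⟨φ, v, hφv, hW, hW'⟩ := adapted W W'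
    obtain ⟨ψ, u, hψu, hφu, hψv, hU, hU'⟩ := adapted2 W W' hφv hW hW' (by omega)
    let a : R K V := ψ.smulRight v
    let b : R K V := φ.smulRight u
    have ha : ∀ w, a w = ψ w • v := fun w => rfl
    have hb : ∀ w, b w = φ w • u := fun w => rfl
    have haa : a * a = 0 := by
      ext w
      rw [Module.End.mul_apply, ha, ha, map_smul, hψv, smul_zero, zero_smul]
      rfl
    have hbb : b * b = 0 := by
      ext w
      rw [Module.End.mul_apply, hb, hb, map_smul, hφu, smul_zero, zero_smul]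
      rfl
    have hab : ∀ w, (a * b) w = φ w • v := fun w => by
      rw [Module.End.mul_apply, hb, map_smul, ha, hψu, one_smul]
    have hba : ∀ w, (b * a) w = ψ w • u := fun w => by
      rw [Module.End.mul_apply, ha, map_smul, hb, hφv, one_smul]
    have haba : a * b * a = a := by
      ext w
      rw [Module.End.mul_apply, hab, ha, map_smul, hφv, smul_eq_mul, mul_one]
    have hbab : b * a * b = b := by
      ext w
      rw [Module.End.mul_apply, hba, hb, map_smul, hψu, smul_eq_mul, mul_one]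
    have ha0 : a ≠ 0 := by
      intro h3
      have h4 : a u = 0 := by rw [h3]; rfl
      rw [ha, hψu, one_smul] at h4
      rw [h4, map_zero] at hφv
      exact zero_ne_one hφv
    obtain ⟨x, hx, -, hdet, h4, -⟩ := Cfsg.Agent.H716.IFO.exists_J haa hbb haba hbab ha0
    have hx2 : ∀ w, ((x * x : (R K V)ˣ) : R K V) w = w - (2 : K) • (φ w • v) - (2 : K) • (ψ w • u) := by
      have e : ∀ w, (x : R K V) w = w - φ w • v - ψ w • u + ψ w • v - φ w • u := fun w => by
        rw [hx]
        simp only [LinearMap.sub_apply, LinearMap.add_apply, Module.End.one_apply, hab, hba, ha, hb]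
      intro w
      rw [Units.val_mul, Module.End.mul_apply, e, e]
      simp only [map_sub, map_add, map_smul, hφv, hψv, hψu, hφu, smul_eq_mul, mul_one, mul_zero, sub_zero, add_zero]
      module
    refine ⟨x * x, ?_, ?_, ?_, ?_, ?_⟩
    · rw [Units.val_mul, map_mul, hdet, mul_one]
    · intro h3
      obtain ⟨s, hs⟩ := cj_eq_one h3
      have hs' : ∀ w, w - (2 : K) • (φ w • v) - (2 : K) • (ψ w • u) = s • w := fun w => by
        rw [← hx2, hs]
        rfl
      have hv0 : v ≠ 0 := by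
        rintro rfl
        rw [map_zero] at hφv
        exact zero_ne_one hφv
      have hs1 : s = -1 := by
        have h5 := hs' v
        rw [hφv, hψv, zero_smul, smul_zero, sub_zero, one_smul] at h5
        have h6 : (s + 1) • v = 0 := by
          rw [add_smul, ← h5, one_smul, two_smul]
          abel
        rcases smul_eq_zero.1 h6 with h7 | h7
        · exact eq_neg_of_add_eq_zero_left h7
        · exact absurd h7 hv0
      -- a vector killed by `φ` and `ψ`
      have h5 : ∃ w : V, w ≠ 0 ∧ φ w = 0 ∧ ψ w = 0 := by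
        have h6 : 0 < finrank K (LinearMap.ker (φ.prod ψ)) := by
          have h7 := LinearMap.finrank_range_add_finrank_ker (φ.prod ψ)
          have h8 : finrank K (LinearMap.range (φ.prod ψ)) ≤ 2 := by
            have := Submodule.finrank_le (LinearMap.range (φ.prod ψ))
            rwa [Module.finrank_prod, Module.finrank_self] at this
          omega
        have h9 : Nontrivial (LinearMap.ker (φ.prod ψ)) := Module.nontrivial_of_finrank_pos (R := K) h6
        obtain ⟨w, hw⟩ := exists_ne (0 : LinearMap.ker (φ.prod ψ))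
        have h10 : (φ.prod ψ) (w : V) = 0 := LinearMap.mem_ker.1 w.2
        refine ⟨w, fun h => hw (Subtype.ext h), ?_, ?_⟩
        · exact congrArg Prod.fst h10
        · exact congrArg Prod.snd h10
      obtain ⟨w, hw, hw1, hw2⟩ := h5
      have h6 := hs' w
      rw [hw1, hw2, zero_smul, zero_smul, smul_zero, sub_zero, sub_zero, hs1, neg_one_smul] at h6
      have h7 : (2 : K) • w = 0 := by
        rw [two_smul]
        nth_rewrite 1 [h6]
        exact neg_add_cancel w
      rcases smul_eq_zero.1 h7 with h8 | h8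
      · exact h2 h8
      · exact hw h8
    · rw [← pow_two, ← pow_mul, h4]
    · intro w hw
      rw [hx2]
      exact W.sub_mem (W.sub_mem hw (W.smul_mem _ (inv_of_adapted hW hw))) (W.smul_mem _ (inv_of_adapted hU hw))
    · intro w hw
      rw [hx2]
      exact W'.sub_mem (W'.sub_mem hw (W'.smul_mem _ (inv_of_adapted hW' hw))) (W'.smul_mem _ (inv_of_adapted hU' hw))

end Cfsg.Agent.H14.IFO
end

-- part: H14/IFO/Red
section
/-!
# S5719, `|A|` odd, linear groups (helper14 for helper716): the reducible case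
-/

set_option autoImplicit false
set_option linter.unusedSectionVars false

namespace Cfsg.Agent.H14.IFO
open Cfsg.Agent.H198.FC Cfsg.Agent.H716.FC Cfsg.Agent.H716.IFO Module

universe u v

section pair

variable {α : Type*}

theorem image_mul' (f g : Equiv.Perm α) (X : Set α) : (f * g : Equiv.Perm α) '' X = f '' (g '' X) := by
  rw [Set.image_image]
  rfl

theorem image_inv' {f : Equiv.Perm α} {X Y : Set α} (h : f '' X = Y) : (f⁻¹ : Equiv.Perm α) '' Y = X := by
  rw [← h, Set.image_image]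
  simp

theorem image_one' (X : Set α) : (1 : Equiv.Perm α) '' X = X := by
  simp

/-- the stabiliser of the unordered pair `{X, Y}` -/
def Pr (X Y : Set α) : Subgroup (Equiv.Perm α) where
  carrier := {f | (f '' X = X ∧ f '' Y = Y) ∨ (f '' X = Y ∧ f '' Y = X)}
  one_mem' := Or.inl ⟨image_one' X, image_one' Y⟩
  mul_mem' := by
    rintro f g (⟨h1, h2⟩ | ⟨h1, h2⟩) (⟨h3, h4⟩ | ⟨h3, h4⟩)
    · exact Or.inl ⟨by rw [image_mul', h3, h1], by rw [image_mul', h4, h2]⟩
    · exact Or.inr ⟨by rw [image_mul', h3, h2], by rw [image_mul', h4, h1]⟩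
    · exact Or.inr ⟨by rw [image_mul', h3, h1], by rw [image_mul', h4, h2]⟩
    · exact Or.inl ⟨by rw [image_mul', h3, h2], by rw [image_mul', h4, h1]⟩
  inv_mem' := by
    rintro f (⟨h1, h2⟩ | ⟨h1, h2⟩)
    · exact Or.inl ⟨image_inv' h1, image_inv' h2⟩
    · exact Or.inr ⟨image_inv' h2, image_inv' h1⟩

/-- the pointwise stabiliser -/
def Pr0 (X Y : Set α) : Subgroup (Equiv.Perm α) where
  carrier := {f | f '' X = X ∧ f '' Y = Y}
  one_mem' := ⟨image_one' X, image_one' Y⟩
  mul_mem' := by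
    rintro f g ⟨h1, h2⟩ ⟨h3, h4⟩
    exact ⟨by rw [image_mul', h3, h1], by rw [image_mul', h4, h2]⟩
  inv_mem' := by
    rintro f ⟨h1, h2⟩
    exact ⟨image_inv' h1, image_inv' h2⟩

theorem Pr0_norm {X Y : Set α} {t x : Equiv.Perm α} (ht : t ∈ Pr X Y) (hx : x ∈ Pr0 X Y) : t * x * t⁻¹ ∈ Pr0 X Y := by
  obtain ⟨h1, h2⟩ := hx
  rcases ht with ⟨h3, h4⟩ | ⟨h3, h4⟩
  · exact ⟨by rw [image_mul', image_inv' h3, image_mul', h1, h3], by rw [image_mul', image_inv' h4, image_mul', h2, h4]⟩
  · exact ⟨by rw [image_mul', image_inv' h4, image_mul', h2, h4], by rw [image_mul', image_inv' h3, image_mul', h1, h3]⟩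

theorem image_eq_of_subset [Finite α] {f : Equiv.Perm α} {X : Set α} (h : ∀ x ∈ X, f x ∈ X) : f '' X = X := by
  apply Set.eq_of_subset_of_ncard_le
  · rintro _ ⟨x, hx, rfl⟩
    exact h x hx
  · rw [Set.ncard_image_of_injective _ f.injective]
  · exact Set.toFinite _

end pair

variable {K : Type u} [Field K] {V : Type v} [AddCommGroup V] [Module K V]

/-- the right ideal of a subspace -/
def RI (W : Submodule K V) : Set (R K V) := {X | ∀ v, X v ∈ W}

/-- the left ideal of a subspace -/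
def LI (W : Submodule K V) : Set (R K V) := {Y | ∀ w ∈ W, Y w = 0}

theorem cj_RI {W : Submodule K V} {x : (R K V)ˣ} (h : ∀ w ∈ W, (x : R K V) w ∈ W) : ∀ X ∈ RI W, cj K V x X ∈ RI W := by
  intro X hX v
  rw [cj_apply, Module.End.mul_apply, Module.End.mul_apply]
  exact h _ (hX _)

theorem cj_LI {W : Submodule K V} {x : (R K V)ˣ} (h : ∀ w ∈ W, ((x⁻¹ : (R K V)ˣ) : R K V) w ∈ W) :
    ∀ X ∈ LI W, cj K V x X ∈ LI W := by
  intro X hX w hw
  rw [cj_apply, Module.End.mul_apply, Module.End.mul_apply, hX _ (h w hw), map_zero]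

theorem map_RI (W : Submodule K V) {κ : Equiv.Perm (R K V)} (hκ : ∀ X Y, κ (X * Y) = κ Y * κ X) :
    ∃ W' : Submodule K V, κ '' RI W = LI W' := by
  obtain ⟨e, he, he'⟩ := Cfsg.Agent.H923.FC.exists_proj W
  have hee : e * e = e := LinearMap.ext fun v => he' _ (he v)
  have hκe : κ e * κ e = κ e := by rw [← hκ, hee]
  refine ⟨LinearMap.ker (κ e), ?_⟩
  ext Y
  constructor
  · rintro ⟨X, hX, rfl⟩ w hw
    have h1 : e * X = X := LinearMap.ext fun v => he' _ (hX v)
    have h2 : κ X = κ X * κ e := by rw [← hκ, h1]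
    rw [h2, Module.End.mul_apply, LinearMap.mem_ker.1 hw, map_zero]
  · intro hY
    have h1 : Y * κ e = Y := by
      ext v
      have h2 : v - κ e v ∈ LinearMap.ker (κ e) := by
        rw [LinearMap.mem_ker, map_sub, ← Module.End.mul_apply, hκe, sub_self]
      have h3 := hY _ h2
      rw [map_sub, sub_eq_zero] at h3
      rw [Module.End.mul_apply, ← h3]
    refine ⟨κ.symm Y, ?_, κ.apply_symm_apply Y⟩
    have h2 : e * κ.symm Y = κ.symm Y := by
      apply κ.injective
      rw [hκ, κ.apply_symm_apply, h1]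
    intro v
    rw [← h2, Module.End.mul_apply]
    exact he _

variable {A S : Subgroup (Equiv.Perm (R K V))} [Finite K] [Module.Finite K V]

/-- **the reducible case** -/
theorem case_red (h : Fr (SLX K V) A S) {W : Submodule K V} (hW1 : W ≠ ⊥) (hW2 : W ≠ ⊤)
    (hW : ∀ f ∈ S, f ∈ RP K V → Stb f W) : False := by
  have := h.nontriv
  have : Finite (R K V) := finite_R
  have hst : ∀ f ∈ S, f ∈ RP K V → f '' RI W = RI W := fun f hf hfP => image_eq_of_subset (hW f hf hfP)
  -- the second set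
  have key : ∃ (L : Set (R K V)) (W' : Submodule K V), (L = RI W ∨ L = LI W') ∧
      (∀ f ∈ S, f ∈ RP K V → f '' L = L) ∧ S ≤ Pr (RI W) L := by
    by_cases hκ : ∃ κ ∈ S, κ ∉ RP K V
    · obtain ⟨κ, hκ, hκP⟩ := hκ
      obtain ⟨W', hW'⟩ := map_RI W (Cfsg.Agent.H923.FC.anti_mul h.hS hκ hκP)
      have h1 : ∀ f ∈ S, f ∈ RP K V → f '' (κ '' RI W) = κ '' RI W := by
        intro f hf hfP
        have h2 : κ⁻¹ * (f * κ) ∈ RP K V := by
          have h3 : f * κ ∉ RP K V := fun h4 => hκP (by simpa using mul_mem (inv_mem hfP) h4)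
          exact Cfsg.Agent.H923.FC.anti_anti h.hS (inv_mem hκ) (Cfsg.Agent.H923.FC.inv_not hκP) (mul_mem hf hκ) h3
        have h3 := hst _ (mul_mem (inv_mem hκ) (mul_mem hf hκ)) h2
        have h4 : κ '' ((κ⁻¹ * (f * κ) : Equiv.Perm (R K V)) '' RI W) = κ '' RI W := by rw [h3]
        rw [← image_mul', mul_inv_cancel_left, image_mul'] at h4
        exact h4
      refine ⟨κ '' RI W, W', Or.inr hW', h1, ?_⟩
      intro f hf
      by_cases hfP : f ∈ RP K V
      · exact Or.inl ⟨hst f hf hfP, h1 f hf hfP⟩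
      · right
        have h2 : f * κ ∈ RP K V := Cfsg.Agent.H923.FC.anti_anti h.hS hf hfP hκ hκP
        have h3 : f * κ⁻¹ ∈ RP K V :=
          Cfsg.Agent.H923.FC.anti_anti h.hS hf hfP (inv_mem hκ) (Cfsg.Agent.H923.FC.inv_not hκP)
        constructor
        · have h4 := h1 _ (mul_mem hf (inv_mem hκ)) h3
          rwa [← image_mul', inv_mul_cancel_right] at h4
        · have h4 := hst _ (mul_mem hf hκ) h2
          rwa [image_mul'] at h4
    · push Not at hκ
      refine ⟨RI W, W, Or.inl rfl, hst, fun f hf => Or.inl ⟨hst f hf (hκ f hf), hst f hf (hκ f hf)⟩⟩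
  obtain ⟨L, W', hL, hLS, hS⟩ := key
  obtain ⟨x, hx1, hxc, hx2, hxW, hxW'⟩ := two_el h.hn W W'
  have hxi : x⁻¹ = x := inv_eq_of_mul_eq_one_left (by rw [← pow_two]; exact hx2)
  have hx0 : cj K V x ∈ Pr0 (RI W) L := by
    refine ⟨image_eq_of_subset (cj_RI hxW), ?_⟩
    rcases hL with rfl | rfl
    · exact image_eq_of_subset (cj_RI hxW)
    · exact image_eq_of_subset (cj_LI (by rw [hxi]; exact hxW'))
  have h1 := h.le_of_even (Pr (RI W) L) hS (cj_mem hx1) (Or.inl hx0) 1
    (by rw [show (2 : ℕ) ^ 1 = 2 from rfl, ← map_pow, hx2, map_one]) hxc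
  obtain ⟨y, hy, hy1⟩ : ∃ y ∈ A, y ≠ 1 := by
    by_contra hcon
    push Not at hcon
    exact h.A1 ((Subgroup.eq_bot_iff_forall A).2 hcon)
  have hyP : (y : Equiv.Perm (R K V)) ∈ RP K V := by
    obtain ⟨z, -, hz⟩ := h.AX hy
    rw [← hz]
    exact cj_mem_RP z
  have h2 := h.eq_top (Pr0 (RI W) L) (fun t ht x hx => Pr0_norm (h1 ht) hx) (h.AX hy)
    ⟨hst y (h.AS hy) hyP, hLS y (h.AS hy) hyP⟩ hy1
  -- a transvection moving `W`
  obtain ⟨w, hw, hw0⟩ := W.ne_bot_iff.1 hW1
  obtain ⟨v, hv⟩ : ∃ v, v ∉ W := by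
    by_contra hcon
    push Not at hcon
    exact hW2 (eq_top_iff.2 fun u _ => hcon u)
  have hwv : w ∉ Submodule.span K {v} := by
    intro h3
    obtain ⟨c, rfl⟩ := Submodule.mem_span_singleton.1 h3
    have hc : c ≠ 0 := by
      rintro rfl
      exact hw0 (zero_smul _ _)
    apply hv
    have h4 := W.smul_mem c⁻¹ hw
    rwa [smul_smul, inv_mul_cancel₀ hc, one_smul] at h4
  obtain ⟨φ, hφ1, hφ2⟩ := Submodule.exists_le_ker_of_notMem hwv
  have hφv : φ v = 0 := hφ2 (Submodule.mem_span_singleton_self v)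
  let N : R K V := φ.smulRight v
  have hN : ∀ w, N w = φ w • v := fun w => rfl
  have hNN : N * N = 0 := by
    ext w
    rw [Module.End.mul_apply, hN, hN, map_smul, hφv, smul_zero, zero_smul]
    rfl
  obtain ⟨z, hz, hzi, hz1⟩ := exists_un hNN
  obtain ⟨e, he, he'⟩ := Cfsg.Agent.H923.FC.exists_proj W
  have h3 : cj K V z e ∈ RI W := by
    rw [← (h2 (cj_mem hz1)).1]
    exact ⟨e, he, rfl⟩
  have h4 := h3 ((z : R K V) w)
  rw [cj_apply, Module.End.mul_apply, Module.End.mul_apply, ← Module.End.mul_apply ((z⁻¹ : (R K V)ˣ) : R K V), Units.inv_mul,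
    Module.End.one_apply, he' w hw, hz, LinearMap.add_apply, Module.End.one_apply, hN] at h4
  have h5 := W.sub_mem h4 hw
  rw [add_sub_cancel_left] at h5
  apply hv
  have h6 := W.smul_mem (φ w)⁻¹ h5
  rwa [smul_smul, inv_mul_cancel₀ hφ1, one_smul] at h6

end Cfsg.Agent.H14.IFO
end

-- part: H5/IFO/SingF
section
/-!
# S5719, `|A|` odd, linear groups: the Singer structure and semilinear involutions (helper5)

`sing_up_field`, `sing_up_gf` : the number of fixed points on `A` of a semilinear (anti-)automorphism `f ∈ S` of order two.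
-/

set_option autoImplicit false
set_option linter.unusedSectionVars false
set_option linter.style.haveILetI false

namespace Cfsg.Agent.H5.IFO

open Cfsg.Agent.H198.FC Cfsg.Agent.H716.FC Cfsg.Agent.H716.IFO Module

universe u v

/-- the involutory automorphism of a field with `Q²` elements -/
theorem eq_pow_of_two {L : Type*} [Field L] [Finite L] {ρ : L ≃+* L} (h2 : ∀ x, ρ (ρ x) = x) (h1 : ∃ x, ρ x ≠ x)
    {Q : ℕ} (hQ : Nat.card L = Q ^ 2) : ∀ x, ρ x = x ^ Q := by
  classical
  have : Fintype L := Fintype.ofFinite L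
  obtain ⟨p, hc⟩ := CharP.exists L
  have hp : Fact p.Prime := ⟨CharP.char_is_prime L p⟩
  letI : Algebra (ZMod p) L := ZMod.algebra L p
  let ρ' : L ≃ₐ[ZMod p] L := AlgEquiv.ofRingEquiv (f := ρ) (fun r => by
    have h3 : (ρ : L →+* L).comp (algebraMap (ZMod p) L) = algebraMap (ZMod p) L := Subsingleton.elim _ _
    exact congrArg (fun φ : ZMod p →+* L => φ r) h3)
  obtain ⟨⟨i, hi⟩, hi2⟩ := (FiniteField.bijective_frobeniusAlgEquivOfAlgebraic_pow (ZMod p) L).2 ρ'
  set N := finrank (ZMod p) L with hN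
  set φ := FiniteField.frobeniusAlgEquivOfAlgebraic (ZMod p) L with hφ
  have hi3 : φ ^ i = ρ' := hi2
  have happ : ∀ x, ρ x = x ^ p ^ i := by
    intro x
    have h3 : ρ x = (φ ^ i) x := by rw [hi3]; rfl
    have h4 : ⇑(φ ^ i) = (⇑φ)^[i] := by
      rw [← AlgEquiv.coe_pow]
    rw [h3, h4, hφ, FiniteField.coe_frobeniusAlgEquivOfAlgebraic_iterate, ZMod.card]
  have hord : N ∣ 2 * i := by
    rw [hN, ← FiniteField.orderOf_frobeniusAlgEquivOfAlgebraic (ZMod p) L]
    apply orderOf_dvd_of_pow_eq_one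
    rw [mul_comm, pow_mul]
    change (φ ^ i) ^ 2 = 1
    rw [hi3, pow_two]
    apply AlgEquiv.ext
    intro x
    exact h2 x
  have hi0 : i ≠ 0 := by
    rintro rfl
    obtain ⟨x, hx⟩ := h1
    apply hx
    rw [happ, pow_zero, pow_one]
  have h2i : 2 * i = N := by
    obtain ⟨k, hk⟩ := hord
    have hk0 : k ≠ 0 := by rintro rfl; omega
    have hk2 : k < 2 := by
      by_contra hcon
      have : N * 2 ≤ N * k := Nat.mul_le_mul_left _ (by omega)
      omega
    obtain rfl : k = 1 := by omega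
    omega
  have hcard : Nat.card L = p ^ N := by
    rw [Module.natCard_eq_pow_finrank (K := ZMod p), Nat.card_eq_fintype_card, ZMod.card]
  have hQp : Q = p ^ i := by
    have h3 : Q ^ 2 = (p ^ i) ^ 2 := by
      rw [← hQ, hcard, ← pow_mul, ← h2i, mul_comm]
    exact Nat.pow_left_injective (n := 2) (by norm_num) h3
  intro x
  rw [hQp]
  exact happ x

variable {K : Type u} [Field K] {V : Type v} [AddCommGroup V] [Module K V]

variable {A S : Subgroup (Equiv.Perm (R K V))} [Finite K] [Module.Finite K V]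

/-- the fixed points of `f` on `A` : at most `n` times those centralizing `E` -/
theorem card_le_mul (h : Fr (SLX K V) A S) {E : Subalgebra K (R K V)} (hE : IsField E)
    (hd : finrank K E = finrank K V) (hSE : ∀ f ∈ S, ∀ X ∈ E, f X ∈ E) {f : Equiv.Perm (R K V)}
    {C : Subgroup (Equiv.Perm (R K V))}
    (hC : ∀ x : (R K V)ˣ, (x : R K V) ∈ E → cj K V x ∈ A → f * cj K V x = cj K V x * f → cj K V x ∈ C) :
    Nat.card {a // a ∈ A ∧ f * a = a * f} ≤ finrank K V * Nat.card C := by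
  classical
  haveI := h.nontriv
  have hfin : Finite (R K V) := finite_R
  let iE : Field E := hE.toField
  have : Finite E := inferInstance
  have hres : ∀ a : {a // a ∈ A ∧ f * a = a * f}, ∃ g : E →ₐ[K] E, ∀ X : E, (g X : R K V) = (a : Equiv.Perm (R K V)) X := by
    rintro ⟨a, ha, -⟩
    obtain ⟨x, -, rfl⟩ := h.AX ha
    have hE' : ∀ X ∈ E, cj K V x X ∈ E := hSE _ (h.AS ha)
    refine ⟨AlgHom.ofLinearMap
      { toFun := fun X => ⟨cj K V x X, hE' X X.2⟩
        map_add' := fun X Y => Subtype.ext ((cj_mem_RP x).1 X Y)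
        map_smul' := fun s X => Subtype.ext (by
          change (x : R K V) * (s • (X : R K V)) * ((x⁻¹ : (R K V)ˣ) : R K V) = s • (cj K V x X)
          rw [mul_smul_comm, smul_mul_assoc, cj_apply]) } ?_ ?_, fun X => rfl⟩
    · apply Subtype.ext
      change (x : R K V) * (1 : R K V) * ((x⁻¹ : (R K V)ˣ) : R K V) = 1
      rw [mul_one, Units.mul_inv]
    · intro X Y
      exact Subtype.ext ((cj_mem_RP x).2 X Y)
  choose g hg using hres
  have hcard : Nat.card (E →ₐ[K] E) ≤ finrank K V := by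
    rw [← hd]
    exact card_algHom_le_finrank K E E
  have : Finite (E →ₐ[K] E) := Finite.of_injective (fun φ : E →ₐ[K] E => (φ : E → E)) DFunLike.coe_injective
  have key : ∀ a b : {a // a ∈ A ∧ f * a = a * f}, g a = g b → (b : Equiv.Perm (R K V))⁻¹ * a ∈ C := by
    intro a b hab
    have h1 : ∀ X ∈ E, (a : Equiv.Perm (R K V)) X = (b : Equiv.Perm (R K V)) X := by
      intro X hX
      have h2 := congrArg (fun φ : E →ₐ[K] E => ((φ ⟨X, hX⟩ : E) : R K V)) hab
      simp only [hg] at h2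
      exact h2
    have h2 : (b : Equiv.Perm (R K V))⁻¹ * a ∈ A := A.mul_mem (A.inv_mem b.2.1) a.2.1
    obtain ⟨x, hx, hxab⟩ := h.AX h2
    have h3 : ∀ X ∈ E, cj K V x X = X := by
      intro X hX
      rw [hxab, Equiv.Perm.mul_apply, h1 X hX]
      exact (b : Equiv.Perm (R K V)).symm_apply_apply X
    have h4 : (x : R K V) ∈ E := mem_of_comm hE hd (fun X hX => fix_one_of_cj.1 (h3 X hX))
    have h5 : f * cj K V x = cj K V x * f := by
      rw [hxab]
      have hb : f * (b : Equiv.Perm (R K V))⁻¹ = (b : Equiv.Perm (R K V))⁻¹ * f := by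
        rw [mul_inv_eq_iff_eq_mul, mul_assoc, b.2.2, inv_mul_cancel_left]
      rw [← mul_assoc, hb, mul_assoc, a.2.2, mul_assoc]
    have h6 := hC x h4 (by rw [hxab]; exact h2) h5
    rw [hxab] at h6
    exact h6
  -- representatives
  have hrep : ∀ φ : Set.range g, ∃ b, g b = (φ : E →ₐ[K] E) := fun φ => φ.2
  choose r hr using hrep
  have hinj : Function.Injective (fun a : {a // a ∈ A ∧ f * a = a * f} =>
      ((g a, ⟨((r ⟨g a, a, rfl⟩ : {a // a ∈ A ∧ f * a = a * f}) : Equiv.Perm (R K V))⁻¹ * a,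
        key _ _ (hr ⟨g a, a, rfl⟩).symm⟩) : (E →ₐ[K] E) × C)) := by
    intro a b hab
    have h1 : g a = g b := congrArg Prod.fst hab
    have h2 := congrArg (fun z : (E →ₐ[K] E) × C => (z.2 : Equiv.Perm (R K V))) hab
    simp only at h2
    have h3 : (⟨g a, a, rfl⟩ : Set.range g) = ⟨g b, b, rfl⟩ := Subtype.ext h1
    rw [h3] at h2
    exact Subtype.ext (mul_left_cancel h2)
  have : Finite C := inferInstance
  calc _ ≤ Nat.card ((E →ₐ[K] E) × C) := Nat.card_le_card_of_injective _ hinj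
    _ = Nat.card (E →ₐ[K] E) * Nat.card C := Nat.card_prod _ _
    _ ≤ _ := Nat.mul_le_mul_right _ hcard

/-- the centraliser of `f` in `A ∩ cj E`, from the torsion of `E^*` -/
theorem card_fix_le (h : Fr (SLX K V) A S) {E : Subalgebra K (R K V)} (hE : IsField E)
    (hd : finrank K E = finrank K V) (hSE : ∀ f ∈ S, ∀ X ∈ E, f X ∈ E) {f : Equiv.Perm (R K V)} {M : ℕ} (hM : 0 < M)
    (hk : ∀ x : (R K V)ˣ, (x : R K V) ∈ E → f * cj K V x = cj K V x * f → x ^ M = 1) :
    Nat.card {a // a ∈ A ∧ f * a = a * f} * (Nat.card K - 1) ≤ finrank K V * M := by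
  classical
  haveI := h.nontriv
  have hfin : Finite (R K V) := finite_R
  let iE : Field E := hE.toField
  have : Finite E := inferInstance
  let ι : Eˣ →* (R K V)ˣ := Units.map (E.val : E →* R K V)
  have hι : Function.Injective ι := Units.map_injective Subtype.val_injective
  let D : Subgroup Eˣ :=
    { carrier := {k | f * cj K V (ι k) = cj K V (ι k) * f}
      one_mem' := by
        change f * cj K V (ι 1) = cj K V (ι 1) * f
        rw [map_one, map_one, mul_one, one_mul]
      mul_mem' := by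
        intro a b ha hb
        change f * cj K V (ι (a * b)) = cj K V (ι (a * b)) * f
        have ha' : f * cj K V (ι a) = cj K V (ι a) * f := ha
        have hb' : f * cj K V (ι b) = cj K V (ι b) * f := hb
        rw [map_mul, map_mul, ← mul_assoc, ha', mul_assoc, hb', mul_assoc]
      inv_mem' := by
        intro a ha
        change f * cj K V (ι a⁻¹) = cj K V (ι a⁻¹) * f
        have ha' : f * cj K V (ι a) = cj K V (ι a) * f := ha
        rw [map_inv, map_inv, mul_inv_eq_iff_eq_mul, mul_assoc, ha', inv_mul_cancel_left] }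
  let θ : D →* Equiv.Perm (R K V) := ((cj K V).comp ι).comp D.subtype
  have h1 : Nat.card θ.ker * Nat.card θ.range = Nat.card D := by
    rw [← Subgroup.index_ker, Subgroup.card_mul_index]
  have hDM : Nat.card D ≤ M := by
    haveI : NeZero M := ⟨hM.ne'⟩
    refine le_trans (Nat.card_le_card_of_injective (fun k : D => (⟨(k : Eˣ), ?_⟩ : rootsOfUnity M E)) ?_)
      (card_rootsOfUnity E M)
    · rw [mem_rootsOfUnity]
      apply hι
      rw [map_pow, map_one]
      exact hk (ι k) (k : Eˣ).1.2 k.2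
    · intro a b hab
      exact Subtype.ext (congrArg (fun z : rootsOfUnity M E => (z : Eˣ)) hab)
  have hker : Nat.card K - 1 ≤ Nat.card θ.ker := by
    rw [← Nat.card_units]
    have hsc : ∀ s : Kˣ, cj K V (ι (Units.map (algebraMap K E : K →* E) s)) = 1 := by
      intro s
      apply Equiv.ext
      intro X
      have h3 : ((ι (Units.map (algebraMap K E : K →* E) s) : (R K V)ˣ) : R K V) = algebraMap K (R K V) s := rfl
      have h4 : (cj K V (ι (Units.map (algebraMap K E : K →* E) s))) X = X :=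
        fix_one_of_cj.2 (by rw [h3]; exact Algebra.commutes _ _)
      rw [h4]
      rfl
    refine Nat.card_le_card_of_injective (fun s : Kˣ => (⟨⟨Units.map (algebraMap K E : K →* E) s, ?_⟩, ?_⟩ : θ.ker)) ?_
    · change f * cj K V (ι _) = cj K V (ι _) * f
      rw [hsc, mul_one, one_mul]
    · rw [MonoidHom.mem_ker]
      exact hsc s
    · intro a b hab
      have h3 : Units.map (algebraMap K E : K →* E) a = Units.map (algebraMap K E : K →* E) b :=
        congrArg (fun z : θ.ker => ((z : D) : Eˣ)) hab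
      exact Units.map_injective (algebraMap K E).injective h3
  have h2 := card_le_mul h hE hd hSE (f := f) (C := θ.range) (by
    intro x hx hxA hfx
    have hx0 : (⟨x, hx⟩ : E) ≠ 0 := by
      intro h0
      have h3 : (x : R K V) = 0 := congrArg Subtype.val h0
      exact x.ne_zero h3
    refine ⟨⟨Units.mk0 ⟨x, hx⟩ hx0, ?_⟩, ?_⟩
    · change f * cj K V (ι (Units.mk0 ⟨x, hx⟩ hx0)) = cj K V (ι (Units.mk0 ⟨x, hx⟩ hx0)) * f
      have h3 : ι (Units.mk0 ⟨x, hx⟩ hx0) = x := Units.ext rfl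
      rw [h3]
      exact hfx
    · have h3 : ι (Units.mk0 ⟨x, hx⟩ hx0) = x := Units.ext rfl
      change cj K V (ι (Units.mk0 ⟨x, hx⟩ hx0)) = cj K V x
      rw [h3])
  calc _ ≤ (finrank K V * Nat.card θ.range) * (Nat.card K - 1) := Nat.mul_le_mul_right _ h2
    _ = finrank K V * ((Nat.card K - 1) * Nat.card θ.range) := by ring
    _ ≤ finrank K V * (Nat.card θ.ker * Nat.card θ.range) := Nat.mul_le_mul_left _ (Nat.mul_le_mul_right _ hker)
    _ ≤ _ := Nat.mul_le_mul_left _ (by rw [h1]; exact hDM)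

/-- the action of `f` on `E` and on the scalars -/
theorem exists_rho (h : Fr (SLX K V) A S) {E : Subalgebra K (R K V)} (hE : IsField E)
    (hd : finrank K E = finrank K V) (hSE : ∀ f ∈ S, ∀ X ∈ E, f X ∈ E) {τ : K ≃+* K} (hτ : ∃ s, τ s ≠ s) {q0 : ℕ}
    (hq : Nat.card K = q0 ^ 2) {f : Equiv.Perm (R K V)} (hf : f ∈ S) (hff : f * f = 1)
    (hσ : ∀ (s : K) X, f (s • X) = τ s • f X) (hmul : ∀ X ∈ E, ∀ Y ∈ E, f (X * Y) = f X * f Y) :
    f 1 = 1 ∧ (∀ s, τ s = s ^ q0) ∧ ∀ X ∈ E, f X = X ^ (q0 ^ finrank K V) := by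
  classical
  haveI := h.nontriv
  have hfin : Finite (R K V) := finite_R
  let iE : Field E := hE.toField
  have : Finite E := inferInstance
  have hadd : ∀ X Y, f (X + Y) = f X + f Y := (h.hS hf).1
  have hffX : ∀ X, f (f X) = X := fun X => by rw [← Equiv.Perm.mul_apply, hff]; rfl
  have hone : f 1 = 1 := by
    calc f 1 = f 1 * 1 := (mul_one _).symm
      _ = f 1 * f (f 1) := by rw [hffX]
      _ = f (1 * f 1) := (hmul _ E.one_mem _ (hSE f hf _ E.one_mem)).symm
      _ = 1 := by rw [one_mul, hffX]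
  have hττ : ∀ s, τ (τ s) = s := by
    intro s
    have h1 := hffX (s • (1 : R K V))
    rw [hσ, hσ, hffX] at h1
    have h2 : (τ (τ s) - s) • (1 : R K V) = 0 := by rw [sub_smul, h1, sub_self]
    rcases smul_eq_zero.1 h2 with h3 | h3
    · exact sub_eq_zero.1 h3
    · exact absurd h3 one_ne_zero
  let ρ : E ≃+* E :=
    { toFun := fun X => ⟨f X, hSE f hf X X.2⟩
      invFun := fun X => ⟨f X, hSE f hf X X.2⟩
      left_inv := fun X => Subtype.ext (hffX X)
      right_inv := fun X => Subtype.ext (hffX X)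
      map_add' := fun X Y => Subtype.ext (hadd X Y)
      map_mul' := fun X Y => Subtype.ext (hmul X X.2 Y Y.2) }
  have hE2 : Nat.card E = (q0 ^ finrank K V) ^ 2 := by
    rw [Module.natCard_eq_pow_finrank (K := K), hd, hq, ← pow_mul, ← pow_mul, mul_comm]
  refine ⟨hone, eq_pow_of_two hττ hτ hq, ?_⟩
  have h1 := eq_pow_of_two (ρ := ρ) (fun X => Subtype.ext (hffX X)) (by
    obtain ⟨s, hs⟩ := hτ
    refine ⟨algebraMap K E s, ?_⟩
    intro h2
    apply hs
    have h3 : f (algebraMap K (R K V) s) = algebraMap K (R K V) s := congrArg Subtype.val h2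
    rw [Algebra.algebraMap_eq_smul_one, hσ, hone] at h3
    have h4 : (τ s - s) • (1 : R K V) = 0 := by rw [sub_smul, h3, sub_self]
    rcases smul_eq_zero.1 h4 with h5 | h5
    · exact sub_eq_zero.1 h5
    · exact absurd h5 one_ne_zero) hE2
  intro X hX
  exact congrArg (fun Z : E => (Z : R K V)) (h1 ⟨X, hX⟩)

theorem two_le {q0 : ℕ} (hq : Nat.card K = q0 ^ 2) : 2 ≤ q0 := by
  have h1 : 1 < Nat.card K := Finite.one_lt_card
  by_contra hcon
  have h2 : q0 ^ 2 ≤ 1 ^ 2 := Nat.pow_le_pow_left (by omega) 2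
  omega

theorem sing_up_field (h : Fr (SLX K V) A S) {E : Subalgebra K (R K V)} (hE : IsField E)
    (hd : finrank K E = finrank K V) (hSE : ∀ f ∈ S, ∀ X ∈ E, f X ∈ E) {τ : K ≃+* K} (hτ : ∃ s, τ s ≠ s) {q0 : ℕ}
    (hq : Nat.card K = q0 ^ 2) {f : Equiv.Perm (R K V)} (hf : f ∈ S) (hff : f * f = 1)
    (hσ : ∀ (s : K) X, f (s • X) = τ s • f X) (hauto : ∀ X Y, f (X * Y) = f X * f Y) :
    Nat.card {a // a ∈ A ∧ f * a = a * f} * (q0 - 1) ≤ finrank K V * (q0 ^ finrank K V - 1) := by
  haveI := h.nontriv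
  obtain ⟨hone, hτ2, hρ⟩ := exists_rho h hE hd hSE hτ hq hf hff hσ (fun X _ Y _ => hauto X Y)
  have hffX : ∀ X, f (f X) = X := fun X => by rw [← Equiv.Perm.mul_apply, hff]; rfl
  have hq2 := two_le hq
  set Q := q0 ^ finrank K V with hQ
  have hQ2 : 2 ≤ Q := hq2.trans (Nat.le_self_pow (by have := h.hn; omega) q0)
  have h1 := card_fix_le h hE hd hSE (f := f) (M := (Q - 1) * (q0 + 1)) (Nat.mul_pos (by omega) (by omega)) (by
    intro x hx hfx
    let y : (R K V)ˣ := ⟨f x, f ((x⁻¹ : (R K V)ˣ) : R K V), by rw [← hauto, Units.mul_inv, hone],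
      by rw [← hauto, Units.inv_mul, hone]⟩
    have hy : ((y : (R K V)ˣ) : R K V) = f x := rfl
    have hyi : ((y⁻¹ : (R K V)ˣ) : R K V) = f ((x⁻¹ : (R K V)ˣ) : R K V) := rfl
    have h2 : f * cj K V x = cj K V y * f := by
      apply Equiv.ext
      intro X
      rw [Equiv.Perm.mul_apply, Equiv.Perm.mul_apply, cj_apply, cj_apply, hy, hyi, hauto, hauto]
    rw [h2] at hfx
    have h3 : cj K V (x⁻¹ * y) = 1 := by
      rw [map_mul, mul_right_cancel hfx, map_inv, inv_mul_cancel]
    obtain ⟨s, hs⟩ := scalar_of_cj_one h3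
    have h4 : f x = s • (x : R K V) := by
      have h5 : (x : R K V) * ((x⁻¹ * y : (R K V)ˣ) : R K V) = (x : R K V) * (s • (1 : R K V)) := by rw [hs]
      rw [Units.val_mul, ← mul_assoc, Units.mul_inv, one_mul, mul_smul_comm, mul_one] at h5
      exact h5
    have h5 : s * τ s = 1 := by
      have h6 := hffX (x : R K V)
      rw [h4, hσ, h4, smul_smul] at h6
      have h7 : (τ s * s - 1) • (x : R K V) = 0 := by rw [sub_smul, h6, one_smul, sub_self]
      rcases smul_eq_zero.1 h7 with h8 | h8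
      · rw [mul_comm]; exact sub_eq_zero.1 h8
      · exact absurd h8 x.ne_zero
    have h6 : (x : R K V) ^ (Q - 1) = s • (1 : R K V) := by
      have h7 := hρ _ hx
      rw [h4] at h7
      have h8 : (x : R K V) * (x : R K V) ^ (Q - 1) = (x : R K V) * (s • (1 : R K V)) := by
        rw [← pow_succ', show Q - 1 + 1 = Q by omega, ← h7, mul_smul_comm, mul_one]
      exact (Units.mul_right_inj x).1 h8
    apply Units.ext
    rw [Units.val_pow_eq_pow_val, Units.val_one, pow_mul, h6, smul_pow, one_pow]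
    rw [hτ2] at h5
    rw [pow_succ', h5, one_smul])
  have h2 : Nat.card K - 1 = (q0 - 1) * (q0 + 1) := by
    rw [hq]
    obtain ⟨k, rfl⟩ := Nat.exists_eq_add_of_le' hq2
    have e1 : (k + 2) ^ 2 = (k + 1) * (k + 3) + 1 := by ring
    have e2 : (k + 2 - 1) * (k + 2 + 1) = (k + 1) * (k + 3) := rfl
    omega
  rw [h2] at h1
  apply Nat.le_of_mul_le_mul_right (c := q0 + 1) _ (by omega)
  calc _ = Nat.card {a // a ∈ A ∧ f * a = a * f} * ((q0 - 1) * (q0 + 1)) := by ring
    _ ≤ _ := h1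
    _ = _ := by ring

theorem sing_up_gf (h : Fr (SLX K V) A S) {E : Subalgebra K (R K V)} (hE : IsField E)
    (hd : finrank K E = finrank K V) (hSE : ∀ f ∈ S, ∀ X ∈ E, f X ∈ E) {τ : K ≃+* K} (hτ : ∃ s, τ s ≠ s) {q0 : ℕ}
    (hq : Nat.card K = q0 ^ 2) {f : Equiv.Perm (R K V)} (hf : f ∈ S) (hff : f * f = 1)
    (hσ : ∀ (s : K) X, f (s • X) = τ s • f X) (hanti : ∀ X Y, f (X * Y) = f Y * f X) :
    Nat.card {a // a ∈ A ∧ f * a = a * f} * (q0 + 1) ≤ finrank K V * (q0 ^ finrank K V + 1) := by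
  haveI := h.nontriv
  obtain ⟨hone, hτ2, hρ⟩ := exists_rho h hE hd hSE hτ hq hf hff hσ (fun X hX Y hY => by
    have h2 : X * Y = Y * X := congrArg Subtype.val (hE.mul_comm ⟨X, hX⟩ ⟨Y, hY⟩)
    rw [h2, hanti])
  have hffX : ∀ X, f (f X) = X := fun X => by rw [← Equiv.Perm.mul_apply, hff]; rfl
  have hq2 := two_le hq
  set Q := q0 ^ finrank K V with hQ
  have h1 := card_fix_le h hE hd hSE (f := f) (M := (Q + 1) * (q0 - 1)) (Nat.mul_pos (by omega) (by omega)) (by
    intro x hx hfx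
    let y : (R K V)ˣ := ⟨f x, f ((x⁻¹ : (R K V)ˣ) : R K V), by rw [← hanti, Units.inv_mul, hone],
      by rw [← hanti, Units.mul_inv, hone]⟩
    have hy : ((y : (R K V)ˣ) : R K V) = f x := rfl
    have hyi : ((y⁻¹ : (R K V)ˣ) : R K V) = f ((x⁻¹ : (R K V)ˣ) : R K V) := rfl
    have h2 : f * cj K V x = cj K V y⁻¹ * f := by
      apply Equiv.ext
      intro X
      rw [Equiv.Perm.mul_apply, Equiv.Perm.mul_apply, cj_apply, cj_apply, inv_inv, hy, hyi, hanti, hanti, mul_assoc]
    rw [h2] at hfx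
    have h3 : cj K V (y * x) = 1 := by
      rw [map_mul, ← mul_right_cancel hfx, ← map_mul, mul_inv_cancel, map_one]
    obtain ⟨s, hs⟩ := scalar_of_cj_one h3
    rw [Units.val_mul, hy] at hs
    have h5 : τ s = s := by
      have h6 : f (f x * (x : R K V)) = f x * (x : R K V) := by rw [hanti, hffX]
      rw [hs, hσ, hone] at h6
      have h7 : (τ s - s) • (1 : R K V) = 0 := by rw [sub_smul, h6, sub_self]
      rcases smul_eq_zero.1 h7 with h8 | h8
      · exact sub_eq_zero.1 h8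
      · exact absurd h8 one_ne_zero
    have hs0 : s ≠ 0 := by
      rintro rfl
      rw [zero_smul] at hs
      have h6 : ((y * x : (R K V)ˣ) : R K V) = 0 := hs
      exact (y * x).ne_zero h6
    have h6 : (x : R K V) ^ (Q + 1) = s • (1 : R K V) := by
      rw [pow_succ, ← hρ _ hx, hs]
    have h7 : s ^ (q0 - 1) = 1 := by
      rw [hτ2] at h5
      have h8 : s * s ^ (q0 - 1) = s * 1 := by
        rw [← pow_succ', show q0 - 1 + 1 = q0 by omega, h5, mul_one]
      exact mul_left_cancel₀ hs0 h8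
    apply Units.ext
    rw [Units.val_pow_eq_pow_val, Units.val_one, pow_mul, h6, smul_pow, one_pow, h7, one_smul])
  have h2 : Nat.card K - 1 = (q0 + 1) * (q0 - 1) := by
    rw [hq]
    obtain ⟨k, rfl⟩ := Nat.exists_eq_add_of_le' hq2
    have e1 : (k + 2) ^ 2 = (k + 3) * (k + 1) + 1 := by ring
    have e2 : (k + 2 + 1) * (k + 2 - 1) = (k + 3) * (k + 1) := rfl
    omega
  rw [h2] at h1
  apply Nat.le_of_mul_le_mul_right (c := q0 - 1) _ (by omega)
  calc _ = Nat.card {a // a ∈ A ∧ f * a = a * f} * ((q0 + 1) * (q0 - 1)) := by ring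
    _ ≤ _ := h1
    _ = _ := by ring

end Cfsg.Agent.H5.IFO
end

-- part: H243/IFO/Cls
section
/-!
# S5719, `|A|` odd, PSL: involutory automorphisms of `PSL_n(F)`, `n` odd (helper243)

`cls` : `n ≥ 3` odd, `orderOf σ = 2`: `σ` is inner, or a graph, field or graph-field automorphism.
-/

set_option autoImplicit false
set_option linter.unusedSectionVars false

namespace Cfsg.Agent.H243.IFO

open Cfsg Cfsg.Agent.H199.PslAut Cfsg.Agent.H199.PslField Cfsg.Agent.H199.PslGraphField
open Cfsg.Agent.ClassicalGeometry.AutPSL.Root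
open Cfsg.Agent.ClassicalGeometry.AutPSL.Auto
open Cfsg.Agent.ClassicalGeometry.AutPSL.Main
open Matrix

universe u

variable {F : Type u} [Field F] [Fintype F] {n : ℕ}

theorem pow_odd {X : Type*} [Monoid X] {x : X} (h : x ^ 2 = 1) {m : ℕ} (hm : Odd m) : x ^ m = x := by
  obtain ⟨k, rfl⟩ := hm
  rw [pow_succ, pow_mul, h, one_pow, one_mul]

/-- the `n`-th power of an inner-diagonal automorphism is inner -/
theorem exists_inner_pow (g : GL (Fin n) F) : ∃ a, Psi n F g ^ n = MulAut.conj a := by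
  have hdet : Matrix.GeneralLinearGroup.det ((scal n F (Matrix.GeneralLinearGroup.det g))⁻¹ * g ^ n) = 1 := by
    rw [map_mul, map_inv, map_pow, det_scal, inv_mul_cancel]
  obtain ⟨s, hs⟩ : ∃ s : Matrix.SpecialLinearGroup (Fin n) F,
      (s : GL (Fin n) F) = (scal n F (Matrix.GeneralLinearGroup.det g))⁻¹ * g ^ n :=
    ⟨⟨(((scal n F (Matrix.GeneralLinearGroup.det g))⁻¹ * g ^ n : GL (Fin n) F) : Matrix (Fin n) (Fin n) F), by
      rw [← Matrix.GeneralLinearGroup.val_det_apply, hdet, Units.val_one]⟩, Units.ext rfl⟩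
  refine ⟨pr s, ?_⟩
  rw [← Psi_coe, hs, map_mul, map_inv, Psi_scal, inv_one, one_mul, map_pow]

theorem exists_inner (hodd : Odd n) {g : GL (Fin n) F} (h : Psi n F g ^ 2 = 1) : ∃ a, Psi n F g = MulAut.conj a := by
  obtain ⟨a, ha⟩ := exists_inner_pow g
  exact ⟨a, (pow_odd h hodd).symm.trans ha⟩

theorem field_of_conj {τ : F ≃+* F} (hτ : τ ≠ RingEquiv.refl F) {H : Subgroup (MulAut (ProjectiveSpecialLinearGroup (Fin n) F))}
    {σ : MulAut (ProjectiveSpecialLinearGroup (Fin n) F)} (h : IsConjUnder H (phi n F τ) σ) : IsFieldAutClassPSL σ := by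
  obtain ⟨y, -, rfl⟩ := h
  refine ⟨y⁻¹, τ, hτ, (std_iff τ _).2 ?_⟩
  group

theorem graphField_of_conj (hn : 3 ≤ n) {τ : F ≃+* F} (hτ : τ ≠ RingEquiv.refl F)
    {H : Subgroup (MulAut (ProjectiveSpecialLinearGroup (Fin n) F))}
    {σ : MulAut (ProjectiveSpecialLinearGroup (Fin n) F)} (h : IsConjUnder H (gf n τ) σ) : IsGraphFieldAutClassPSL σ := by
  obtain ⟨y, -, rfl⟩ := h
  refine ⟨hn, y⁻¹, phi n F τ, iot n F, τ, hτ, (std_iff τ _).2 rfl, (invTr_iff _).2 rfl, ?_⟩
  rw [gf]
  group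

/-- **The involutory automorphisms of `PSL_n(F)`, `n` odd.** -/
theorem cls (hn : 3 ≤ n) (hodd : Odd n) {σ : MulAut (ProjectiveSpecialLinearGroup (Fin n) F)} (ho : orderOf σ = 2) :
    (∃ a, σ = MulAut.conj a) ∨ IsGraphAutClassPSL σ ∨ IsFieldAutClassPSL σ ∨ IsGraphFieldAutClassPSL σ := by
  have hn2 : 2 ≤ n := by omega
  obtain ⟨f, hp, hF⟩ := FiniteField.card F (ringChar F)
  have : Fact (ringChar F).Prime := ⟨hp⟩
  have h2 : σ ^ 2 = 1 := by rw [← ho, pow_orderOf_eq_one]
  rcases exists_form hn2 σ with ⟨g, τ, rfl⟩ | ⟨-, g, τ, rfl⟩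
  · by_cases hτ : τ = RingEquiv.refl F
    · left
      have h1 : phi n F τ = 1 := by rw [hτ]; exact map_one _
      rw [h1, mul_one] at h2 ⊢
      exact exists_inner hodd h2
    · right; right; left
      have h1 : Psi n F (g * mapGL τ g) * phi n F (τ ^ 2) = phi n F 1 := by
        rw [map_one, ← h2, pow_two, pow_two, map_mul, map_mul]
        calc Psi n F g * Psi n F (mapGL τ g) * (phi n F τ * phi n F τ)
            = Psi n F g * (Psi n F (mapGL τ g) * phi n F τ) * phi n F τ := by group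
          _ = Psi n F g * (phi n F τ * Psi n F g) * phi n F τ := by rw [phi_mul_Psi]
          _ = _ := by group
      have h3 := (Psi_phi_eq hn2 h1).2
      have h4 : orderOf (phi n F τ) = 2 := by
        refine orderOf_eq_prime (by rw [← map_pow, h3, map_one]) ?_
        intro h5
        exact hτ (phi_injective hn2 (by rw [h5]; exact (map_one _).symm))
      exact field_of_conj hτ ((Cfsg.Agent.S2697.result hF f.pos hn2 (by omega) (phi n F τ) (Psi n F g)
        (Or.inl ⟨1, τ, hτ, (std_iff τ _).2 (by group)⟩) Nat.prime_two h4 (Psi_mem g)).1 ho)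
  · by_cases hτ : τ = RingEquiv.refl F
    · right; left
      have h1 : phi n F τ = 1 := by rw [hτ]; exact map_one _
      rw [h1, mul_one]
      exact ⟨hn, Psi n F g, iot n F, (innerDiag_iff _).2 ⟨g, rfl⟩, (invTr_iff _).2 rfl, rfl⟩
    · right; right; right
      rw [mul_assoc] at h2 ho ⊢
      change (Psi n F g * gf n τ) ^ 2 = 1 at h2
      have h1 : Psi n F (g * mapGL τ (itGL g)) * phi n F (τ ^ 2) = phi n F 1 := by
        rw [map_one, ← h2, ← gf_sq, map_mul, pow_two, pow_two]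
        calc Psi n F g * Psi n F (mapGL τ (itGL g)) * (gf n τ * gf n τ)
            = Psi n F g * (Psi n F (mapGL τ (itGL g)) * gf n τ) * gf n τ := by group
          _ = Psi n F g * (gf n τ * Psi n F g) * gf n τ := by rw [gf_mul_Psi]
          _ = _ := by group
      have h3 := (Psi_phi_eq hn2 h1).2
      have h4 : orderOf (gf n τ) = 2 := by
        refine orderOf_eq_prime (by rw [gf_sq, h3, map_one]) ?_
        intro h5
        exact not_graph' hn (g := 1) (σ := τ) (τ := 1) (by rw [map_one, one_mul, map_one]; exact h5)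
      exact graphField_of_conj hn hτ ((Cfsg.Agent.S2697.result hF f.pos hn2 (by omega) (gf n τ) (Psi n F g)
        (Or.inr ⟨hn, 1, phi n F τ, iot n F, τ, hτ, (std_iff τ _).2 rfl, (invTr_iff _).2 rfl, by rw [gf]; group⟩)
        Nat.prime_two h4 (Psi_mem g)).1 ho)

end Cfsg.Agent.H243.IFO
end

-- part: H243/IFO/Num
section
/-!
# S5719, `|A|` odd: numbers (helper243)

* `exists_idx` : `σ ∈ Γ` an involution: `f |C_A(σ)| = |C_T(σ)|`, `f ^ 6 < |T : A|`;
* `card_cent` : `|C_G(σ)| = r |C_T(σ)|`, `r ∣ |G : Inn T|`, for `Inn T ≤ G ≤ Aut T`;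
* `num_core` : the numerical contradiction.
-/

set_option autoImplicit false
set_option linter.unusedSectionVars false

namespace Cfsg.Agent.H243.IFO

open Cfsg Subgroup Cfsg.Agent.H209.Fxy

universe u

section general

variable {T : Type u} [Group T] [Finite T]

/-- the fixed subgroup -/
def fixS (σ : MulAut T) : Subgroup T where
  carrier := {t | σ t = t}
  one_mem' := map_one σ
  mul_mem' := by
    intro a b ha hb
    change σ (a * b) = a * b
    rw [map_mul, show σ a = a from ha, show σ b = b from hb]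
  inv_mem' := by
    intro a ha
    change σ a⁻¹ = a⁻¹
    rw [map_inv, show σ a = a from ha]

theorem exists_idx {A : Subgroup T} {Γ : Subgroup (MulAut T)} (h : IF A Γ) {σ : MulAut T} (hσ : σ ∈ Γ)
    (ho : orderOf σ = 2) :
    ∃ f : ℕ, f * Nat.card {a // a ∈ A ∧ σ a = a} = Nat.card {t // σ t = t} ∧ f ^ 6 < A.index := by
  refine ⟨(A.comap (fixS σ).subtype).index, ?_, Cfsg.Agent.H460.IFO.comap_lt h hσ ho (fixS σ).subtype fun k => k.2⟩
  have h1 := (A.comap (fixS σ).subtype).card_mul_index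
  have h2 : Nat.card (A.comap (fixS σ).subtype) = Nat.card {a // a ∈ A ∧ σ a = a} :=
    Nat.card_congr
      { toFun := fun x => ⟨x.1.1, x.2, x.1.2⟩
        invFun := fun x => ⟨⟨x.1, x.2.2⟩, x.2.1⟩
        left_inv := fun _ => rfl
        right_inv := fun _ => rfl }
  rw [h2, mul_comm] at h1
  exact h1

theorem relIndex_dvd {X : Type u} [Group X] {N G C : Subgroup X} [N.Normal] (hC : C ≤ G) :
    N.relIndex C ∣ N.relIndex G := by
  rw [← relIndex_subgroupOf hC]
  exact relIndex_dvd_index_of_normal _ _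

theorem card_cent (hZ : center T = ⊥) {G : Subgroup (MulAut T)} (hG : Inn T ≤ G) (σ : MulAut T) :
    ∃ r : ℕ, r ∣ (Inn T).relIndex G ∧
      Nat.card ↥(G ⊓ centralizer {σ}) = r * Nat.card {t // σ t = t} := by
  have hN : (Inn T).Normal := innNormal _
  refine ⟨(Inn T).relIndex (G ⊓ centralizer {σ}), relIndex_dvd inf_le_left, ?_⟩
  have h1 := ((Inn T).subgroupOf (G ⊓ centralizer {σ})).card_mul_index
  rw [← h1, mul_comm]
  congr 1
  have hinj : Function.Injective (MulAut.conj : T →* MulAut T) := by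
    rw [← MonoidHom.ker_eq_bot_iff, Subgroup.eq_bot_iff_forall]
    intro a ha
    rw [← mem_bot, ← hZ, mem_center_iff]
    intro b
    have h2 : MulAut.conj a b = b := by rw [MonoidHom.mem_ker.1 ha]; rfl
    rw [MulAut.conj_apply, mul_inv_eq_iff_eq_mul] at h2
    exact h2.symm
  have hconj : ∀ t : T, σ * MulAut.conj t * σ⁻¹ = MulAut.conj (σ t) := by
    intro t
    ext x
    simp only [MulAut.mul_apply, MulAut.conj_apply, _root_.MulAut.mul_apply, _root_.MulAut.inv_apply, _root_.MulAut.conj_apply, _root_.map_mul, _root_.MulEquiv.apply_symm_apply, _root_.map_inv]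
  have hmem : ∀ t : T, σ t = t → MulAut.conj t ∈ G ⊓ centralizer {σ} := by
    intro t ht
    refine ⟨hG ⟨t, rfl⟩, mem_centralizer_singleton_iff.2 ?_⟩
    have h3 := hconj t
    rw [ht, mul_inv_eq_iff_eq_mul] at h3
    exact h3.symm
  let f : {t // σ t = t} → ((Inn T).subgroupOf (G ⊓ centralizer {σ}) : Subgroup _) := fun t =>
    ⟨⟨MulAut.conj t.1, hmem t.1 t.2⟩, ⟨t.1, rfl⟩⟩
  symm
  refine Nat.card_congr (Equiv.ofBijective f ⟨?_, ?_⟩)
  · intro a b hab
    have h3 := congrArg (fun z => ((z : ↥(G ⊓ centralizer {σ})) : MulAut T)) (congrArg Subtype.val hab)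
    exact Subtype.ext (hinj h3)
  · intro y
    obtain ⟨t, ht⟩ : ∃ t, MulAut.conj t = ((y : ↥(G ⊓ centralizer {σ})) : MulAut T) := y.2
    have hx2 := mem_centralizer_singleton_iff.1 (y : ↥(G ⊓ centralizer {σ})).2.2
    refine ⟨⟨t, ?_⟩, Subtype.ext (Subtype.ext ht)⟩
    apply hinj
    rw [← hconj t, mul_inv_eq_iff_eq_mul, ht]
    exact hx2.symm

end general

/-! ### Numbers -/

/-- `∏ (x ^ i - 1)`, `1 ≤ i ≤ m + 1` -/
def W (x m : ℕ) : ℕ := ∏ i ∈ Finset.range (m + 1), (x ^ (i + 1) - 1)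

theorem W_eq (x m : ℕ) : W x m = (x - 1) * ∏ i ∈ Finset.range m, (x ^ (i + 2) - 1) := by
  unfold W
  rw [Finset.prod_range_succ', mul_comm, zero_add, pow_one]

theorem gauss (m : ℕ) : ∑ i ∈ Finset.range (m + 1), (i + 1) = (m + 2) * (m + 1) / 2 := by
  have h := Finset.sum_range_id_mul_two (m + 2)
  rw [Finset.sum_range_succ', add_zero, show m + 2 - 1 = m + 1 from rfl] at h
  omega

theorem W_le (x m : ℕ) : W x m ≤ x ^ ((m + 2) * (m + 1) / 2) := by
  unfold W
  rw [← gauss, ← Finset.prod_pow_eq_pow_sum]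
  exact Finset.prod_le_prod' fun i _ => Nat.sub_le _ _

theorem le_W {x : ℕ} (hx : 2 ≤ x) (m : ℕ) : x ^ ((m + 2) * (m + 1) / 2) ≤ W x m * x ^ (m + 1) := by
  unfold W
  have h1 : x ^ (m + 1) = ∏ _i ∈ Finset.range (m + 1), x := by rw [Finset.prod_const, Finset.card_range]
  rw [← gauss, ← Finset.prod_pow_eq_pow_sum, h1, ← Finset.prod_mul_distrib]
  refine Finset.prod_le_prod' fun i _ => ?_
  have h2 : 1 ≤ x ^ i := Nat.one_le_pow _ _ (by omega)
  have h3 : x ^ (i + 1) = x ^ i * x := pow_succ x i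
  have h4 : x ^ i * 2 ≤ x ^ i * x := Nat.mul_le_mul_left _ hx
  calc x ^ (i + 1) = x ^ i * x := h3
    _ ≤ (x ^ (i + 1) - 1) * x := Nat.mul_le_mul_right _ (by omega)

/-- **The numbers.** -/
theorem num_core {m q e f I : ℕ} (hm : m = 1 ∧ 3 ≤ q ∨ 3 ≤ m ∧ 2 ≤ q) (he : e ≤ m + 2)
    (hI : I ≤ (q ^ 2) ^ ((m + 2) * (m + 1) / 2) * W (q ^ 2) m)
    (hf : q ^ ((m + 2) * (m + 1) / 2) * W q m ≤ e * f * (m + 2)) (hlt : f ^ 6 < I) : False := by
  have hq : 2 ≤ q := by omega
  set N := (m + 2) * (m + 1) / 2 with hN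
  have hN2 : 2 * N = (m + 2) * (m + 1) := by
    have h1 : Even ((m + 1) * (m + 1 + 1)) := Nat.even_mul_succ_self (m + 1)
    have h2 : 2 ∣ (m + 2) * (m + 1) := by
      rw [mul_comm]
      exact h1.two_dvd
    omega
  have h1 : I ≤ q ^ (4 * N) := by
    calc I ≤ (q ^ 2) ^ N * W (q ^ 2) m := hI
      _ ≤ (q ^ 2) ^ N * (q ^ 2) ^ N := Nat.mul_le_mul_left _ (W_le _ _)
      _ = q ^ (4 * N) := by rw [← pow_mul, ← pow_add]; congr 1; ring
  have h2 : q ^ (2 * N) ≤ (m + 2) ^ 2 * f * q ^ (m + 1) := by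
    calc q ^ (2 * N) = q ^ N * q ^ N := by rw [← pow_add]; congr 1; ring
      _ ≤ q ^ N * (W q m * q ^ (m + 1)) := Nat.mul_le_mul_left _ (le_W hq m)
      _ = q ^ N * W q m * q ^ (m + 1) := by ring
      _ ≤ e * f * (m + 2) * q ^ (m + 1) := Nat.mul_le_mul_right _ hf
      _ ≤ (m + 2) * f * (m + 2) * q ^ (m + 1) := by gcongr
      _ = (m + 2) ^ 2 * f * q ^ (m + 1) := by ring
  have h3 : q ^ (12 * N) ≤ (m + 2) ^ 12 * f ^ 6 * q ^ (6 * (m + 1)) := by
    calc q ^ (12 * N) = (q ^ (2 * N)) ^ 6 := by rw [← pow_mul]; congr 1; ring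
      _ ≤ ((m + 2) ^ 2 * f * q ^ (m + 1)) ^ 6 := Nat.pow_le_pow_left h2 6
      _ = (m + 2) ^ 12 * f ^ 6 * q ^ (6 * (m + 1)) := by ring
  have hpos : 0 < (m + 2) ^ 12 * q ^ (6 * (m + 1)) := by positivity
  have h4 : q ^ (12 * N) < (m + 2) ^ 12 * q ^ (4 * N) * q ^ (6 * (m + 1)) := by
    calc q ^ (12 * N) ≤ (m + 2) ^ 12 * f ^ 6 * q ^ (6 * (m + 1)) := h3
      _ = f ^ 6 * ((m + 2) ^ 12 * q ^ (6 * (m + 1))) := by ring
      _ < q ^ (4 * N) * ((m + 2) ^ 12 * q ^ (6 * (m + 1))) :=
          Nat.mul_lt_mul_of_pos_right (hlt.trans_le h1) hpos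
      _ = _ := by ring
  have h5 : (m + 2) ^ 12 ≤ q ^ ((m + 1) * (4 * m + 2)) := by
    rcases hm with ⟨rfl, h3q⟩ | ⟨h3m, -⟩
    · calc (1 + 2) ^ 12 ≤ q ^ 12 := Nat.pow_le_pow_left h3q 12
        _ = q ^ ((1 + 1) * (4 * 1 + 2)) := rfl
    · have h6 : m + 2 ≤ q ^ (m + 1) := by
        calc m + 2 ≤ 2 ^ (m + 1) := Nat.lt_two_pow_self
          _ ≤ q ^ (m + 1) := Nat.pow_le_pow_left hq _
      calc (m + 2) ^ 12 ≤ (q ^ (m + 1)) ^ 12 := Nat.pow_le_pow_left h6 12
        _ = q ^ ((m + 1) * 12) := by rw [← pow_mul]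
        _ ≤ q ^ ((m + 1) * (4 * m + 2)) := Nat.pow_le_pow_right (by omega) (Nat.mul_le_mul_left _ (by omega))
  have h6 : (m + 2) ^ 12 * q ^ (4 * N) * q ^ (6 * (m + 1)) ≤ q ^ (12 * N) := by
    calc (m + 2) ^ 12 * q ^ (4 * N) * q ^ (6 * (m + 1))
        ≤ q ^ ((m + 1) * (4 * m + 2)) * q ^ (4 * N) * q ^ (6 * (m + 1)) := by gcongr
      _ = q ^ (12 * N) := by
        rw [← pow_add, ← pow_add]
        congr 1
        have h7 : 8 * N = 4 * ((m + 2) * (m + 1)) := by omega
        linarith only [hN2]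
  omega

end Cfsg.Agent.H243.IFO
end

-- part: H243/IFO/NumPsl
section
/-!
# S5719, `|A|` odd, `PSL_n(F)`, `n` odd: field and graph-field involutions (helper243)

* `num_field`, `num_gf` : the numerical contradictions in the Singer case.
-/

set_option autoImplicit false
set_option linter.unusedSectionVars false

namespace Cfsg.Agent.H243.IFO

open Cfsg Subgroup Cfsg.Agent.H209.Fxy Matrix

universe u

variable {F : Type u} [Field F] [Fintype F]

/-- the index of `A` is small -/
theorem index_le {m : ℕ} {A : Subgroup (ProjectiveSpecialLinearGroup (Fin (m + 2)) F)}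
    (hlow : Fintype.card F ^ (m + 2) - 1 ≤
      (Fintype.card F - 1) * (m + 2).gcd (Fintype.card F - 1) * Nat.card A) :
    A.index ≤ Fintype.card F ^ ((m + 2) * (m + 1) / 2) * W (Fintype.card F) m := by
  have hq : 2 ≤ Fintype.card F := Fintype.one_lt_card
  have h1 := Cfsg.Agent.H277.ClsPsl.card_psl (F := F) rfl (n := m + 2) (by omega)
  rw [show m + 2 - 1 = m + 1 from rfl, Finset.prod_range_succ] at h1
  have h2 := A.card_mul_index
  set q := Fintype.card F with hqd
  have hpos : 0 < q ^ (m + 2) - 1 := by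
    have : q ^ 1 ≤ q ^ (m + 2) := Nat.pow_le_pow_right (by omega) (by omega)
    rw [pow_one] at this
    omega
  apply Nat.le_of_mul_le_mul_right _ hpos
  calc A.index * (q ^ (m + 2) - 1) ≤ A.index * ((q - 1) * (m + 2).gcd (q - 1) * Nat.card A) :=
        Nat.mul_le_mul_left _ hlow
    _ = (q - 1) * ((m + 2).gcd (q - 1) * (Nat.card A * A.index)) := by ring
    _ = (q - 1) * (q ^ ((m + 2) * (m + 1) / 2) *
          ((∏ i ∈ Finset.range m, (q ^ (i + 2) - 1)) * (q ^ (m + 2) - 1))) := by rw [h2, h1]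
    _ = q ^ ((m + 2) * (m + 1) / 2) * W q m * (q ^ (m + 2) - 1) := by rw [W_eq]; ring

theorem center_psl {n : ℕ} (hn : 3 ≤ n) : center (ProjectiveSpecialLinearGroup (Fin n) F) = ⊥ := by
  have hs : IsSimpleGroup (ProjectiveSpecialLinearGroup (Fin n) F) :=
    Cfsg.Agent.H242.StrP.FC.simple_psl (by omega) (by omega)
  rcases hs.eq_bot_or_eq_top_of_normal (center (ProjectiveSpecialLinearGroup (Fin n) F)) inferInstance with h | h
  · exact h
  · exfalso
    apply Cfsg.Agent.H242.StrP.FC.not_comm_psl hs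
    exact ⟨⟨fun a b => (mem_center_iff.1 (by rw [h]; exact mem_top b) a)⟩⟩

/-- the centralizers in `Inndiag` and in `T` -/
theorem card_cent_psl {n : ℕ} (hn : 3 ≤ n) (σ : MulAut (ProjectiveSpecialLinearGroup (Fin n) F)) :
    ∃ r : ℕ, r ∣ n.gcd (Fintype.card F - 1) ∧
      Nat.card ↥(inndiagPSL n F ⊓ centralizer {σ}) = r * Nat.card {t // σ t = t} := by
  have hfin : Finite (ProjectiveSpecialLinearGroup (Fin n) F) := by
    unfold ProjectiveSpecialLinearGroup
    infer_instance
  obtain ⟨r, h1, h2⟩ := card_cent (center_psl hn) (G := inndiagPSL n F) Cfsg.Agent.H242.StrP.FC.inn_le_psl σ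
  rw [Cfsg.Agent.H242.StrP.FC.relIndex_psl (by omega) (center_psl hn)] at h1
  exact ⟨r, h1, h2⟩

theorem odd_fix {T : Type u} [Group T] [Finite T] {A : Subgroup T} (hA : Odd (Nat.card A)) (σ : MulAut T) :
    Odd (Nat.card {a // a ∈ A ∧ σ a = a}) := by
  have h1 : Nat.card {a // a ∈ A ∧ σ a = a} = Nat.card (A ⊓ fixS σ : Subgroup T) := rfl
  rw [h1]
  exact hA.of_dvd_nat (card_dvd_of_le inf_le_left)

/-- **Field automorphisms.** -/
theorem num_field {n : ℕ} (hn : 3 ≤ n) (hodd : Odd n) {A : Subgroup (ProjectiveSpecialLinearGroup (Fin n) F)}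
    {Γ : Subgroup (MulAut (ProjectiveSpecialLinearGroup (Fin n) F))} (h : IF A Γ) (hA : Odd (Nat.card A))
    {σ : MulAut (ProjectiveSpecialLinearGroup (Fin n) F)} (hσ : σ ∈ Γ) (ho : orderOf σ = 2)
    (hcl : IsFieldAutClassPSL σ) {q : ℕ} (hq : Fintype.card F = q ^ 2)
    (hlow : Fintype.card F ^ n - 1 ≤ (Fintype.card F - 1) * n.gcd (Fintype.card F - 1) * Nat.card A)
    (hup : Nat.card {a // a ∈ A ∧ σ a = a} * (q - 1) ≤ n * (q ^ n - 1)) : False := by
  obtain ⟨f, hp, hF⟩ := FiniteField.card F (ringChar F)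
  have : Fact (ringChar F).Prime := ⟨hp⟩
  set p := ringChar F with hpd
  have hfin : Finite (ProjectiveSpecialLinearGroup (Fin n) F) := by
    unfold ProjectiveSpecialLinearGroup
    infer_instance
  -- the subfield
  have h2f : 2 ∣ (f : ℕ) := by
    have h1 : ∃ (g : ℕ), q = p ^ g := by
      obtain ⟨g, -, hg⟩ := (Nat.dvd_prime_pow hp).1 (show q ∣ p ^ (f : ℕ) from by
        rw [← hF, hq]
        exact dvd_pow_self q (by norm_num))
      exact ⟨g, hg⟩
    obtain ⟨g, hg⟩ := h1
    rw [hg, ← pow_mul, hF] at hq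
    exact ⟨g, by rw [mul_comm]; exact Nat.pow_right_injective hp.two_le hq⟩
  have hf2 : (f : ℕ) / 2 ≠ 0 := by
    have := f.pos
    omega
  have hq' : q = p ^ ((f : ℕ) / 2) := by
    have h1 : q ^ 2 = (p ^ ((f : ℕ) / 2)) ^ 2 := by
      rw [← hq, hF, ← pow_mul, Nat.div_mul_cancel h2f]
    exact Nat.pow_left_injective (by norm_num : 2 ≠ 0) h1
  have hfin0 : Fintype (GaloisField p ((f : ℕ) / 2)) := Fintype.ofFinite _
  have hF₀ : Fintype.card (GaloisField p ((f : ℕ) / 2)) = p ^ ((f : ℕ) / 2) := by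
    rw [← Nat.card_eq_fintype_card, GaloisField.card p _ hf2]
  obtain ⟨-, ⟨e⟩, -⟩ := Cfsg.Agent.S2698.result hF f.pos (n := n) (by omega) (by omega) σ hcl Nat.prime_two ho
    (GaloisField p ((f : ℕ) / 2)) hF₀
  rw [← hq'] at hF₀
  have hq2 : 2 ≤ q := by rw [← hF₀]; exact Fintype.one_lt_card
  obtain ⟨r, hr, hr'⟩ := card_cent_psl hn σ
  rw [Nat.card_congr e.toEquiv, Cfsg.Agent.H277.ClsPsl.card_pgl hF₀ (by omega),
    Cfsg.Agent.H277.ClsPsl.card_psl hF₀ (by omega)] at hr'
  obtain ⟨k, hk, hk6⟩ := exists_idx h hσ ho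
  have hc := odd_fix hA σ
  rw [← hk] at hr'
  set c := Nat.card {a // a ∈ A ∧ σ a = a} with hcd
  obtain ⟨m, rfl⟩ : ∃ m, n = m + 2 := ⟨n - 2, by omega⟩
  rw [show m + 2 - 1 = m + 1 from rfl, Finset.prod_range_succ] at hr'
  have hI := index_le hlow
  rw [hq] at hI
  have hpos : 0 < q ^ (m + 2) - 1 := by
    have : q ^ 1 ≤ q ^ (m + 2) := Nat.pow_le_pow_right (by omega) (by omega)
    rw [pow_one] at this
    omega
  -- the lower bound
  have hlo : q ^ ((m + 2) * (m + 1) / 2) * W q m ≤ r * k * (m + 2) := by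
    apply Nat.le_of_mul_le_mul_right _ hpos
    calc q ^ ((m + 2) * (m + 1) / 2) * W q m * (q ^ (m + 2) - 1)
        = (q - 1) * (q ^ ((m + 2) * (m + 1) / 2) *
          ((∏ i ∈ Finset.range m, (q ^ (i + 2) - 1)) * (q ^ (m + 2) - 1))) := by rw [W_eq]; ring
      _ = r * k * (c * (q - 1)) := by rw [hr']; ring
      _ ≤ r * k * ((m + 2) * (q ^ (m + 2) - 1)) := Nat.mul_le_mul_left _ hup
      _ = r * k * (m + 2) * (q ^ (m + 2) - 1) := by ring
  have hrn : r ≤ m + 2 := (Nat.le_of_dvd (Nat.gcd_pos_of_pos_left _ (by omega)) hr).trans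
    (Nat.le_of_dvd (by omega) (Nat.gcd_dvd_left _ _))
  by_cases hsp : m = 1 ∧ q = 2
  · obtain ⟨rfl, rfl⟩ := hsp
    have hr3 : r ∣ 3 := hr.trans (Nat.gcd_dvd_left _ _)
    have hW1 : W 2 1 = 3 := by decide
    have hW2 : W (2 ^ 2) 1 = 45 := by decide
    rw [hW1] at hlo
    rw [hW2] at hI
    norm_num at hlo hI
    have hk3 : k < 4 := by
      by_contra hcon
      push Not at hcon
      have := Nat.pow_le_pow_left hcon 6
      omega
    have hr1 : r = 1 ∨ r = 3 := (Nat.dvd_prime (by norm_num)).1 hr3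
    have hk' : k = 3 := by
      rcases hr1 with rfl | rfl <;> omega
    subst hk'
    norm_num [Finset.prod_range_succ] at hr'
    obtain ⟨c', hc'⟩ := hc
    rcases hr1 with rfl | rfl <;> omega
  · refine num_core (m := m) (q := q) ?_ hrn hI hlo hk6
    obtain ⟨j, hj⟩ := hodd
    by_cases hm1 : m = 1
    · left
      refine ⟨hm1, ?_⟩
      by_contra hcon
      exact hsp ⟨hm1, by omega⟩
    · right
      exact ⟨by omega, hq2⟩

/-! ### Graph-field automorphisms -/

theorem card_scalars_le {n q : ℕ} (hn : 1 ≤ n) (hF : Fintype.card F = q ^ 2) :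
    Nat.card ((Geo.scalars (Fin n) F).subgroupOf (GU n F q)) ≤ q + 1 := by
  rw [← Cfsg.Agent.ClassicalGeometry.GUBasic.card_rootsOfUnity_eq hF]
  have key : ∀ A : (Geo.scalars (Fin n) F).subgroupOf (GU n F q), ∃ u : rootsOfUnity (q + 1) F,
      (((A : GU n F q) : GL (Fin n) F) : Matrix (Fin n) (Fin n) F) = diagonal fun _ => ((u : Fˣ) : F) := by
    intro A
    have hA : (A : GU n F q) ∈ center (GU n F q) := by
      obtain ⟨c, hc⟩ := (Geo.mem_scalars_iff _).1 (mem_subgroupOf.1 A.2)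
      rw [mem_center_iff]
      intro B
      apply Subtype.ext
      apply Units.ext
      rw [Subgroup.coe_mul, Subgroup.coe_mul, Units.val_mul, Units.val_mul, hc]
      simp
    obtain ⟨c, hc, hA'⟩ := (Cfsg.Agent.ClassicalGeometry.GUBasic.mem_center_GU_iff hF hn _).1 hA
    have hc0 : c ≠ 0 := by
      rintro rfl
      rw [zero_pow (by omega)] at hc
      exact zero_ne_one hc
    refine ⟨⟨Units.mk0 c hc0, ?_⟩, ?_⟩
    · rw [mem_rootsOfUnity]
      apply Units.ext
      rw [Units.val_pow_eq_pow_val, Units.val_mk0, Units.val_one]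
      exact hc
    · rw [hA']
      exact Cfsg.Agent.ClassicalGeometry.GUBasic.coe_guDiag q _ _
  choose g hg using key
  refine Nat.card_le_card_of_injective g fun A B hAB => ?_
  apply Subtype.ext
  apply Subtype.ext
  apply Units.ext
  rw [hg A, hg B, hAB]

theorem card_pgu_ge {n q : ℕ} (hn : 1 ≤ n) (hF : Fintype.card F = q ^ 2) :
    Nat.card (GU n F q) ≤ Nat.card (PGU n F q) * (q + 1) := by
  rw [card_eq_card_quotient_mul_card_subgroup ((Geo.scalars (Fin n) F).subgroupOf (GU n F q))]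
  exact Nat.mul_le_mul_left _ (card_scalars_le hn hF)

theorem W_le_V (x m : ℕ) :
    W x m ≤ ∏ i ∈ Finset.range (m + 1), (if Even i then x ^ (i + 1) + 1 else x ^ (i + 1) - 1) := by
  unfold W
  refine Finset.prod_le_prod' fun i _ => ?_
  split_ifs
  · omega
  · exact le_rfl

/-- **Graph-field automorphisms.** -/
theorem num_gf {n : ℕ} (hn : 3 ≤ n) (hodd : Odd n) {A : Subgroup (ProjectiveSpecialLinearGroup (Fin n) F)}
    {Γ : Subgroup (MulAut (ProjectiveSpecialLinearGroup (Fin n) F))} (h : IF A Γ)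
    {σ : MulAut (ProjectiveSpecialLinearGroup (Fin n) F)} (hσ : σ ∈ Γ) (ho : orderOf σ = 2)
    (hcl : IsGraphFieldAutClassPSL σ) {q : ℕ} (hq : Fintype.card F = q ^ 2)
    (hlow : Fintype.card F ^ n - 1 ≤ (Fintype.card F - 1) * n.gcd (Fintype.card F - 1) * Nat.card A)
    (hup : Nat.card {a // a ∈ A ∧ σ a = a} * (q + 1) ≤ n * (q ^ n + 1)) : False := by
  obtain ⟨f, hp, hF⟩ := FiniteField.card F (ringChar F)
  have : Fact (ringChar F).Prime := ⟨hp⟩
  set p := ringChar F with hpd
  have hfin : Finite (ProjectiveSpecialLinearGroup (Fin n) F) := by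
    unfold ProjectiveSpecialLinearGroup
    infer_instance
  obtain ⟨h2f, -, ⟨e⟩, -⟩ := Cfsg.Agent.S2704.result hF f.pos hn σ hcl ho
  have hq' : q = p ^ ((f : ℕ) / 2) := by
    have h1 : q ^ 2 = (p ^ ((f : ℕ) / 2)) ^ 2 := by
      rw [← hq, hF, ← pow_mul, Nat.div_mul_cancel h2f.two_dvd]
    exact Nat.pow_left_injective (by norm_num : 2 ≠ 0) h1
  rw [← hq'] at e
  have hq2 : 2 ≤ q := Cfsg.Agent.ClassicalGeometry.GUBasic.two_le hq
  obtain ⟨r, hr, hr'⟩ := card_cent_psl hn σ
  rw [Nat.card_congr e.toEquiv] at hr'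
  obtain ⟨k, hk, hk6⟩ := exists_idx h hσ ho
  have hG := card_pgu_ge (n := n) (q := q) (F := F) (by omega) hq
  rw [S0277.result hq n, hr', ← hk] at hG
  set c := Nat.card {a // a ∈ A ∧ σ a = a} with hcd
  obtain ⟨m, rfl⟩ : ∃ m, n = m + 2 := ⟨n - 2, by omega⟩
  have hme : Even (m + 1) := by
    obtain ⟨j, hj⟩ := hodd
    exact ⟨j, by omega⟩
  rw [show m + 2 - 1 = m + 1 from rfl, Finset.prod_range_succ _ (m + 1), if_pos hme] at hG
  have hI := index_le hlow
  rw [hq] at hI
  set V := ∏ i ∈ Finset.range (m + 1), (if Even i then q ^ (i + 1) + 1 else q ^ (i + 1) - 1) with hV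
  have hlo : q ^ ((m + 2) * (m + 1) / 2) * V ≤ r * k * (m + 2) := by
    apply Nat.le_of_mul_le_mul_right _ (show 0 < q ^ (m + 2) + 1 by omega)
    calc q ^ ((m + 2) * (m + 1) / 2) * V * (q ^ (m + 2) + 1)
        = q ^ ((m + 2) * (m + 1) / 2) * (V * (q ^ (m + 1 + 1) + 1)) := by ring
      _ ≤ r * (k * c) * (q + 1) := hG
      _ = r * k * (c * (q + 1)) := by ring
      _ ≤ r * k * ((m + 2) * (q ^ (m + 2) + 1)) := Nat.mul_le_mul_left _ hup
      _ = r * k * (m + 2) * (q ^ (m + 2) + 1) := by ring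
  have hrn : r ≤ m + 2 := (Nat.le_of_dvd (Nat.gcd_pos_of_pos_left _ (by omega)) hr).trans
    (Nat.le_of_dvd (by omega) (Nat.gcd_dvd_left _ _))
  by_cases hsp : m = 1 ∧ q = 2
  · obtain ⟨rfl, rfl⟩ := hsp
    have hV9 : V = 9 := by rw [hV]; decide
    have hW2 : W (2 ^ 2) 1 = 45 := by decide
    rw [hV9] at hlo
    rw [hW2] at hI
    norm_num at hlo hI
    have hk3 : k < 4 := by
      by_contra hcon
      push Not at hcon
      have := Nat.pow_le_pow_left hcon 6
      omega
    have h1 : r * k ≤ 3 * 3 := Nat.mul_le_mul hrn (by omega)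
    omega
  · refine num_core (m := m) (q := q) ?_ hrn hI ((Nat.mul_le_mul_left _ (W_le_V q m)).trans hlo) hk6
    obtain ⟨j, hj⟩ := hodd
    by_cases hm1 : m = 1
    · left
      refine ⟨hm1, ?_⟩
      by_contra hcon
      exact hsp ⟨hm1, by omega⟩
    · right
      exact ⟨by omega, hq2⟩

end Cfsg.Agent.H243.IFO
end

-- part: H716/IFO/PslOdd
section
/-!
# S5719, `PSL_n(q)`, `n ≥ 3`, `|A|` odd (helper716)
-/

set_option autoImplicit false
set_option linter.unusedSectionVars false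

namespace Cfsg.Agent.H716.IFO

open Matrix Subgroup Cfsg.Agent.H198.FC Cfsg.Agent.H199.PslAut Cfsg.Agent.H602.FC Cfsg.Agent.H209.Fxy
open Cfsg.Agent.ClassicalGeometry.AutPSL.Root (pr pr_surjective)

universe u v

/-- **The only case left is the Singer cycle.** -/
theorem Fr.singer {K : Type u} [Field K] [Finite K] {V : Type v} [AddCommGroup V] [Module K V] [Module.Finite K V]
    {A S : Subgroup (Equiv.Perm (R K V))} (h : Fr (SLX K V) A S) :
    ∃ E : Subalgebra K (R K V), IsField E ∧ (Module.finrank K E).Prime ∧ Module.finrank K E = Module.finrank K V ∧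
      ∀ f ∈ S, ∀ X ∈ E, f X ∈ E := by
  have hn := h.hn
  rcases H886.FC.stmtClass K V S (by omega) h.hS (fun h2 => by omega) h.sol (by
    intro h1
    apply h.A1
    rw [eq_bot_iff, ← h1]
    intro a ha
    refine ⟨h.AS ha, ?_⟩
    obtain ⟨x, -, rfl⟩ := h.AX ha
    exact ⟨x, rfl⟩) with ⟨W, hW1, hW2, hW⟩ | ⟨k, d, e, hk, hd, he, hfr, hS⟩ | ⟨E, hE, hp, hSE⟩ |
      ⟨u', y, Φ, hu, hy, hS⟩ | ⟨A₀, r, a, hC⟩
  · exact (H14.IFO.case_red h hW1 hW2 hW).elim
  · exact (h.case_C2 hk hd he hfr hS).elim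
  · by_cases hne : Module.finrank K E = Module.finrank K V
    · exact ⟨E, hE, hp, hne, hSE⟩
    · exact (h.case_C3 E hE hp.two_le hSE hne).elim
  · exact (h.case_C4 Φ hu hy hS).elim
  · refine (h.case_C6 hC fun hr => ?_).elim
    obtain ⟨g, hg, hg1, hg2⟩ := H204.IFO.CSix.c6_inv h.hS hC hr
    exact ⟨g, hg, ⟨g, mem_SLX.2 hg1, rfl⟩, hg2⟩

variable {n : ℕ} {F : Type} [Field F] [Fintype F]

/-- **`CellsPSL.oddA`** -/
theorem psl_odd (F : Type) [Field F] [Fintype F] (n : ℕ) (hn : 3 ≤ n)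
    (hs : IsSimpleGroup (ProjectiveSpecialLinearGroup (Fin n) F)) :
    KillO (ProjectiveSpecialLinearGroup (Fin n) F) := by
  intro A Γ h hodd
  have hn2 : 2 ≤ n := by omega
  have hfr := fr_psl hn h hodd
  obtain ⟨E, hE, hp, hd, hSE⟩ := hfr.singer
  have hdim : Module.finrank F (H602.FC.V n F) = n := by simp only [H602.FC.V, _root_.Cfsg.Agent.H602.FC.V, _root_.Module.finrank_fintype_fun_eq_card, _root_.Fintype.card_fin]
  have hnp : n.Prime := by rw [← hdim, ← hd]; exact hp
  have hno : Odd n := hnp.odd_of_ne_two (by omega)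
  have hlow := H5.IFO.sing_low hfr hE hd hSE
  rw [hdim, card_A hn2 h, Nat.card_eq_fintype_card] at hlow
  obtain ⟨σ, hσ, ho, -⟩ := h.ex
  rcases H243.IFO.cls hn hno ho with ⟨a, rfl⟩ | hcl | hcl | hcl
  · exact not_inner h hodd hσ ho
  · obtain ⟨f, hf, hlin, hanti⟩ := pair_graph hn hcl
    have hfS : f ∈ SL Γ := mem_SL.2 ⟨σ, hσ, hf⟩
    have hff := pair_sq hn2 hf ho
    have hup := H5.IFO.sing_up_graph hfr hE hd hSE (by rw [hdim]; exact hno) hfS hff hanti hlin
    rw [hdim, ← card_fix hn2 h hf] at hup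
    exact H5.IFO.num_graph hn hno h hodd hσ ho hcl hlow hup
  · obtain ⟨f, τ, hf, hτ, hsem, hmul⟩ := pair_field hn hcl
    have hfS : f ∈ SL Γ := mem_SL.2 ⟨σ, hσ, hf⟩
    have hff := pair_sq hn2 hf ho
    obtain ⟨q0, hq0⟩ := exists_q0 hτ (tau_sq hn2 hff hsem)
    have hup := H5.IFO.sing_up_field hfr hE hd hSE hτ (by rw [Nat.card_eq_fintype_card]; exact hq0) hfS hff hsem hmul
    rw [hdim, ← card_fix hn2 h hf] at hup
    exact H243.IFO.num_field hn hno h hodd hσ ho hcl hq0 hlow hup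
  · obtain ⟨f, τ, hf, hτ, hsem, hanti⟩ := pair_gf hn hcl
    have hfS : f ∈ SL Γ := mem_SL.2 ⟨σ, hσ, hf⟩
    have hff := pair_sq hn2 hf ho
    obtain ⟨q0, hq0⟩ := exists_q0 hτ (tau_sq hn2 hff hsem)
    have hup := H5.IFO.sing_up_gf hfr hE hd hSE hτ (by rw [Nat.card_eq_fintype_card]; exact hq0) hfS hff hsem hanti
    rw [hdim, ← card_fix hn2 h hf] at hup
    exact H243.IFO.num_gf hn hno h hσ ho hcl hq0 hlow hup

end Cfsg.Agent.H716.IFO
end
end

-- part: H574/IFO/PsuOdd_mg
section
prune_inst 0x10003104056000000018208641001c42a2000420000880000001000004808c0008000820b000010150a0014440340008110000800240000004000000011900800000800400000000000080000100000000000000000000000000000000000000000000000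
set_option linter.all false
open scoped Cfsg.Agent.FastGrp

-- part: H574/IFO/CasesA
section
/-!
# S5719, `PSU_n(q)`, `|A|` odd: invariant subspaces, decompositions (helper574)
-/

set_option autoImplicit false
set_option linter.unusedSectionVars false

universe u v

namespace Cfsg.Agent.H574.IFO

open Matrix Subgroup Cfsg.Agent.H198.FC Cfsg.Agent.LieClassical.HermBasic Cfsg.Agent.LieClassical.HermSiegel
  Cfsg.Agent.ClassicalGeometry.PSUAutCount Cfsg.Agent.Schreier.PSU Cfsg.Agent.H602.FC Cfsg.Agent.H209.Fxy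
open Cfsg.Agent.ClassicalGeometry.UnitAutBasic (pr pr_surjective exists_ne_zero_orth)

section op

variable {K : Type u} [Field K] {V : Type v} [AddCommGroup V] [Module K V] (b : Cl K V)

/-- `v ↦ B(v, x) y` -/
def op (x y : V) : R K V where
  toFun v := b.B v x • y
  map_add' v w := by rw [b.add_left, add_smul]
  map_smul' a v := by rw [b.smul_left, mul_smul, RingHom.id_apply]

theorem op_apply (x y v : V) : op b x y v = b.B v x • y := rfl

variable {b}

theorem adj_op (hU : b.IsU) (x y : V) : b.Adj (op b x y) (op b y x) := by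
  intro v w
  rw [op_apply, op_apply, b.smul_left, b.smul_right, ← hU.2]
  ring

theorem op_mul (x y z t : V) : op b x y * op b z t = b.B t x • op b z y := by
  ext v
  rw [Module.End.mul_apply, op_apply, op_apply, LinearMap.smul_apply, op_apply, b.smul_left, smul_smul, mul_comm]

theorem op_ne_zero (hU : b.IsU) {x y : V} (hx : x ≠ 0) (hy : y ≠ 0) : op b x y ≠ 0 := by
  intro h
  apply hx
  apply b.nondeg
  intro w
  have h1 := LinearMap.congr_fun h w
  rw [op_apply, LinearMap.zero_apply, smul_eq_zero] at h1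
  rcases h1 with h1 | h1
  · rw [hU.2, h1, map_zero]
  · exact absurd h1 hy

/-- the swap of two orthonormal vectors -/
theorem op_pi {x y : V} (hx : b.B x x = 1) (hy : b.B y y = 1) (hxy : b.B y x = 0) :
    op b x y * op b x y = 0 ∧ op b x y * op b y x * op b x y = op b x y := by
  constructor
  · rw [op_mul, hxy, zero_smul]
  · rw [op_mul, hx, one_smul, op_mul, hy, one_smul]

theorem ne_zero_of_one {x : V} (hx : b.B x x = 1) : x ≠ 0 := by
  rintro rfl
  rw [H886.FC.B_zero_left] at hx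
  exact zero_ne_one hx

/-- an orthonormal pair in a non-degenerate subspace -/
theorem exists_pair [Finite K] [Module.Finite K V] (hU : b.IsU) {W : Submodule K V} (hND : b.ND W)
    (h2 : 2 ≤ Module.finrank K W) : ∃ x ∈ W, ∃ y ∈ W, b.B x x = 1 ∧ b.B y y = 1 ∧ b.B y x = 0 := by
  let S : W →ₛₗ[(b.τ : K →+* K)] W →ₗ[K] K :=
    LinearMap.mk₂'ₛₗ (b.τ : K →+* K) (RingHom.id K) (fun v w => b.B w v)
      (fun v v' w => b.add_right _ _ _) (fun a v w => b.smul_right a _ _)
      (fun v w w' => b.add_left _ _ _) (fun a v w => b.smul_left a _ _)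
  have hS : ∀ v w : W, S v w = b.B w v := fun v w => rfl
  obtain ⟨v, hv⟩ := Cfsg.Agent.ClassicalGeometry.HermOrthonormal.exists_orthonormal_family (σ := (b.τ : K →+* K)) (by
    intro h
    obtain ⟨a, ha⟩ := hU.1
    exact ha (DFunLike.congr_fun h a)) (fun a => b.invol a) S (by
      constructor
      intro x y
      rw [hS, hS]
      exact (hU.2 _ _).symm) (by
      intro x hx
      apply Subtype.ext
      apply hND x x.2
      intro w hw
      have h1 := hx ⟨w, hw⟩
      rw [hS] at h1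
      rw [hU.2, h1, map_zero]) 2 h2
  refine ⟨v 0, (v 0).2, v 1, (v 1).2, ?_, ?_, ?_⟩
  · have := hv 0 0
    rwa [if_pos rfl] at this
  · have := hv 1 1
    rwa [if_pos rfl] at this
  · have := hv 0 1
    rwa [if_neg (by decide)] at this

end op

variable {n : ℕ} {F : Type} [Field F] {q : ℕ} [Fintype F] (hF : Fintype.card F = q ^ 2)
  {A : Subgroup (Cfsg.PSU n F q)} {Γ : Subgroup (MulAut (Cfsg.PSU n F q))}

theorem scalar_of_comm {X : R F (V n F)} (h : ∀ Y, X * Y = Y * X) : ∃ c : F, X = c • (1 : R F (V n F)) := by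
  have h1 : X ∈ Subalgebra.center F (R F (V n F)) := Subalgebra.mem_center_iff.2 fun Y => (h Y).symm
  rw [Algebra.IsCentral.center_eq_bot, Algebra.mem_bot] at h1
  obtain ⟨c, hc⟩ := h1
  exact ⟨c, by rw [← hc, Algebra.algebraMap_eq_smul_one]⟩

include hF in
/-- **totally isotropic subspaces** -/
theorem case_TI [IsSimpleGroup (Cfsg.PSU n F q)] (hn : 3 ≤ n) (h32 : ¬ (n = 3 ∧ q = 2)) (h : IF A Γ)
    (hodd : Odd (Nat.card A)) {W : Submodule F (V n F)} (hW0 : W ≠ ⊥) (hTI : (hb n hF).TI W)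
    (hW : ∀ f ∈ SS Γ, Stb f W) : False := by
  have hU := hb_isU (n := n) hF
  obtain ⟨w, hw, hw0⟩ := (Submodule.ne_bot_iff W).1 hW0
  have hww := hTI w hw w hw
  -- a partner
  obtain ⟨v, hv⟩ : ∃ v, (hb n hF).B v w = 1 := by
    have h1 : ∃ v, (hb n hF).B v w ≠ 0 := by
      by_contra hcon
      push Not at hcon
      exact hw0 (H886.FC.nondeg_right _ hcon)
    obtain ⟨v, hv⟩ := h1
    exact ⟨((hb n hF).B v w)⁻¹ • v, by rw [(hb n hF).smul_left, inv_mul_cancel₀ hv]⟩
  have hW1 : W ≠ ⊤ := by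
    intro h1
    have h2 := hTI v (by rw [h1]; exact Submodule.mem_top) w hw
    rw [hv] at h2
    exact one_ne_zero h2
  by_cases h2 : (2 : F) = 0
  · -- a transvection
    have haa : op (hb n hF) w w * op (hb n hF) w w = 0 := by rw [op_mul, hww, zero_smul]
    have hsq : (1 + op (hb n hF) w w) * (1 + op (hb n hF) w w) = 1 := by
      have h3 : op (hb n hF) w w + op (hb n hF) w w = 0 := by
        rw [← two_smul F, h2, zero_smul]
      rw [mul_add, add_mul, add_mul, haa, mul_one, one_mul, mul_one, add_zero, add_assoc, h3, add_zero]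
    obtain ⟨s, hs⟩ := exists_su hF (X := 1 + op (hb n hF) w w) (H567.FC.det_one_add haa)
      (isom_of_adj (H886.FC.adj_add _ adj_one (adj_op hU w w)) hsq)
    have hact : ∀ x, act s x = x + (hb n hF).B x w • w := by
      intro x
      rw [← us_apply, hs]
      rfl
    refine kill_sub hF hn h32 h hodd hW hW0 hW1 (s := s) (fun x hx => ?_) (even_of_four ?_ ?_)
    · rw [hact]
      exact W.add_mem hx (W.smul_mem _ hw)
    · rw [← map_pow]
      have h1 : s ^ 4 = 1 := by
        apply us_inj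
        apply Units.ext
        rw [map_pow, map_one, Units.val_pow_eq_pow_val, hs, Units.val_one]
        have e : ∀ X : R F (V n F), X ^ 4 = (X * X) * (X * X) := fun X => by noncomm_ring
        rw [e, hsq, mul_one]
      rw [h1, map_one]
    · intro h1
      have h3 := cs_eq_one hF hn h1
      have h4 : cs s (op (hb n hF) w v) = op (hb n hF) w v := by rw [h3]; rfl
      rw [cs_fix_iff, hs, add_mul, mul_add, one_mul, mul_one, op_mul, op_mul, hww, hv, zero_smul, add_zero,
        one_smul] at h4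
      have h5 : op (hb n hF) w w = 0 := by
        have := add_eq_left.1 h4
        exact this
      exact op_ne_zero hU hw0 hw0 h5
  · -- `-1` on a hyperbolic plane
    obtain ⟨f, hf, hff⟩ : ∃ f, (hb n hF).B f w = 1 ∧ (hb n hF).B f f = 0 := by
      refine ⟨v + (-((hb n hF).B v v) / 2) • w, ?_, ?_⟩
      · rw [(hb n hF).add_left, (hb n hF).smul_left, hv, hww, mul_zero, add_zero]
      · have h3 : (hb n hF).B w v = 1 := by rw [hU.2, hv, map_one]
        have h4 : (hb n hF).τ ((hb n hF).B v v) = (hb n hF).B v v := (hU.2 v v).symm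
        rw [(hb n hF).add_left, (hb n hF).add_right, (hb n hF).add_right, (hb n hF).smul_left, (hb n hF).smul_left,
          (hb n hF).smul_right, (hb n hF).smul_right, hww, hv, h3, map_div₀, map_neg, h4, map_ofNat]
        field_simp
        ring
    have hwf : (hb n hF).B w f = 1 := by rw [hU.2, hf, map_one]
    have hp : Pi (op (hb n hF) f f) (op (hb n hF) w w) := by
      refine ⟨?_, ?_, ?_, ?_⟩
      · rw [op_mul, hff, zero_smul]
      · rw [op_mul, hww, zero_smul]
      · rw [op_mul, hwf, one_smul, op_mul, hf, one_smul]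
      · rw [op_mul, hf, one_smul, op_mul, hwf, one_smul]
    have hsq : sw (op (hb n hF) f f) (op (hb n hF) w w) * sw (op (hb n hF) f f) (op (hb n hF) w w) =
        1 - 2 * (op (hb n hF) f w + op (hb n hF) w f) := by
      rw [hp.sw_sq, op_mul, op_mul, hf, hwf, one_smul, one_smul]
    obtain ⟨X, hX⟩ : ∃ X : R F (V n F), X = 1 - 2 * (op (hb n hF) f w + op (hb n hF) w f) := ⟨_, rfl⟩
    have hXX : X * X = 1 := by
      have h4 := hp.sw_four
      rw [hsq, ← hX] at h4
      exact h4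
    have hadj : (hb n hF).Adj X X := by
      have h3 := H886.FC.adj_add _ (adj_op hU f w) (adj_op hU w f)
      rw [add_comm (op (hb n hF) w f)] at h3
      have h4 := H886.FC.adj_add _ h3 h3
      rw [← two_mul] at h4
      rw [hX]
      exact adj_sub adj_one h4
    obtain ⟨s, hs⟩ := exists_su hF (X := X) (by rw [hX, ← hsq, map_mul, det_sw hp, one_mul])
      (isom_of_adj hadj hXX)
    have hact : ∀ x, act s x = x - (2 : F) • ((hb n hF).B x f • w + (hb n hF).B x w • f) := by
      intro x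
      rw [← us_apply, hs, hX, two_mul, two_smul]
      rfl
    refine kill_sub hF hn h32 h hodd hW hW0 hW1 (s := s) (fun x hx => ?_) (even_of_four ?_ ?_)
    · rw [hact, hTI x hx w hw, zero_smul, add_zero]
      exact W.sub_mem hx (W.smul_mem _ (W.smul_mem _ hw))
    · rw [← map_pow]
      have h1 : s ^ 4 = 1 := by
        apply us_inj
        apply Units.ext
        rw [map_pow, map_one, Units.val_pow_eq_pow_val, hs, Units.val_one]
        have e : ∀ X : R F (V n F), X ^ 4 = (X * X) * (X * X) := fun X => by noncomm_ring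
        rw [e, hXX, mul_one]
      rw [h1, map_one]
    · intro h1
      obtain ⟨u, hu0, huw, huf⟩ := exists_ne_zero_orth (q := q) hn w f
      have h3 := cs_eq_one hF hn h1
      have h4 : cs s (op (hb n hF) f u) = op (hb n hF) f u := by rw [h3]; rfl
      rw [cs_fix_iff, hs] at h4
      have h5 := LinearMap.congr_fun h4 w
      rw [Module.End.mul_apply, Module.End.mul_apply, op_apply, hwf, one_smul, ← hs, us_apply, us_apply, hact, hact] at h5
      have huw' : (hb n hF).B u w = 0 := huw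
      have huf' : (hb n hF).B u f = 0 := huf
      rw [huw', huf', hwf, hww, zero_smul, zero_smul, add_zero, smul_zero, sub_zero, add_zero, one_smul,
        op_apply, show (hb n hF).B (w - (2 : F) • w) f = -1 from ?_] at h5
      · rw [neg_one_smul, eq_neg_iff_add_eq_zero, ← two_smul F, smul_eq_zero] at h5
        rcases h5 with h5 | h5
        · exact h2 h5
        · exact hu0 h5
      · have e : w - (2 : F) • w = (-1 : F) • w := by rw [two_smul, neg_one_smul]; abel
        rw [e, (hb n hF).smul_left, hwf, mul_one]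

include hF in
/-- **non-degenerate subspaces** -/
theorem case_ND [IsSimpleGroup (Cfsg.PSU n F q)] (hn : 3 ≤ n) (h32 : ¬ (n = 3 ∧ q = 2)) (h : IF A Γ)
    (hodd : Odd (Nat.card A)) {W : Submodule F (V n F)} (hW0 : W ≠ ⊥) (hW1 : W ≠ ⊤) (hND : (hb n hF).ND W)
    (hW : ∀ f ∈ SS Γ, Stb f W) : False := by
  have hU := hb_isU (n := n) hF
  have key : ∀ x y : V n F, (hb n hF).B x x = 1 → (hb n hF).B y y = 1 → (hb n hF).B y x = 0 →
      ((x ∈ W ∧ y ∈ W) ∨ ∀ w ∈ W, (hb n hF).B w x = 0 ∧ (hb n hF).B w y = 0) → False := by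
    intro x y hx hy hxy hor
    have hp := op_pi hx hy hxy
    have hpi := pi_of_adj (adj_op hU x y) hp.1 hp.2
    obtain ⟨s, hs, hev⟩ := exists_sw hF hn (adj_op hU x y) hpi (op_ne_zero hU (ne_zero_of_one hx) (ne_zero_of_one hy))
    refine kill_sub hF hn h32 h hodd hW hW0 hW1 (s := s) (fun w hw => ?_) hev
    rw [← us_apply, hs, sw, op_mul, op_mul, hx, hy, one_smul, one_smul]
    change w + (hb n hF).B w x • y - (hb n hF).B w y • x - (hb n hF).B w x • x - (hb n hF).B w y • y ∈ W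
    rcases hor with ⟨h1, h2⟩ | h1
    · exact W.sub_mem (W.sub_mem (W.sub_mem (W.add_mem hw (W.smul_mem _ h2)) (W.smul_mem _ h1)) (W.smul_mem _ h1))
        (W.smul_mem _ h2)
    · obtain ⟨h1, h2⟩ := h1 w hw
      rw [h1, h2, zero_smul, zero_smul, add_zero, sub_zero, sub_zero, sub_zero]
      exact hw
  have hfr : Module.finrank F (V n F) = n := by simp only [V, _root_.Module.finrank_fintype_fun_eq_card, _root_.Fintype.card_fin]
  by_cases h2 : 2 ≤ Module.finrank F W
  · obtain ⟨x, hx, y, hy, h1, h3, h4⟩ := exists_pair hU hND h2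
    exact key x y h1 h3 h4 (Or.inl ⟨hx, hy⟩)
  · have h1 : Module.finrank F W = 1 := by
      have h3 : Module.finrank F W ≠ 0 := by
        intro h3
        exact hW0 (Submodule.finrank_eq_zero.1 h3)
      omega
    obtain ⟨⟨u, hu⟩, hu0, hspan⟩ := finrank_eq_one_iff'.1 h1
    have hu0' : u ≠ 0 := fun h => hu0 (Subtype.ext h)
    have hW' : ∀ w ∈ W, ∃ c : F, c • u = w := by
      intro w hw
      obtain ⟨c, hc⟩ := hspan ⟨w, hw⟩
      exact ⟨c, congrArg Subtype.val hc⟩
    have huu : (hb n hF).B u u ≠ 0 := by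
      intro h3
      apply hu0'
      apply hND u hu
      intro w hw
      obtain ⟨c, rfl⟩ := hW' w hw
      rw [(hb n hF).smul_right, h3, mul_zero]
    let φ : V n F →ₗ[F] F :=
      { toFun := fun x => (hb n hF).B x u
        map_add' := fun x y => (hb n hF).add_left _ _ _
        map_smul' := fun a x => (hb n hF).smul_left _ _ _ }
    have hφ : ∀ x, x ∈ LinearMap.ker φ ↔ (hb n hF).B x u = 0 := fun x => LinearMap.mem_ker
    have hND' : (hb n hF).ND (LinearMap.ker φ) := by
      intro v hv hvw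
      apply (hb n hF).nondeg
      intro w
      have h3 : w - ((hb n hF).B w u / (hb n hF).B u u) • u ∈ LinearMap.ker φ := by
        rw [hφ, sub_eq_add_neg, ← neg_smul, (hb n hF).add_left, (hb n hF).smul_left]
        field_simp
        ring
      have h4 := hvw _ h3
      rw [sub_eq_add_neg, ← neg_smul, (hb n hF).add_right, (hb n hF).smul_right, (hφ v).1 hv, mul_zero, add_zero] at h4
      exact h4
    have hr : 2 ≤ Module.finrank F (LinearMap.ker φ) := by
      have h3 := LinearMap.finrank_range_add_finrank_ker φ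
      have h4 : Module.finrank F (LinearMap.range φ) ≤ 1 := by
        have := Submodule.finrank_le (LinearMap.range φ)
        rwa [Module.finrank_self] at this
      rw [hfr] at h3
      omega
    obtain ⟨x, hx, y, hy, h3, h4, h5⟩ := exists_pair hU hND' hr
    refine key x y h3 h4 h5 (Or.inr fun w hw => ?_)
    obtain ⟨c, rfl⟩ := hW' w hw
    rw [(hb n hF).smul_left, (hb n hF).smul_left, hU.2 x u, hU.2 y u, (hφ x).1 hx, (hφ y).1 hy, map_zero, mul_zero]
    exact ⟨rfl, rfl⟩

end Cfsg.Agent.H574.IFO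
end

-- part: H574/IFO/CasesB
section
/-!
# S5719, `PSU_n(q)`, `|A|` odd: orthogonal decompositions, fields, tensor products (helper574)
-/

set_option autoImplicit false
set_option linter.unusedSectionVars false

universe u v

namespace Cfsg.Agent.H574.IFO

open Matrix Subgroup Cfsg.Agent.H198.FC Cfsg.Agent.LieClassical.HermBasic Cfsg.Agent.LieClassical.HermSiegel
  Cfsg.Agent.ClassicalGeometry.PSUAutCount Cfsg.Agent.Schreier.PSU Cfsg.Agent.H602.FC Cfsg.Agent.H209.Fxy
open Cfsg.Agent.ClassicalGeometry.UnitAutBasic (pr pr_surjective exists_ne_zero_orth)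
open scoped Kronecker

variable {n : ℕ} {F : Type} [Field F] {q : ℕ} [Fintype F] (hF : Fintype.card F = q ^ 2)
  {A : Subgroup (Cfsg.PSU n F q)} {Γ : Subgroup (MulAut (Cfsg.PSU n F q))}

/-- an operator commuting with the projections -/
theorem op_comm_of {b : Cl F (V n F)} {e e' : R F (V n F)} (hadj : b.Adj e e') {x y : V n F} {c : F}
    (h1 : e' x = b.τ c • x) (h2 : e y = c • y) : op b x y * e = e * op b x y := by
  apply LinearMap.ext
  intro v
  rw [Module.End.mul_apply, Module.End.mul_apply, op_apply, op_apply, hadj, h1, b.smul_right, b.invol, map_smul, h2,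
    smul_smul, mul_comm]

include hF in
/-- **orthogonal decompositions** -/
theorem case_C2 [IsSimpleGroup (Cfsg.PSU n F q)] (hn : 3 ≤ n) (h32 : ¬ (n = 3 ∧ q = 2)) (h : IF A Γ)
    (hodd : Odd (Nat.card A)) {k d : ℕ} {e : Fin k → R F (V n F)} (hk : 2 ≤ k) (hd : 1 ≤ d)
    (he : CompleteOrthogonalIdempotents e) (hadj : ∀ i, (hb n hF).Adj (e i) (e i))
    (hr : ∀ i, Module.finrank F (LinearMap.range (e i)) = d)
    (hS : ∀ f ∈ SS Γ, ∃ π : Equiv.Perm (Fin k), ∀ i, f (e i) = e (π i)) : False := by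
  classical
  have hU := hb_isU (n := n) hF
  have hidem : ∀ i, e i * e i = e i := fun i => he.idem i
  have horth : ∀ i j, i ≠ j → e i * e j = 0 := fun i j hij => he.ortho hij
  have hmem : ∀ i v, v ∈ LinearMap.range (e i) → e i v = v := by
    rintro i _ ⟨w, rfl⟩
    rw [← Module.End.mul_apply, hidem]
  have hmem' : ∀ i j v, i ≠ j → v ∈ LinearMap.range (e j) → e i v = 0 := by
    rintro i j _ hij ⟨w, rfl⟩
    rw [← Module.End.mul_apply, horth i j hij, LinearMap.zero_apply]
  have hND : ∀ i, (hb n hF).ND (LinearMap.range (e i)) := by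
    intro i v hv hvw
    apply (hb n hF).nondeg
    intro w
    rw [← hmem i v hv, hadj]
    exact hvw _ ⟨w, rfl⟩
  have hD : ∀ f ∈ SS Γ, ∀ x ∈ Set.range e, f x ∈ Set.range e := by
    rintro f hf _ ⟨i, rfl⟩
    obtain ⟨π, hπ⟩ := hS f hf
    exact ⟨π i, (hπ i).symm⟩
  -- vectors in the blocks
  have hne : ∀ i, ∃ v, v ∈ LinearMap.range (e i) ∧ v ≠ 0 := by
    intro i
    have h1 : LinearMap.range (e i) ≠ ⊥ := by
      intro h2
      have h3 := hr i
      rw [h2, finrank_bot] at h3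
      omega
    obtain ⟨v, hv, hv0⟩ := (Submodule.ne_bot_iff _).1 h1
    exact ⟨v, hv, hv0⟩
  have h01 : (⟨0, by omega⟩ : Fin k) ≠ ⟨1, by omega⟩ := fun h => by
    have := congrArg Fin.val h
    simp at this
  -- non-central
  have hnc : ∃ y, e ⟨0, by omega⟩ * y ≠ y * e ⟨0, by omega⟩ := by
    obtain ⟨v, hv, hv0⟩ := hne ⟨0, by omega⟩
    obtain ⟨u, hu, hu0⟩ := hne ⟨1, by omega⟩
    obtain ⟨w, hw⟩ : ∃ w, (hb n hF).B v w ≠ 0 := by
      by_contra hcon
      push Not at hcon
      exact hv0 ((hb n hF).nondeg v hcon)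
    refine ⟨op (hb n hF) w u, fun h1 => ?_⟩
    have h2 := LinearMap.congr_fun h1 v
    rw [Module.End.mul_apply, Module.End.mul_apply, hmem _ v hv, op_apply, map_smul, hmem' _ _ u h01 hu, smul_zero] at h2
    exact (smul_ne_zero hw hu0) h2.symm
  obtain ⟨y, hy⟩ := hnc
  rcases Nat.lt_or_ge 1 d with hd2 | hd1
  · obtain ⟨x, hx, y', hy', h1, h2, h3⟩ := exists_pair hU (hND ⟨0, by omega⟩) (by rw [hr]; omega)
    have hp := op_pi h1 h2 h3
    have hcomm : ∀ x y : V n F, x ∈ LinearMap.range (e ⟨0, by omega⟩) → y ∈ LinearMap.range (e ⟨0, by omega⟩) →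
        ∀ z ∈ Set.range e, op (hb n hF) x y * z = z * op (hb n hF) x y := by
      rintro x y hx hy _ ⟨i, rfl⟩
      by_cases hi : i = ⟨0, by omega⟩
      · subst hi
        exact op_comm_of (hadj _) (c := 1) (by rw [hmem _ x hx, map_one, one_smul]) (by rw [hmem _ y hy, one_smul])
      · exact op_comm_of (hadj _) (c := 0) (by rw [hmem' _ _ x hi hx, map_zero, zero_smul])
          (by rw [hmem' _ _ y hi hy, zero_smul])
    exact kill_comm hF hn h32 h hodd hD ⟨_, rfl⟩ hy (adj_op hU x y') hp.1 hp.2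
      (op_ne_zero hU (ne_zero_of_one h1) (ne_zero_of_one h2)) (hcomm x y' hx hy') (hcomm y' x hy' hx)
  · obtain rfl : d = 1 := by omega
    -- three blocks
    have hk3 : 3 ≤ k := by
      by_contra hcon
      obtain rfl : k = 2 := by omega
      have h1 : Module.finrank F (V n F) = n := by simp only [V, _root_.Module.finrank_fintype_fun_eq_card, _root_.Fintype.card_fin]
      have h2 : (⊤ : Submodule F (V n F)) ≤ LinearMap.range (e 0) ⊔ LinearMap.range (e 1) := by
        intro v _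
        have h3 : v = e 0 v + e 1 v := by
          have := LinearMap.congr_fun he.complete v
          rw [Fin.sum_univ_two] at this
          exact this.symm
        rw [h3]
        exact Submodule.add_mem_sup ⟨v, rfl⟩ ⟨v, rfl⟩
      have h3 := Submodule.finrank_add_le_finrank_add_finrank (LinearMap.range (e 0)) (LinearMap.range (e 1))
      rw [top_le_iff.1 h2, finrank_top, h1, hr, hr] at h3
      omega
    -- orthonormal vectors of the blocks
    have hon : ∀ i, ∃ w, w ∈ LinearMap.range (e i) ∧ (hb n hF).B w w = 1 := by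
      intro i
      obtain ⟨⟨v, hv⟩, hv0, hspan⟩ := finrank_eq_one_iff'.1 (hr i)
      have hvv : (hb n hF).B v v ≠ 0 := by
        intro h1
        apply hv0
        apply Subtype.ext
        apply hND i v hv
        intro w hw
        obtain ⟨c, hc⟩ := hspan ⟨w, hw⟩
        have hc' : c • v = w := congrArg Subtype.val hc
        rw [← hc', (hb n hF).smul_right, h1, mul_zero]
      obtain ⟨a, ha⟩ := _root_.Cfsg.Agent.LieClassical.HermBasic.exists_norm_eq hF (c := ((hb n hF).B v v)⁻¹) (by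
        rw [inv_pow]
        congr 1
        exact (hU.2 v v).symm)
      refine ⟨a • v, Submodule.smul_mem _ _ hv, ?_⟩
      have h2 : (hb n hF).τ a = a ^ q := rfl
      rw [(hb n hF).smul_left, (hb n hF).smul_right, h2, ← mul_assoc, ha, inv_mul_cancel₀ hvv]
    choose w hw hww using hon
    have hwo : ∀ i j, i ≠ j → (hb n hF).B (w i) (w j) = 0 := by
      intro i j hij
      rw [← hmem i (w i) (hw i), hadj, hmem' i j _ hij (hw j), H886.FC.B_zero_right]
    have hew : ∀ i v, e i v = (hb n hF).B v (w i) • w i := by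
      intro i v
      have hw0 : w i ≠ 0 := ne_zero_of_one (hww i)
      have h1 : Module.finrank F (LinearMap.range (e i)) = 1 := hr i
      have h2 := (finrank_eq_one_iff_of_nonzero' (⟨w i, hw i⟩ : LinearMap.range (e i))
        (fun h => hw0 (congrArg Subtype.val h))).1 h1 ⟨e i v, ⟨v, rfl⟩⟩
      obtain ⟨c, hc⟩ := h2
      have hc' : c • w i = e i v := congrArg Subtype.val hc
      have h3 : (hb n hF).B (e i v) (w i) = c := by rw [← hc', (hb n hF).smul_left, hww, mul_one]
      rw [hadj, hmem i _ (hw i)] at h3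
      rw [h3, hc']
    have heo : ∀ i, e i = op (hb n hF) (w i) (w i) := fun i => LinearMap.ext fun v => hew i v
    obtain ⟨i0, hi0⟩ : ∃ i0 : Fin k, i0 = ⟨0, by omega⟩ := ⟨_, rfl⟩
    obtain ⟨i1, hi1⟩ : ∃ i1 : Fin k, i1 = ⟨1, by omega⟩ := ⟨_, rfl⟩
    obtain ⟨i2, hi2⟩ : ∃ i2 : Fin k, i2 = ⟨2, by omega⟩ := ⟨_, rfl⟩
    have n01 : i0 ≠ i1 := by rw [hi0, hi1]; exact h01
    have n02 : i0 ≠ i2 := by
      rw [hi0, hi2]
      intro h; have := congrArg Fin.val h; simp at this
    have n12 : i1 ≠ i2 := by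
      rw [hi1, hi2]
      intro h; have := congrArg Fin.val h; simp at this
    -- the swap
    obtain ⟨c, -, hc1, -, -, hcn, -⟩ := exists_mu hF
    have hc0 : c ≠ 0 := by
      rintro rfl
      rw [zero_mul] at hcn
      exact zero_ne_one hcn
    have hτ : (hb n hF).τ c = c⁻¹ := eq_inv_of_mul_eq_one_right hcn
    have hpa : ∀ c : F, c ≠ 0 → (hb n hF).τ c = c⁻¹ → (hb n hF).Adj (op (hb n hF) (w i0) (c • w i1))
        (op (hb n hF) (c • w i1) (w i0)) ∧ Pi (op (hb n hF) (w i0) (c • w i1)) (op (hb n hF) (c • w i1) (w i0)) ∧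
        op (hb n hF) (w i0) (c • w i1) ≠ 0 := by
      intro c hc0 hτ
      have h1 : (hb n hF).B (c • w i1) (c • w i1) = 1 := by
        rw [(hb n hF).smul_left, (hb n hF).smul_right, hτ, hww, mul_one, mul_inv_cancel₀ hc0]
      have h2 : (hb n hF).B (c • w i1) (w i0) = 0 := by
        rw [(hb n hF).smul_left, hwo _ _ n01.symm, mul_zero]
      have hp := op_pi (hww i0) h1 h2
      exact ⟨adj_op hU _ _, pi_of_adj (adj_op hU _ _) hp.1 hp.2,
        op_ne_zero hU (ne_zero_of_one (hww i0)) (ne_zero_of_one h1)⟩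
    obtain ⟨a1, a2, a3⟩ := hpa 1 one_ne_zero (by rw [map_one, inv_one])
    obtain ⟨b1, b2, b3⟩ := hpa c hc0 hτ
    obtain ⟨s, hs, hev⟩ := exists_sw hF hn a1 a2 a3
    obtain ⟨t, ht, -⟩ := exists_sw hF hn b1 b2 b3
    have hval : ∀ (s : Cfsg.SU n F q) (c : F), c ≠ 0 → (hb n hF).τ c = c⁻¹ →
        ((us s : (R F (V n F))ˣ) : R F (V n F)) = sw (op (hb n hF) (w i0) (c • w i1)) (op (hb n hF) (c • w i1) (w i0)) →
        act s (w i0) = c • w i1 ∧ act s (w i1) = - (c⁻¹ • w i0) ∧ ∀ j, j ≠ i0 → j ≠ i1 → act s (w j) = w j := by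
      intro s c hc0 hτ hs
      have hact : ∀ v, act s v = v + (hb n hF).B v (w i0) • c • w i1 - (hb n hF).B v (c • w i1) • w i0 -
          (hb n hF).B v (w i0) • w i0 - (hb n hF).B v (w i1) • w i1 := by
        intro v
        rw [← us_apply, hs, sw, op_mul, op_mul, hww i0, one_smul]
        have h1 : (hb n hF).B (c • w i1) (c • w i1) = 1 := by
          rw [(hb n hF).smul_left, (hb n hF).smul_right, hτ, hww, mul_one, mul_inv_cancel₀ hc0]
        rw [h1, one_smul]
        change v + (hb n hF).B v (w i0) • c • w i1 - (hb n hF).B v (c • w i1) • w i0 -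
          (hb n hF).B v (w i0) • w i0 - (hb n hF).B v (c • w i1) • (c • w i1) = _
        rw [(hb n hF).smul_right, hτ, smul_smul (c⁻¹ * _) c (w i1)]
        congr 2
        rw [mul_comm c⁻¹, mul_assoc, inv_mul_cancel₀ hc0, mul_one]
      refine ⟨?_, ?_, ?_⟩
      · rw [hact, (hb n hF).smul_right, hww, hwo _ _ n01, mul_zero, zero_smul, zero_smul, one_smul, one_smul]
        abel
      · rw [hact, (hb n hF).smul_right, hww, hwo _ _ n01.symm, mul_one, zero_smul, zero_smul, one_smul, hτ]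
        abel
      · intro j h1 h2
        rw [hact, (hb n hF).smul_right, hwo _ _ h1, hwo _ _ h2, mul_zero, zero_smul, zero_smul, zero_smul, add_zero,
          sub_zero, sub_zero, sub_zero]
    obtain ⟨s1, s2, s3⟩ := hval s 1 one_ne_zero (by rw [map_one, inv_one]) hs
    obtain ⟨t1, t2, t3⟩ := hval t c hc0 hτ ht
    have hst : ∀ (t : Cfsg.SU n F q) (X : R F (V n F)) (v : V n F), cs t X (act t v) = act t (X v) := by
      intro t X v
      rw [cs_apply]
      change act t (X ((((us t)⁻¹ : (R F (V n F))ˣ) : R F (V n F)) (((us t : (R F (V n F))ˣ) : R F (V n F)) v))) = _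
      have e : ((((us t)⁻¹ : (R F (V n F))ˣ) : R F (V n F)) (((us t : (R F (V n F))ˣ) : R F (V n F)) v)) = v := by
        rw [← Module.End.mul_apply, Units.inv_mul, Module.End.one_apply]
      rw [e]
    -- action on the projections
    have hproj : ∀ (g : Cfsg.SU n F q) (i j : Fin k) (a : F), a ≠ 0 → act g (w i) = a • w j → cs g (e i) = e j := by
      intro g i j a ha hg
      apply LinearMap.ext
      intro v
      obtain ⟨u, rfl⟩ : ∃ u, act g u = v := ⟨act g⁻¹ v, act_act_inv g v⟩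
      rw [hst, heo, heo, op_apply, op_apply, act_smul, hg]
      have h1 : (hb n hF).B (act g u) (act g (w i)) = (hb n hF).B u (w i) := herm_act g u (w i)
      have h2 : a * (hb n hF).τ a = 1 := by
        have h3 : (hb n hF).B (act g (w i)) (act g (w i)) = (hb n hF).B (w i) (w i) := herm_act g (w i) (w i)
        rw [hg, (hb n hF).smul_left, (hb n hF).smul_right, hww, hww, mul_one] at h3
        exact h3
      rw [← h1, hg, (hb n hF).smul_right, smul_smul]
      congr 1
      rw [mul_comm ((hb n hF).τ a) _, mul_assoc, mul_comm ((hb n hF).τ a) a, h2, mul_one]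
    refine kill_set hF hn h32 h hodd hD ⟨_, rfl⟩ hy (s := s) (s0 := s⁻¹ * t) ?_ hev ?_ ?_
    · rintro _ ⟨i, rfl⟩
      by_cases h0 : i = i0
      · subst h0
        exact ⟨i1, (hproj s _ _ 1 one_ne_zero s1).symm⟩
      · by_cases h1 : i = i1
        · subst h1
          exact ⟨i0, (hproj s _ _ (-(1 : F)⁻¹) (by simp) (by rw [s2, neg_smul])).symm⟩
        · exact ⟨i, (hproj s _ _ 1 one_ne_zero (by rw [s3 i h0 h1, one_smul])).symm⟩
    · have hsi : ∀ v v' , act s v = v' → act s⁻¹ v' = v := by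
        rintro v _ rfl
        exact act_inv_act s v
      rintro _ ⟨i, rfl⟩
      by_cases h0 : i = i0
      · subst h0
        refine hproj _ _ _ c hc0 ?_
        rw [act_mul, t1, act_smul, hsi (w i) (w i1) (by rw [s1, one_smul])]
      · by_cases h1 : i = i1
        · subst h1
          refine hproj _ _ _ c⁻¹ (inv_ne_zero hc0) ?_
          rw [act_mul, t2, ← smul_neg, act_smul, hsi (w i) (-w i0) (by rw [s2, inv_one, one_smul])]
        · refine hproj _ _ _ 1 one_ne_zero ?_
          rw [act_mul, t3 i h0 h1, hsi (w i) (w i) (s3 i h0 h1), one_smul]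
    · intro h1
      have h3 := cs_eq_one hF hn h1
      have h4 : cs (s⁻¹ * t) (op (hb n hF) (w i0) (w i2)) = op (hb n hF) (w i0) (w i2) := by rw [h3]; rfl
      have h5 := LinearMap.congr_fun h4 (act (s⁻¹ * t) (w i0))
      have hsi : ∀ v v' , act s v = v' → act s⁻¹ v' = v := by
        rintro v _ rfl
        exact act_inv_act s v
      rw [hst, op_apply, hww, one_smul, act_mul, act_mul, t1, t3 i2 n02.symm n12.symm, act_smul,
        hsi (w i0) (w i1) (by rw [s1, one_smul]), hsi (w i2) (w i2) (s3 i2 n02.symm n12.symm), op_apply,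
        (hb n hF).smul_left, hww, mul_one] at h5
      have h6 : (1 - c) • w i2 = 0 := by rw [sub_smul, one_smul, ← h5, sub_self]
      rw [smul_eq_zero, sub_eq_zero] at h6
      rcases h6 with h6 | h6
      · exact hc1 h6.symm
      · exact ne_zero_of_one (hww i2) h6

end Cfsg.Agent.H574.IFO
end

-- part: H574/IFO/CasesC
section
/-!
# S5719, `PSU_n(q)`, `|A|` odd: dual pairs, fields, tensor products (helper574)
-/

set_option autoImplicit false
set_option linter.unusedSectionVars false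
set_option linter.style.haveILetI false

universe u v

namespace Cfsg.Agent.H574.IFO

open Matrix Subgroup Cfsg.Agent.H198.FC Cfsg.Agent.LieClassical.HermBasic Cfsg.Agent.LieClassical.HermSiegel
  Cfsg.Agent.ClassicalGeometry.PSUAutCount Cfsg.Agent.Schreier.PSU Cfsg.Agent.H602.FC Cfsg.Agent.H209.Fxy
open Cfsg.Agent.ClassicalGeometry.UnitAutBasic (pr pr_surjective exists_ne_zero_orth)
open scoped Kronecker

variable {n : ℕ} {F : Type} [Field F] {q : ℕ} [Fintype F] (hF : Fintype.card F = q ^ 2)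
  {A : Subgroup (Cfsg.PSU n F q)} {Γ : Subgroup (MulAut (Cfsg.PSU n F q))}

include hF in
/-- the partial isometry for a dual pair of projections -/
theorem pair_aux {p p' : R F (V n F)} (hadj : (hb n hF).Adj p p') (hpp' : p' * p = 0) (hsum : p + p' = 1)
    {v1 v2 f1 : V n F} (h1 : p v1 = v1) (h2 : p v2 = v2) (h3 : p' f1 = f1) (h11 : (hb n hF).B v1 f1 = 1)
    (h21 : (hb n hF).B v2 f1 = 0) (h20 : v2 ≠ 0) :
    ∃ a a' : R F (V n F), (hb n hF).Adj a a' ∧ a * a = 0 ∧ a * a' * a = a ∧ a ≠ 0 ∧ a * p = p * a ∧ a' * p = p * a' := by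
  have hU := hb_isU (n := n) hF
  have hadj' := H886.FC.adj_symm _ hadj
  -- `f2`
  obtain ⟨f, hf⟩ : ∃ f, (hb n hF).B v2 f ≠ 0 := by
    by_contra hcon
    push Not at hcon
    exact h20 ((hb n hF).nondeg v2 hcon)
  obtain ⟨g, hg, hg1⟩ : ∃ g, p' g = g ∧ (hb n hF).B v2 g = 1 := by
    have e1 : p' * p' = p' := by
      have : p' * (p + p') = p' := by rw [hsum, mul_one]
      rwa [mul_add, hpp', zero_add] at this
    refine ⟨(hb n hF).τ (((hb n hF).B v2 f)⁻¹) • p' f, ?_, ?_⟩
    · rw [map_smul, ← Module.End.mul_apply, e1]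
    · rw [(hb n hF).smul_right, (hb n hF).invol, ← hadj, h2, inv_mul_cancel₀ hf]
  obtain ⟨f2, hf2, hf21, hf22⟩ : ∃ f2, p' f2 = f2 ∧ (hb n hF).B v2 f2 = 1 ∧ (hb n hF).B v1 f2 = 0 := by
    refine ⟨g - (hb n hF).τ ((hb n hF).B v1 g) • f1, ?_, ?_, ?_⟩
    · rw [map_sub, hg, map_smul, h3]
    · rw [H886.FC.B_sub_right, hg1, (hb n hF).smul_right, h21, mul_zero, sub_zero]
    · rw [H886.FC.B_sub_right, (hb n hF).smul_right, (hb n hF).invol, h11, mul_one, sub_self]
  -- isotropy
  have hpf : ∀ f, p' f = f → p f = 0 := by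
    intro f hf
    have e1 : p f + p' f = f := by
      have := LinearMap.congr_fun hsum f
      exact this
    rw [hf] at e1
    exact add_eq_right.1 e1
  have hpv : ∀ v, p v = v → p' v = 0 := by
    intro v hv
    have e1 : p v + p' v = v := by
      have := LinearMap.congr_fun hsum v
      exact this
    rw [hv] at e1
    exact add_eq_left.1 e1
  have hff : ∀ f f', p' f = f → p' f' = f' → (hb n hF).B f f' = 0 := by
    intro f f' hf hf'
    rw [← hf, hadj', hpf f' hf', H886.FC.B_zero_right]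
  have hvv : ∀ f f', p f = f → p f' = f' → (hb n hF).B f f' = 0 := by
    intro f f' hf hf'
    rw [← hf, hadj, hpv f' hf', H886.FC.B_zero_right]
  have hfv11 : (hb n hF).B f1 v1 = 1 := by rw [hU.2, h11, map_one]
  have hfv12 : (hb n hF).B f1 v2 = 0 := by rw [hU.2, h21, map_zero]
  have hfv22 : (hb n hF).B f2 v2 = 1 := by rw [hU.2, hf21, map_one]
  have hfv21 : (hb n hF).B f2 v1 = 0 := by rw [hU.2, hf22, map_zero]
  refine ⟨op (hb n hF) f1 v2 + op (hb n hF) v1 f2, op (hb n hF) v2 f1 + op (hb n hF) f2 v1,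
    H886.FC.adj_add _ (adj_op hU _ _) (adj_op hU _ _), ?_, ?_, ?_, ?_, ?_⟩
  · simp only [mul_add, add_mul, add_mul, op_mul, op_mul, op_mul, op_mul, h21, hvv v2 v1 h2 h1, hff f2 f1 hf2 h3, hfv21,       zero_smul F (op (hb n hF) f1 v2), zero_smul F (op (hb n hF) f1 f2), zero_smul F (op (hb n hF) v1 v2), zero_smul F (op (hb n hF) v1 f2), add_zero, add_zero]
  · have e1 : (op (hb n hF) f1 v2 + op (hb n hF) v1 f2) * (op (hb n hF) v2 f1 + op (hb n hF) f2 v1) =
        op (hb n hF) f2 v2 + op (hb n hF) v2 f2 := by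
      rw [mul_add, add_mul, add_mul, op_mul, op_mul, op_mul, op_mul, hff f1 f1 h3 h3, hfv11, h11, hvv v1 v1 h1 h1,
        zero_smul, zero_smul, one_smul, one_smul, zero_add, add_zero, add_comm]
    simp only [e1, mul_add, add_mul, add_mul, op_mul, op_mul, op_mul, op_mul, hf21, hff f2 f2 hf2 hf2, hvv v2 v2 h2 h2, hfv22,         zero_smul F (op (hb n hF) f1 f2), zero_smul F (op (hb n hF) v1 v2), one_smul F (op (hb n hF) f1 v2), one_smul, zero_add, add_zero]
  · intro h4
    have h5 := LinearMap.congr_fun h4 v1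
    rw [LinearMap.add_apply, op_apply, op_apply, h11, hvv v1 v1 h1 h1, one_smul, zero_smul, add_zero] at h5
    exact h20 h5
  · rw [add_mul, mul_add, op_comm_of hadj (c := 1) (by rw [h3, map_one, one_smul]) (by rw [h2, one_smul]),
      op_comm_of hadj (c := 0) (by rw [hpv v1 h1, map_zero, zero_smul]) (by rw [hpf f2 hf2, zero_smul])]
  · rw [add_mul, mul_add, op_comm_of hadj (c := 0) (by rw [hpv v2 h2, map_zero, zero_smul]) (by rw [hpf f1 h3, zero_smul]),
      op_comm_of hadj (c := 1) (by rw [hf2, map_one, one_smul]) (by rw [h1, one_smul])]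

include hF in
/-- **dual pairs of totally isotropic subspaces** -/
theorem case_C2' [IsSimpleGroup (Cfsg.PSU n F q)] (hn : 3 ≤ n) (h32 : ¬ (n = 3 ∧ q = 2)) (h : IF A Γ)
    (hodd : Odd (Nat.card A)) {e : Fin 2 → R F (V n F)} (he : CompleteOrthogonalIdempotents e)
    (hadj : (hb n hF).Adj (e 0) (e 1)) (hS : ∀ f ∈ SS Γ, ∃ π : Equiv.Perm (Fin 2), ∀ i, f (e i) = e (π i)) : False := by
  have hU := hb_isU (n := n) hF
  have hadj' := H886.FC.adj_symm _ hadj
  have i0 : e 0 * e 0 = e 0 := he.idem 0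
  have i1 : e 1 * e 1 = e 1 := he.idem 1
  have o01 : e 0 * e 1 = 0 := he.ortho (by decide)
  have o10 : e 1 * e 0 = 0 := he.ortho (by decide)
  have hsum : e 0 + e 1 = 1 := by
    have := he.complete
    rwa [Fin.sum_univ_two] at this
  have hD : ∀ f ∈ SS Γ, ∀ x ∈ Set.range e, f x ∈ Set.range e := by
    rintro f hf _ ⟨i, rfl⟩
    obtain ⟨π, hπ⟩ := hS f hf
    exact ⟨π i, (hπ i).symm⟩
  -- `e 0 ≠ 0`
  have hne : ∃ v, e 0 v ≠ 0 := by
    by_contra hcon
    push Not at hcon
    have h0 : e 0 = 0 := LinearMap.ext hcon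
    have h1 : e 1 = 0 := by
      rw [h0] at hadj
      exact H886.FC.adj_unique _ hadj adj_zero
    rw [h0, h1, add_zero] at hsum
    have h2 := LinearMap.congr_fun hsum (Pi.single ⟨0, by omega⟩ 1)
    have h3 := congrFun h2 ⟨0, by omega⟩
    simp at h3
  obtain ⟨v, hv⟩ := hne
  obtain ⟨v1, f1, hv1, hf1, h11⟩ : ∃ v1 f1, e 0 v1 = v1 ∧ e 1 f1 = f1 ∧ (hb n hF).B v1 f1 = 1 := by
    obtain ⟨f, hf⟩ : ∃ f, (hb n hF).B (e 0 v) f ≠ 0 := by
      by_contra hcon
      push Not at hcon
      exact hv ((hb n hF).nondeg _ hcon)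
    refine ⟨((hb n hF).B (e 0 v) f)⁻¹ • e 0 v, e 1 f, ?_, ?_, ?_⟩
    · rw [map_smul, ← Module.End.mul_apply, i0]
    · rw [← Module.End.mul_apply, i1]
    · rw [(hb n hF).smul_left, ← hadj, ← Module.End.mul_apply, i0, inv_mul_cancel₀ hf]
  have hnc : ∃ y, e 0 * y ≠ y * e 0 := by
    refine ⟨op (hb n hF) f1 f1, fun h1 => ?_⟩
    have h2 := LinearMap.congr_fun h1 v1
    have h3 : e 0 f1 = 0 := by
      rw [← hf1, ← Module.End.mul_apply, o01, LinearMap.zero_apply]
    rw [Module.End.mul_apply, Module.End.mul_apply, hv1, op_apply, h11, one_smul, h3] at h2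
    rw [← h2, H886.FC.B_zero_right] at h11
    exact zero_ne_one h11
  obtain ⟨y, hy⟩ := hnc
  -- the partial isometry
  obtain ⟨x, hx0, hxf, hxv⟩ := exists_ne_zero_orth (q := q) hn f1 v1
  have hxf' : (hb n hF).B x f1 = 0 := hxf
  have hxv' : (hb n hF).B x v1 = 0 := hxv
  have main : ∃ a a' : R F (V n F), (hb n hF).Adj a a' ∧ a * a = 0 ∧ a * a' * a = a ∧ a ≠ 0 ∧ a * e 0 = e 0 * a ∧
      a' * e 0 = e 0 * a' := by
    by_cases h0 : e 0 x = 0
    · have h1 : e 1 x ≠ 0 := by
        intro h1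
        apply hx0
        have := LinearMap.congr_fun hsum x
        rw [LinearMap.add_apply, h0, h1, add_zero, Module.End.one_apply] at this
        exact this.symm
      obtain ⟨a, a', b1, b2, b3, b4, b5, b6⟩ := pair_aux hF hadj' o01 (by rw [add_comm]; exact hsum) (v1 := f1)
        (v2 := e 1 x) (f1 := v1) hf1 (by rw [← Module.End.mul_apply, i1]) hv1 (by rw [hU.2, h11, map_one])
        (by rw [hadj', hv1, hxv']) h1
      have e0 : e 0 = 1 - e 1 := by rw [← hsum]; abel
      refine ⟨a, a', b1, b2, b3, b4, ?_, ?_⟩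
      · rw [e0, mul_sub, sub_mul, b5, mul_one, one_mul]
      · rw [e0, mul_sub, sub_mul, b6, mul_one, one_mul]
    · exact pair_aux hF hadj o10 hsum (v1 := v1) (v2 := e 0 x) (f1 := f1) hv1
        (by rw [← Module.End.mul_apply, i0]) hf1 h11 (by rw [hadj, hf1, hxf']) h0
  obtain ⟨a, a', b1, b2, b3, b4, b5, b6⟩ := main
  have e1 : e 1 = 1 - e 0 := by rw [← hsum]; abel
  refine kill_comm hF hn h32 h hodd hD ⟨0, rfl⟩ hy b1 b2 b3 b4 ?_ ?_
  · rintro _ ⟨i, rfl⟩
    fin_cases i
    · exact b5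
    · change a * e 1 = e 1 * a
      rw [e1, mul_sub, sub_mul, b5, mul_one, one_mul]
  · rintro _ ⟨i, rfl⟩
    fin_cases i
    · exact b6
    · change a' * e 1 = e 1 * a'
      rw [e1, mul_sub, sub_mul, b6, mul_one, one_mul]

section herm

variable {K : Type u} [Field K] {V : Type v} [AddCommGroup V] [Module K V] {b : Cl K V}
  {E : Type*} [Field E] [Algebra K E] [Module E V] [IsScalarTower K E V] (H : H567.FC.Hm b E)

/-- `v ↦ h(v, x) y` -/
def opE (x y : V) : R K V where
  toFun v := H.h v x • y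
  map_add' v w := by rw [H.add_left, add_smul]
  map_smul' a v := by
    rw [RingHom.id_apply, ← algebraMap_smul E a v, H.smul_left, mul_smul, algebraMap_smul]

theorem opE_apply (x y v : V) : opE H x y v = H.h v x • y := rfl

theorem adj_opE (x y : V) : b.Adj (opE H x y) (opE H y x) := by
  intro v w
  rw [opE_apply, opE_apply, H.tr, H.tr, H.smul_left, H.smul_right, ← H.symm]
  rw [mul_comm]

theorem opE_mul (x y z t : V) : opE H x y * opE H z t = opE H z (H.h t x • y) := by
  apply LinearMap.ext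
  intro v
  rw [Module.End.mul_apply, opE_apply, opE_apply, opE_apply, H.smul_left, mul_smul]

/-- the partial isometry over the field `E` -/
theorem exists_aE [Finite K] [Module.Finite K V] (hU : b.IsU) (E : Subalgebra K (R K V)) (hE : IsField E)
    (hadj : ∀ X ∈ E, ∃ Y ∈ E, b.Adj X Y) (h0 : 1 ≤ Module.finrank K V) (hne : Module.finrank K E ≠ Module.finrank K V) :
    ∃ a a' : R K V, b.Adj a a' ∧ a * a = 0 ∧ a * a' * a = a ∧ a ≠ 0 ∧ (∀ z ∈ E, a * z = z * a) ∧
      ∀ z ∈ E, a' * z = z * a' := by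
  letI : Field E := hE.toField
  haveI : Finite (R K V) := Module.finite_of_finite K
  haveI : Finite E := inferInstance
  have h1 : Module.finrank K E * Module.finrank E V = Module.finrank K V := Module.finrank_mul_finrank K E V
  have h2 : 2 ≤ Module.finrank E V := by
    by_contra hcon
    have h3 : Module.finrank E V = 0 ∨ Module.finrank E V = 1 := by omega
    rcases h3 with h3 | h3
    · rw [h3, mul_zero] at h1
      omega
    · rw [h3, mul_one] at h1
      exact hne h1
  haveI : Nontrivial V := Module.nontrivial_of_finrank_pos (R := K) (by omega)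
  haveI : Module.Finite E V := Module.Finite.of_restrictScalars_finite K E V
  obtain ⟨H⟩ := H567.FC.exists_Hm (E := E) hU (by
    intro a
    obtain ⟨Y, hY, hY'⟩ := hadj a a.2
    exact ⟨⟨Y, hY⟩, hY'⟩)
  obtain ⟨a₀, ha₀⟩ := hU.1
  have hJ : ∃ a, H.J a ≠ a := by
    refine ⟨algebraMap K E a₀, fun h => ha₀ ?_⟩
    rw [H.J_alg] at h
    exact FaithfulSMul.algebraMap_injective K E h
  obtain ⟨c, hc⟩ := H.exists_orthonormal hJ
  obtain ⟨x, hx⟩ : ∃ x, x = c ⟨0, by omega⟩ := ⟨_, rfl⟩
  obtain ⟨y, hy⟩ : ∃ y, y = c ⟨1, by omega⟩ := ⟨_, rfl⟩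
  have hxx : H.h x x = 1 := by rw [hx, hc, if_pos rfl]
  have hyy : H.h y y = 1 := by rw [hy, hc, if_pos rfl]
  have hyx : H.h y x = 0 := by
    rw [hx, hy, hc, if_neg]
    intro h
    have := congrArg Fin.val h
    simp at this
  have hy0 : y ≠ 0 := by
    rintro rfl
    rw [H.zero_left] at hyy
    exact zero_ne_one hyy
  have hsm : ∀ (z : E) (v : V), z • v = (z : R K V) v := fun z v => rfl
  have hcomm : ∀ x y : V, ∀ z ∈ E, opE H x y * z = z * opE H x y := by
    intro x y z hz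
    apply LinearMap.ext
    intro v
    have h4 : H.h (z v) x = (⟨z, hz⟩ : E) * H.h v x := by
      rw [← H.smul_left, hsm]
    rw [Module.End.mul_apply, Module.End.mul_apply, opE_apply, opE_apply, h4, mul_smul, hsm]
  refine ⟨opE H x y, opE H y x, adj_opE H x y, ?_, ?_, ?_, hcomm x y, hcomm y x⟩
  · apply LinearMap.ext
    intro v
    rw [opE_mul, hyx, zero_smul, opE_apply, smul_zero, LinearMap.zero_apply]
  · simp only [opE_mul, hxx, one_smul, opE_mul, hyy, one_smul]
  · intro h3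
    have h4 := LinearMap.congr_fun h3 x
    simp only [opE_apply, hxx, one_smul, LinearMap.zero_apply] at h4
    exact hy0 h4

end herm

include hF in
/-- **fields, `dim_E V ≥ 2`** -/
theorem case_C3 [IsSimpleGroup (Cfsg.PSU n F q)] (hn : 3 ≤ n) (h32 : ¬ (n = 3 ∧ q = 2)) (h : IF A Γ)
    (hodd : Odd (Nat.card A)) (E : Subalgebra F (R F (V n F))) (hE : IsField E) (hp : (Module.finrank F E).Prime)
    (hadj : ∀ X ∈ E, ∃ Y ∈ E, (hb n hF).Adj X Y) (hS : ∀ f ∈ SS Γ, ∀ X ∈ E, f X ∈ E)
    (hne : Module.finrank F E ≠ n) : False := by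
  have hU := hb_isU (n := n) hF
  have hfr : Module.finrank F (V n F) = n := by simp only [V, _root_.Module.finrank_fintype_fun_eq_card, _root_.Fintype.card_fin]
  obtain ⟨a, a', b1, b2, b3, b4, b5, b6⟩ := exists_aE hU E hE hadj (by rw [hfr]; omega) (by rw [hfr]; exact hne)
  -- non-central element
  obtain ⟨X, hX, Y, hXY⟩ : ∃ X ∈ E, ∃ Y, X * Y ≠ Y * X := by
    by_contra hcon
    push Not at hcon
    have h3 : E = ⊥ := by
      rw [eq_bot_iff]
      intro X hX
      obtain ⟨c, hc⟩ := scalar_of_comm (hcon X hX)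
      rw [hc, ← Algebra.algebraMap_eq_smul_one]
      exact Subalgebra.algebraMap_mem _ _
    have hnt : Nontrivial (V n F) := Module.nontrivial_of_finrank_pos (R := F) (by rw [hfr]; omega)
    have hnt2 : Nontrivial (R F (V n F)) := by
      refine ⟨⟨1, 0, fun h => ?_⟩⟩
      obtain ⟨v, hv⟩ := exists_ne (0 : V n F)
      exact hv (LinearMap.congr_fun h v)
    rw [h3, Subalgebra.finrank_bot] at hp
    exact Nat.not_prime_one hp
  exact kill_comm hF hn h32 h hodd (D := (E : Set (R F (V n F)))) hS hX hXY b1 b2 b3 b4 b5 b6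

include hF in
/-- **tensor products** -/
theorem case_C4 [IsSimpleGroup (Cfsg.PSU n F q)] (hn : 3 ≤ n) (h32 : ¬ (n = 3 ∧ q = 2)) (h : IF A Γ)
    (hodd : Odd (Nat.card A)) {u' y : ℕ} (Φ : Matrix (Fin u' × Fin y) (Fin u' × Fin y) F ≃ₐ[F] R F (V n F))
    (hu : 2 ≤ u') (hy : 2 ≤ y)
    (hadj : ∀ B : Matrix (Fin u') (Fin u') F, ∃ B' : Matrix (Fin u') (Fin u') F,
      (hb n hF).Adj (Φ (B ⊗ₖ (1 : Matrix (Fin y) (Fin y) F))) (Φ (B' ⊗ₖ (1 : Matrix (Fin y) (Fin y) F))))
    (hS : ∀ f ∈ SS Γ, ∀ B : Matrix (Fin u') (Fin u') F, ∃ B' : Matrix (Fin u') (Fin u') F,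
      f (Φ (B ⊗ₖ (1 : Matrix (Fin y) (Fin y) F))) = Φ (B' ⊗ₖ (1 : Matrix (Fin y) (Fin y) F))) : False := by
  have hU := hb_isU (n := n) hF
  have : Nonempty (Fin u') := ⟨⟨0, by omega⟩⟩
  have : Nonempty (Fin y) := ⟨⟨0, by omega⟩⟩
  obtain ⟨Ψ, h1, h3, hΨ⟩ := Cfsg.Agent.H195.FC.exists_nf (hb n hF) hU Φ hadj
  obtain ⟨i, hi⟩ : ∃ i : Fin y, i = ⟨0, by omega⟩ := ⟨_, rfl⟩
  obtain ⟨j, hj⟩ : ∃ j : Fin y, j = ⟨1, by omega⟩ := ⟨_, rfl⟩
  obtain ⟨k, hk⟩ : ∃ i : Fin u', i = ⟨0, by omega⟩ := ⟨_, rfl⟩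
  obtain ⟨l, hl⟩ : ∃ j : Fin u', j = ⟨1, by omega⟩ := ⟨_, rfl⟩
  have hij : i ≠ j := by
    rw [hi, hj]
    intro h; have := congrArg Fin.val h; simp at this
  have hkl : k ≠ l := by
    rw [hk, hl]
    intro h; have := congrArg Fin.val h; simp at this
  have hD : ∀ f ∈ SS Γ, ∀ x ∈ Set.range (fun B : Matrix (Fin u') (Fin u') F => Ψ (B ⊗ₖ (1 : Matrix (Fin y) (Fin y) F))),
      f x ∈ Set.range (fun B : Matrix (Fin u') (Fin u') F => Ψ (B ⊗ₖ (1 : Matrix (Fin y) (Fin y) F))) := by
    rintro f hf _ ⟨B, rfl⟩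
    obtain ⟨B1, hB1⟩ := h3 B
    obtain ⟨B2, hB2⟩ := hS f hf B1
    obtain ⟨B3, hB3⟩ := h1 B2
    refine ⟨B3, ?_⟩
    simp only []
    rw [hB1, hB2, hB3]
  have hXY : Ψ (single k l (1 : F) ⊗ₖ (1 : Matrix (Fin y) (Fin y) F)) * Ψ (single l k (1 : F) ⊗ₖ (1 : Matrix (Fin y) (Fin y) F)) ≠
      Ψ (single l k (1 : F) ⊗ₖ (1 : Matrix (Fin y) (Fin y) F)) * Ψ (single k l (1 : F) ⊗ₖ (1 : Matrix (Fin y) (Fin y) F)) := by
    rw [← map_mul, ← map_mul, ← mul_kronecker_mul, ← mul_kronecker_mul, single_mul_single_same, single_mul_single_same,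
      Matrix.mul_one, one_mul]
    intro h4
    have h5 := congrFun (congrFun (Ψ.injective h4) (k, i)) (k, i)
    rw [kroneckerMap_apply, kroneckerMap_apply, single_apply_same, single_apply, if_neg (fun h => hkl h.1.symm), one_apply_eq,
      zero_mul, mul_one] at h5
    exact one_ne_zero h5
  have hadj1 : (hb n hF).Adj (Ψ ((1 : Matrix (Fin u') (Fin u') F) ⊗ₖ single i j (1 : F)))
      (Ψ ((1 : Matrix (Fin u') (Fin u') F) ⊗ₖ single j i (1 : F))) := by
    have h4 := hΨ ((1 : Matrix (Fin u') (Fin u') F) ⊗ₖ single i j (1 : F))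
    have e : ((((1 : Matrix (Fin u') (Fin u') F) ⊗ₖ single i j (1 : F)).map (hb n hF).τ)ᵀ) =
        (1 : Matrix (Fin u') (Fin u') F) ⊗ₖ single j i (1 : F) := by
      ext ⟨a, b⟩ ⟨c, d⟩
      rw [transpose_apply, map_apply, kroneckerMap_apply, kroneckerMap_apply, map_mul, one_apply, one_apply, single_apply,
        single_apply]
      congr 1
      · by_cases hac : c = a
        · rw [if_pos hac, if_pos hac.symm, map_one]
        · rw [if_neg hac, if_neg (Ne.symm hac), map_zero]
      · by_cases hbd : i = d ∧ j = b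
        · rw [if_pos hbd, if_pos hbd.symm, map_one]
        · rw [if_neg hbd, if_neg (fun h => hbd h.symm), map_zero]
    rwa [e] at h4
  refine kill_comm hF hn h32 h hodd hD ⟨single k l (1 : F), rfl⟩ hXY hadj1 ?_ ?_ ?_ ?_ ?_
  · rw [← map_mul, ← mul_kronecker_mul, single_mul_single_of_ne _ _ _ _ hij.symm, kronecker_zero, map_zero]
  · rw [← map_mul, ← map_mul, ← mul_kronecker_mul, ← mul_kronecker_mul, single_mul_single_same, single_mul_single_same,
      Matrix.mul_one, Matrix.mul_one, one_mul, one_mul]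
  · intro h4
    have h5 : (1 : Matrix (Fin u') (Fin u') F) ⊗ₖ single i j (1 : F) = 0 := Ψ.injective (by rw [h4, map_zero])
    have h6 := congrFun (congrFun h5 (k, i)) (k, j)
    rw [kroneckerMap_apply, one_apply_eq, single_apply_same, one_mul] at h6
    exact one_ne_zero h6
  · rintro _ ⟨B, rfl⟩
    simp only []
    rw [← map_mul, ← map_mul, ← mul_kronecker_mul, ← mul_kronecker_mul, Matrix.one_mul, Matrix.mul_one, Matrix.one_mul,
      Matrix.mul_one]
  · rintro _ ⟨B, rfl⟩
    simp only []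
    rw [← map_mul, ← map_mul, ← mul_kronecker_mul, ← mul_kronecker_mul, Matrix.one_mul, Matrix.mul_one, Matrix.one_mul,
      Matrix.mul_one]

end Cfsg.Agent.H574.IFO
end

-- part: H716/IFO/SingUpU
section
/-!
# S5719, `PSU_n(q)`, `|A|` odd: Singer cycles, few elements of `A` are fixed (helper716)
-/

set_option autoImplicit false
set_option linter.unusedSectionVars false

namespace Cfsg.Agent.H716.IFO.U

open Matrix Subgroup Cfsg.Agent.H198.FC Cfsg.Agent.LieClassical.HermBasic Cfsg.Agent.LieClassical.HermSiegel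
  Cfsg.Agent.ClassicalGeometry.PSUAutCount Cfsg.Agent.Schreier.PSU Cfsg.Agent.H602.FC Cfsg.Agent.H209.Fxy Cfsg.Agent.H574.IFO
open Cfsg.Agent.ClassicalGeometry.UnitAutBasic (pr pr_surjective)

variable {n : ℕ} {F : Type} [Field F] {q : ℕ} [Fintype F] (hF : Fintype.card F = q ^ 2)
  {A : Subgroup (Cfsg.PSU n F q)} {Γ : Subgroup (MulAut (Cfsg.PSU n F q))}

/-- `f` inverts the unitary elements of `E` -/
theorem inv_on {E : Subalgebra F (R F (H602.FC.V n F))} (hE : IsField E)
    (hadj : ∀ X ∈ E, ∃ Y ∈ E, (hb n hF).Adj X Y) {f : Equiv.Perm (R F (H602.FC.V n F))}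
    (hf : f ∈ RP F (H602.FC.V n F)) (hff : f * f = 1) (hfE : ∀ X ∈ E, f X ∈ E)
    (hnt : ∃ c : F, f (c • (1 : R F (H602.FC.V n F))) ≠ c • 1) {X Y : R F (H602.FC.V n F)} (hX : X ∈ E)
    (hXY : (hb n hF).Adj X Y) : f X = Y := by
  obtain ⟨st, hst, hst2, hstA, hstm⟩ := H886.FC.exists_st (hb n hF)
  let iE : Field E := (hE.toField : _)
  have hfin : Finite (R F (H602.FC.V n F)) := Cfsg.Agent.H716.FC.finite_R
  have : Finite E := inferInstance
  have hstE : ∀ X ∈ E, st X ∈ E := by
    intro X hX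
    obtain ⟨Y, hY, hXY⟩ := hadj X hX
    rw [H886.FC.adj_unique (hb n hF) (hst X) hXY]
    exact hY
  have hss : ∀ X, st (st X) = X := fun X => DFunLike.congr_fun hst2 X
  have hfs : ∀ X, f (f X) = X := fun X => DFunLike.congr_fun hff X
  have hcomm : ∀ X ∈ E, ∀ Y ∈ E, X * Y = Y * X := fun X hX Y hY =>
    congrArg Subtype.val (hE.mul_comm ⟨X, hX⟩ ⟨Y, hY⟩)
  let J : E ≃+* E :=
    { toFun := fun X => ⟨st X, hstE X X.2⟩
      invFun := fun X => ⟨st X, hstE X X.2⟩
      left_inv := fun X => Subtype.ext (hss X)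
      right_inv := fun X => Subtype.ext (hss X)
      map_add' := fun X Y => Subtype.ext (hstA.1 X Y)
      map_mul' := fun X Y => Subtype.ext ((hstm X Y).trans (hcomm _ (hstE Y Y.2) _ (hstE X X.2))) }
  let φ : E ≃+* E :=
    { toFun := fun X => ⟨f X, hfE X X.2⟩
      invFun := fun X => ⟨f X, hfE X X.2⟩
      left_inv := fun X => Subtype.ext (hfs X)
      right_inv := fun X => Subtype.ext (hfs X)
      map_add' := fun X Y => Subtype.ext (hf.1 X Y)
      map_mul' := fun X Y => Subtype.ext (hf.2 X Y) }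
  have hJ1 : ∃ a, J a ≠ a := by
    obtain ⟨⟨c, hc⟩, -⟩ := hb_isU (n := n) hF
    refine ⟨⟨c • 1, E.smul_mem (one_mem E) c⟩, fun h1 => ?_⟩
    have h2 : st (c • 1) = c • 1 := congrArg Subtype.val h1
    have h3 : (hb n hF).Adj (c • (1 : R F (H602.FC.V n F))) (c • 1) := by
      have h4 := hst (c • 1)
      rwa [h2] at h4
    obtain ⟨d, hd⟩ := hnt
    have hnt2 : Nontrivial (H602.FC.V n F) := by
      by_contra hcon
      rw [not_nontrivial_iff_subsingleton] at hcon
      apply hd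
      ext v
      exact congrFun (Subsingleton.elim _ _) _
    obtain ⟨v, hv⟩ := exists_ne (0 : H602.FC.V n F)
    apply hv
    apply (hb n hF).nondeg
    intro w
    have h5 : (hb n hF).B (c • v) w = (hb n hF).B v (c • w) := h3 v w
    rw [(hb n hF).smul_left, (hb n hF).smul_right] at h5
    have h6 : (c - (hb n hF).τ c) * (hb n hF).B v w = 0 := by linear_combination h5
    rcases mul_eq_zero.1 h6 with h7 | h7
    · exact absurd (sub_eq_zero.1 h7).symm hc
    · exact h7
  have hφ1 : ∃ a, φ a ≠ a := by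
    obtain ⟨c, hc⟩ := hnt
    exact ⟨⟨c • 1, E.smul_mem (one_mem E) c⟩, fun h1 => hc (congrArg Subtype.val h1)⟩
  have h1 : J = φ := H567.FC.invol_unique (fun X => Subtype.ext (hss X)) (fun X => Subtype.ext (hfs X)) hJ1 hφ1
  have h2 : (J ⟨X, hX⟩ : R F (H602.FC.V n F)) = φ ⟨X, hX⟩ := by rw [h1]
  have h3 : st X = f X := h2
  rw [← h3]
  exact H886.FC.adj_unique (hb n hF) (hst X) hXY

include hF in
theorem sing_up (hn : 3 ≤ n) [IsSimpleGroup (Cfsg.PSU n F q)] (h : IF A Γ) (hodd : Odd (Nat.card A))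
    (E : Subalgebra F (R F (H602.FC.V n F))) (hE : IsField E) (hd : Module.finrank F E = n)
    (hadj : ∀ X ∈ E, ∃ Y ∈ E, (hb n hF).Adj X Y) (hSE : ∀ f ∈ SS Γ, ∀ X ∈ E, f X ∈ E)
    {f : Equiv.Perm (R F (H602.FC.V n F))} {σ : MulAut (Cfsg.PSU n F q)} (hf : ((f, σ) : GGU n F q) ∈ HU n F q)
    (hσ : σ ∈ Γ) (ho : orderOf σ = 2) (hnt : ∃ c : F, f (c • (1 : R F (H602.FC.V n F))) ≠ c • 1) :
    Nat.card {a // a ∈ A ∧ σ a = a} ≤ n := by
  classical
  have hfS : f ∈ SS Γ := mem_SS.2 ⟨σ, hσ, hf⟩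
  have hfR : f ∈ RP F (H602.FC.V n F) := (SS_le hF hfS).1
  have hσ2 : σ * σ = 1 := by rw [← pow_two, ← ho, pow_orderOf_eq_one]
  have hff : f * f = 1 := by
    refine eq_of_snd hF hn (σ := 1) ?_ (one_mem _)
    have h1 := mul_mem hf hf
    have h2 : ((f, σ) : GGU n F q) * (f, σ) = (f * f, 1) := Prod.ext rfl hσ2
    rwa [h2] at h1
  have hfs : ∀ X, f (f X) = X := fun X => DFunLike.congr_fun hff X
  have hfin : Finite (R F (H602.FC.V n F)) := Cfsg.Agent.H716.FC.finite_R
  have hdim : Module.finrank F (H602.FC.V n F) = n := by simp only [H602.FC.V, _root_.Module.finrank_fintype_fun_eq_card, _root_.Fintype.card_fin]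
  have hntV : Nontrivial (H602.FC.V n F) := Module.nontrivial_of_finrank_pos (R := F) (by rw [hdim]; omega)
  -- the elements of `E`
  have key : ∀ s : Cfsg.SU n F q, (us s : R F (H602.FC.V n F)) ∈ E → pr n F q s ∈ A → σ (pr n F q s) = pr n F q s →
      pr n F q s = 1 := by
    intro s hs hsA hsσ
    have h1 : f * cs s * f⁻¹ = cs s := conj_cs hF hn hf hsσ.symm
    have h2 : (hb n hF).Adj (us s : R F (H602.FC.V n F)) (((us s)⁻¹ : (R F (H602.FC.V n F))ˣ) : R F (H602.FC.V n F)) := by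
      intro v w
      have h3 := gu_isom hF (gu s) v ((((us s)⁻¹ : (R F (H602.FC.V n F))ˣ) : R F (H602.FC.V n F)) w)
      have h4 : (us s : R F (H602.FC.V n F)) ((((us s)⁻¹ : (R F (H602.FC.V n F))ˣ) : R F (H602.FC.V n F)) w) = w := by
        rw [← Module.End.mul_apply, Units.mul_inv, Module.End.one_apply]
      rw [← h3]
      change (hb n hF).B ((us s : R F (H602.FC.V n F)) v) w = (hb n hF).B ((us s : R F (H602.FC.V n F)) v)
        ((us s : R F (H602.FC.V n F)) ((((us s)⁻¹ : (R F (H602.FC.V n F))ˣ) : R F (H602.FC.V n F)) w))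
      rw [h4]
    have h5 := inv_on hF hE hadj hfR hff (hSE f hfS) hnt hs h2
    have h6 : f (((us s)⁻¹ : (R F (H602.FC.V n F))ˣ) : R F (H602.FC.V n F)) = us s := by rw [← h5, hfs]
    have h7 : f * cs s * f⁻¹ = (cs s)⁻¹ := by
      rw [cs, ← map_inv]
      apply Equiv.ext
      intro X
      change f ((us s : R F (H602.FC.V n F)) * f⁻¹ X * (((us s)⁻¹ : (R F (H602.FC.V n F))ˣ) : R F (H602.FC.V n F))) = _
      rw [hfR.2, hfR.2, h5, h6]
      have h8 : f (f⁻¹ X) = X := f.apply_symm_apply X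
      rw [h8, cj_apply, inv_inv]
    rw [h1] at h7
    have h8 : cs s * cs s = 1 := by
      nth_rewrite 1 [h7]
      exact inv_mul_cancel _
    have h9 : cs (s * s) = 1 := by
      rw [← h8, cs, cs, map_mul, map_mul]
    have h10 := pair_mem (s * s)
    rw [h9] at h10
    have h11 : MulAut.conj (pr n F q (s * s)) = 1 := eq_of_fst h10 (one_mem _)
    have h12 : pr n F q (s * s) = 1 := by
      apply center_bot h
      intro y
      have h13 := DFunLike.congr_fun h11 y
      rw [MulAut.conj_apply, MulAut.one_apply] at h13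
      exact mul_inv_eq_iff_eq_mul.1 h13
    have h13 : pr n F q s ^ 2 = 1 := by rw [pow_two, ← map_mul, h12]
    have h14 := orderOf_dvd_of_pow_eq_one h13
    have h15 : orderOf (pr n F q s) ∣ Nat.card A := by
      have h16 := _root_.orderOf_dvd_natCard (⟨pr n F q s, hsA⟩ : A)
      rwa [Subgroup.orderOf_mk] at h16
    exact orderOf_eq_one_iff.1 (Nat.eq_one_of_dvd_coprimes (Nat.coprime_two_left.2 hodd) h14 h15)
  let iE : Field E := (hE.toField : _)
  have : Finite E := inferInstance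
  -- the action on `E`
  have hres : ∀ a : {a // a ∈ A ∧ σ a = a}, ∃ (s : Cfsg.SU n F q) (g : E →ₐ[F] E), pr n F q s = a.1 ∧
      ∀ X : E, (g X : R F (H602.FC.V n F)) = cs s X := by
    rintro ⟨a, ha, -⟩
    obtain ⟨s, rfl⟩ := pr_surjective a
    have hE' : ∀ X ∈ E, cs s X ∈ E := hSE _ ((cs_mem_SS h).2 ha)
    refine ⟨s, AlgHom.ofLinearMap
      { toFun := fun X => ⟨cs s X, hE' X X.2⟩
        map_add' := fun X Y => Subtype.ext ((cj_mem_RP (us s)).1 X Y)
        map_smul' := fun c X => Subtype.ext (by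
          change (us s : R F (H602.FC.V n F)) * (c • (X : R F (H602.FC.V n F))) *
            (((us s)⁻¹ : (R F (H602.FC.V n F))ˣ) : R F (H602.FC.V n F)) = c • (cs s X)
          rw [mul_smul_comm, smul_mul_assoc, cj_apply]) } ?_ ?_, rfl, fun X => rfl⟩
    · apply Subtype.ext
      change (us s : R F (H602.FC.V n F)) * (1 : R F (H602.FC.V n F)) *
        (((us s)⁻¹ : (R F (H602.FC.V n F))ˣ) : R F (H602.FC.V n F)) = 1
      rw [mul_one, Units.mul_inv]
    · intro X Y
      exact Subtype.ext ((cj_mem_RP (us s)).2 X Y)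
  choose s g hs hg using hres
  have hcard : Nat.card (E →ₐ[F] E) ≤ n := (card_algHom_le_finrank F E E).trans hd.le
  have : Finite (E →ₐ[F] E) := Finite.of_injective (fun φ : E →ₐ[F] E => (φ : E → E)) DFunLike.coe_injective
  have hinj : Function.Injective g := by
    intro a b hab
    have h1 : ∀ X ∈ E, cs (s a) X = cs (s b) X := by
      intro X hX
      have h2 := congrArg (fun φ : E →ₐ[F] E => ((φ ⟨X, hX⟩ : E) : R F (H602.FC.V n F))) hab
      simp only [hg] at h2
      exact h2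
    have h3 : ∀ X ∈ E, cs ((s b)⁻¹ * s a) X = X := by
      intro X hX
      have e : cs ((s b)⁻¹ * s a) = (cs (s b))⁻¹ * cs (s a) := by
        rw [cs, cs, cs, map_mul, map_mul, map_inv, map_inv]
      rw [e, Equiv.Perm.mul_apply, h1 X hX]
      exact (cs (s b)).symm_apply_apply X
    have h4 : (us ((s b)⁻¹ * s a) : R F (H602.FC.V n F)) ∈ E :=
      H5.IFO.mem_of_comm hE (by rw [hd, hdim]) (fun X hX => H5.IFO.fix_one_of_cj.1 (h3 X hX))
    have h5 : pr n F q ((s b)⁻¹ * s a) = (b.1)⁻¹ * a.1 := by rw [map_mul, map_inv, hs, hs]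
    have h6 : (b.1)⁻¹ * a.1 ∈ A := A.mul_mem (A.inv_mem b.2.1) a.2.1
    have h7 : σ ((b.1)⁻¹ * a.1) = (b.1)⁻¹ * a.1 := by rw [map_mul, map_inv, a.2.2, b.2.2]
    have h8 := key _ h4 (by rw [h5]; exact h6) (by rw [h5]; exact h7)
    rw [h5] at h8
    apply Subtype.ext
    exact (inv_mul_eq_one.1 h8).symm
  exact (Nat.card_le_card_of_injective g hinj).trans hcard

end Cfsg.Agent.H716.IFO.U
end

-- part: H204/IFO/CSixB
section
/-!
# S5719, block ODD: the inverting element for `C6Data`, `r` odd, is an isometry (helper204)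
-/

set_option autoImplicit false
set_option linter.unusedSectionVars false

namespace Cfsg.Agent.H204.IFO.CSix

open Cfsg.Agent.H198.FC Cfsg.Agent.H886.FC Cfsg.Agent.H204.IFO.Inv Module

universe u v

section

variable {K : Type u} [Field K] {V : Type v} [AddCommGroup V] [Module K V] [Nontrivial V] {b : Cl K V}
  {S A : Subgroup (Equiv.Perm (R K V))} {r a : ℕ}

theorem adj_smul (c : K) {X Y : R K V} (h : b.Adj X Y) : b.Adj (c • X) (b.τ c • Y) := by
  intro v w
  rw [LinearMap.smul_apply, LinearMap.smul_apply, b.smul_left, b.smul_right, b.invol, h]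

/-- the lifts of order `r` are isometries -/
theorem st_mul [Finite K] [Module.Finite K V] (hS : S ≤ RB b) (h : C6Data S A r a) (hr : Odd r)
    {st : Equiv.Perm (R K V)} (hst : ∀ X, b.Adj X (st X)) (hmul : ∀ X Y, st (X * Y) = st Y * st X)
    {u : (R K V)ˣ} (hu : cj K V u ∈ A) (hur : u ^ r = 1) : st (u : R K V) * u = 1 := by
  have hSA : S ≤ RA K V := hS.trans fun f hf => RP_le_RA hf.1
  have hst1 : st 1 = 1 := adj_unique b (hst 1) (fun v w => rfl)
  have hsmul : ∀ (c : K) (X : R K V), st (c • X) = b.τ c • st X := fun c X =>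
    adj_unique b (hst (c • X)) (adj_smul c (hst X))
  have hsurj : ∀ X : R K V, st (st X) = X := fun X => adj_unique b (hst (st X)) (adj_symm b (hst X))
  -- `st u * u` is a scalar
  have hsc : ∀ u : (R K V)ˣ, cj K V u ∈ A → u ^ r = 1 →
      ∃ μ : K, st (u : R K V) * u = μ • (1 : R K V) ∧ μ ^ r = 1 ∧ b.τ μ = μ := by
    intro u hu hur
    have hRB : ∀ X : R K V, st (u * X * (u⁻¹ : (R K V)ˣ)) = u * st X * (u⁻¹ : (R K V)ˣ) := by
      intro X
      have h1 := ((hS (h.2.2.2.1 hu)).2 X (st X)).1 (hst X)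
      rw [cj_apply, cj_apply] at h1
      exact adj_unique b (hst _) h1
    have huu : st ((u⁻¹ : (R K V)ˣ) : R K V) * st (u : R K V) = 1 := by
      rw [← hmul, u.mul_inv, hst1]
    have huu' : st (u : R K V) * st ((u⁻¹ : (R K V)ˣ) : R K V) = 1 := by
      rw [← hmul, u.inv_mul, hst1]
    obtain ⟨μ, hμ⟩ := exists_scalar_of_central (st (u : R K V) * (u : R K V)) (by
      intro Y
      have h1 := hRB (st Y)
      rw [hmul, hmul, hsurj] at h1
      -- `st u⁻¹ * (Y * st u) = u * Y * u⁻¹`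
      calc st (u : R K V) * u * Y = st (u : R K V) * (u * Y * (u⁻¹ : (R K V)ˣ)) * u := by
            simp only [mul_assoc]
            rw [u.inv_mul, mul_one]
        _ = st (u : R K V) * (st ((u⁻¹ : (R K V)ˣ) : R K V) * (Y * st (u : R K V))) * u := by rw [h1]
        _ = Y * (st (u : R K V) * u) := by
            rw [← mul_assoc (st (u : R K V)), huu', one_mul, mul_assoc])
    refine ⟨μ, hμ, ?_, ?_⟩
    · have h1 : st (u : R K V) = μ • ((u⁻¹ : (R K V)ˣ) : R K V) := by
        calc st (u : R K V) = st (u : R K V) * u * (u⁻¹ : (R K V)ˣ) := by rw [mul_assoc, u.mul_inv, mul_one]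
          _ = μ • ((u⁻¹ : (R K V)ˣ) : R K V) := by rw [hμ, smul_mul_assoc, one_mul]
      have h2 : st (u : R K V) ^ r = 1 := by
        have h3 : ∀ n : ℕ, st ((u : R K V) ^ n) = st (u : R K V) ^ n := by
          intro n
          induction n with
          | zero => rw [pow_zero, pow_zero, hst1]
          | succ n ih => rw [pow_succ, hmul, ih, ← pow_succ']
        rw [← h3, ← Units.val_pow_eq_pow_val, hur, Units.val_one, hst1]
      rw [h1, smul_pow, ← Units.val_pow_eq_pow_val, inv_pow, hur, inv_one, Units.val_one] at h2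
      have h3 : (μ ^ r - 1) • (1 : R K V) = 0 := by rw [sub_smul, h2, one_smul, sub_self]
      exact sub_eq_zero.1 ((smul_eq_zero.1 h3).resolve_right one_ne_zero)
    · have h1 : st (st (u : R K V) * u) = st (u : R K V) * u := by rw [hmul, hsurj]
      rw [hμ, hsmul, hst1] at h1
      have h3 : (b.τ μ - μ) • (1 : R K V) = 0 := by rw [sub_smul, h1, sub_self]
      exact sub_eq_zero.1 ((smul_eq_zero.1 h3).resolve_right one_ne_zero)
  -- a commutator scalar
  obtain ⟨x, hx, hxr, y, hy, hyr, c, hc, hcr, hc1⟩ := exists_noncomm hSA h hr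
  have hc0 : c ≠ 0 := by
    rintro rfl
    rw [zero_pow h.1.ne_zero] at hcr
    exact zero_ne_one hcr
  have hτc : b.τ c * c = 1 := by
    obtain ⟨μ, hμ, hμr, -⟩ := hsc x hx hxr
    obtain ⟨ν, hν, hνr, -⟩ := hsc y hy hyr
    have hμ0 : μ ≠ 0 := by
      rintro rfl
      rw [zero_pow h.1.ne_zero] at hμr
      exact zero_ne_one hμr
    have hν0 : ν ≠ 0 := by
      rintro rfl
      rw [zero_pow h.1.ne_zero] at hνr
      exact zero_ne_one hνr
    -- evaluate `st (x y) (x y)` in two ways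
    have h1 : st ((x : R K V) * y) * (x * y) = (μ * ν) • (1 : R K V) := by
      rw [hmul]
      calc st (y : R K V) * st (x : R K V) * (x * y) = st (y : R K V) * (st (x : R K V) * x) * y := by
            simp only [mul_assoc]
        _ = (μ * ν) • (1 : R K V) := by
            rw [hμ, mul_smul_comm, mul_one, smul_mul_assoc, hν, smul_smul]
    have h2 : st ((y : R K V) * x) * (y * x) = (μ * ν) • (1 : R K V) := by
      rw [hmul]
      calc st (x : R K V) * st (y : R K V) * (y * x) = st (x : R K V) * (st (y : R K V) * y) * x := by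
            simp only [mul_assoc]
        _ = (μ * ν) • (1 : R K V) := by
            rw [hν, mul_smul_comm, mul_one, smul_mul_assoc, hμ, smul_smul, mul_comm]
    rw [hc, hsmul, smul_mul_smul_comm, h2] at h1
    have h3 : ((b.τ c * c - 1) * (μ * ν)) • (1 : R K V) = 0 := by
      rw [sub_mul, one_mul, sub_smul, ← smul_smul, h1, sub_self]
    exact sub_eq_zero.1 ((mul_eq_zero.1 ((smul_eq_zero.1 h3).resolve_right one_ne_zero)).resolve_right
      (mul_ne_zero hμ0 hν0))
  obtain ⟨μ, hμ, hμr, hτμ⟩ := hsc u hu hur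
  have hprim : IsPrimitiveRoot c r := by
    have h4 : orderOf c = r := by
      rcases (Nat.dvd_prime h.1).1 (orderOf_dvd_of_pow_eq_one hcr) with h4 | h4
      · exact absurd (orderOf_eq_one_iff.1 h4) hc1
      · exact h4
    rw [← h4]
    exact IsPrimitiveRoot.orderOf c
  have : NeZero r := ⟨h.1.ne_zero⟩
  obtain ⟨j, -, hj⟩ := hprim.eq_pow_of_pow_eq_one hμr
  have h5 : μ * μ = 1 := by
    nth_rewrite 1 [← hτμ]
    rw [← hj, map_pow, ← mul_pow, hτc, one_pow]
  have h6 : μ = 1 := by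
    obtain ⟨s, hs⟩ := hr
    rw [hs, pow_succ, pow_mul, pow_two, h5, one_pow, one_mul] at hμr
    exact hμr
  rw [hμ, h6, one_smul]

end

/-- **The inverting element of determinant one is an isometry.** -/
theorem c6_inv_isom {K : Type u} [Field K] [Finite K] {V : Type v} [AddCommGroup V] [Module K V] [Module.Finite K V]
    {b : Cl K V} {S A : Subgroup (Equiv.Perm (R K V))} {r a : ℕ} (hS : S ≤ RB b) (h : C6Data S A r a) (hr2 : r ≠ 2) :
    ∃ g : (R K V)ˣ, g * g = 1 ∧ LinearMap.det (g : R K V) = 1 ∧ b.Isom (g : R K V) ∧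
      ∀ f ∈ A, cj K V g * f * (cj K V g)⁻¹ = f⁻¹ := by
  have : Nontrivial V := nontrivial_of h
  have hr : Odd r := h.1.odd_of_ne_two hr2
  have hSA : S ≤ RA K V := hS.trans fun f hf => RP_le_RA hf.1
  obtain ⟨st, hst, -, hstA, hmul⟩ := exists_st b
  obtain ⟨g, e1, e2, e3⟩ := c6_core hSA h hr
  have hg : st g = g := e3 (fA st hstA : R K V →+ R K V) hmul (adj_unique b (hst 1) (fun v w => rfl)) fun u hu hur =>
    st_mul hS h hr hst hmul hu hur
  have hd : LinearMap.det g * LinearMap.det g = 1 := by rw [← map_mul, e1, map_one]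
  have hd' : LinearMap.det g = 1 ∨ LinearMap.det g = -1 := mul_self_eq_one_iff.1 hd
  have e1' : (LinearMap.det g • g) * (LinearMap.det g • g) = 1 := by
    rw [smul_mul_smul_comm, hd, one_smul, e1]
  let g' : (R K V)ˣ := ⟨LinearMap.det g • g, LinearMap.det g • g, e1', e1'⟩
  have hg' : g' * g' = 1 := Units.ext e1'
  have hadj : b.Adj (LinearMap.det g • g) (LinearMap.det g • g) := by
    have h1 := adj_smul (b := b) (LinearMap.det g) (hst g)
    rw [hg] at h1
    have h2 : b.τ (LinearMap.det g) = LinearMap.det g := by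
      rcases hd' with h2 | h2 <;> rw [h2] <;> simp only [_root_.map_one, _root_.RingEquiv.map_neg_one]
    rwa [h2] at h1
  refine ⟨g', hg', ?_, ?_, fun f hf => inverts hSA h hr hg' (fun u hu hu' => ?_) hf⟩
  · show LinearMap.det (LinearMap.det g • g) = 1
    rw [LinearMap.det_smul, h.2.2.1]
    obtain ⟨s, hs⟩ := hr.pow (n := a)
    rw [hs, pow_succ, pow_mul, pow_two, hd, one_pow, one_mul, hd]
  · intro v w
    show b.B ((LinearMap.det g • g) v) ((LinearMap.det g • g) w) = b.B v w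
    rw [hadj]
    have h1 : (LinearMap.det g • g) ((LinearMap.det g • g) w) = w := congrArg (fun X : R K V => X w) e1'
    rw [h1]
  · obtain ⟨c, hc0, hc⟩ := e2 u hu hu'
    refine ⟨c, hc0, ?_⟩
    show (u : R K V) * (LinearMap.det g • g) * u = c • (LinearMap.det g • g)
    rw [mul_smul_comm, smul_mul_assoc, hc, smul_comm]

end Cfsg.Agent.H204.IFO.CSix
end

-- part: H204/IFO/C6U
section
/-!
# S5719, `PSU_n(q)`, `|A|` odd: the case C6 (helper204)
-/

set_option autoImplicit false
set_option linter.unusedSectionVars false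

namespace Cfsg.Agent.H204.IFO

open Matrix Subgroup Cfsg.Agent.H198.FC Cfsg.Agent.LieClassical.HermBasic Cfsg.Agent.LieClassical.HermSiegel
  Cfsg.Agent.ClassicalGeometry.PSUAutCount Cfsg.Agent.Schreier.PSU Cfsg.Agent.H602.FC Cfsg.Agent.H209.Fxy
  Cfsg.Agent.H574.IFO Cfsg.Agent.ClassicalGeometry.GUBasic
open Cfsg.Agent.ClassicalGeometry.UnitAutBasic (pr pr_surjective)

theorem card_range_mul {G H : Type*} [Group G] [Group H] (f : G →* H) :
    Nat.card G = Nat.card f.range * Nat.card f.ker := by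
  rw [Subgroup.card_eq_card_quotient_mul_card_subgroup f.ker,
    Nat.card_congr (QuotientGroup.quotientKerEquivRange f).toEquiv]

section

variable {n : ℕ} {F : Type} [Field F] {q : ℕ}

/-- the conjugations by `GU` -/
noncomputable def kap (n : ℕ) (F : Type) [Field F] (q : ℕ) : Cfsg.GU n F q →* Equiv.Perm (R F (V n F)) :=
  (H198.FC.cj F (V n F)).comp ((U n F).comp (Subgroup.subtype _))

theorem map_scalar (φ : F ≃+* F) (c : F) : fm n F φ (c • (1 : R F (V n F))) = φ c • (1 : R F (V n F)) := by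
  have h1 : c • (1 : R F (V n F)) = E n F (c • (1 : Matrix (Fin n) (Fin n) F)) := by
    rw [map_smul, map_one]
  have h2 : φ c • (1 : R F (V n F)) = E n F (φ c • (1 : Matrix (Fin n) (Fin n) F)) := by
    rw [map_smul, map_one]
  rw [h1, h2, fm_E]
  congr 1
  ext i j
  by_cases hij : i = j
  · subst hij
    simp
  · simp [Matrix.one_apply_ne hij]

theorem cj_smul_one (x : (R F (V n F))ˣ) (c : F) : H198.FC.cj F (V n F) x (c • (1 : R F (V n F))) = c • 1 := by
  rw [cj_apply, mul_smul_comm, mul_one, smul_mul_assoc, x.mul_inv]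

variable [Fintype F] (hF : Fintype.card F = q ^ 2)

/-- the inner-diagonal elements of `SS Γ` come from `GU` -/
theorem exists_gu (hn : 3 ≤ n) {Γ : Subgroup (MulAut (Cfsg.PSU n F q))} {f : Equiv.Perm (R F (V n F))} (hf : f ∈ SS Γ)
    (hI : f ∈ IN F (V n F)) : ∃ g : Cfsg.GU n F q, kap n F q g = f := by
  have : Nonempty (Fin n) := ⟨⟨0, by omega⟩⟩
  obtain ⟨σ, -, g, φ, hgφ⟩ := mem_SS.1 hf
  obtain ⟨x, hx⟩ := hI
  have h1 : f = kap n F q g * fm n F φ := congrArg Prod.fst hgφ
  have hφ : φ = 1 := by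
    apply RingEquiv.ext
    intro c
    have h2 : f (c • 1) = c • 1 := by rw [← hx]; exact cj_smul_one x c
    have h3 : f (c • 1) = φ c • 1 := by
      rw [h1, Equiv.Perm.mul_apply, map_scalar]
      exact cj_smul_one _ _
    rw [h2] at h3
    have h4 := congrFun (LinearMap.congr_fun h3 (fun _ => (1 : F))) ⟨0, by omega⟩
    have h5 : c * 1 = φ c * 1 := h4
    rw [mul_one, mul_one] at h5
    exact h5.symm
  refine ⟨g, ?_⟩
  rw [h1, hφ, map_one, mul_one]

/-- the scalars -/
def sc (n : ℕ) (F : Type) [Field F] (q : ℕ) : rootsOfUnity (q + 1) F →* Cfsg.GU n F q where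
  toFun c := guDiag q (fun _ => ((c : Fˣ) : F)) (fun _ => by
    have := c.2
    rw [mem_rootsOfUnity] at this
    rw [← Units.val_pow_eq_pow_val, this, Units.val_one])
  map_one' := by
    apply gu_ext
    rw [coe_guDiag]
    exact Matrix.diagonal_one
  map_mul' c d := by
    apply gu_ext
    rw [coe_guDiag]
    exact (Matrix.diagonal_mul_diagonal _ _).symm

theorem sc_inj (hn : 3 ≤ n) : Function.Injective (sc n F q) := by
  intro c d hcd
  have h1 := congrArg (fun g : Cfsg.GU n F q => ((g : GL (Fin n) F) : Matrix (Fin n) (Fin n) F)) hcd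
  have h2 : (Matrix.diagonal fun _ : Fin n => ((c : Fˣ) : F)) = Matrix.diagonal fun _ : Fin n => ((d : Fˣ) : F) := h1
  have h3 := congrFun (Matrix.diagonal_injective h2) ⟨0, by omega⟩
  exact Subtype.ext (Units.ext h3)

theorem kap_sc (c : rootsOfUnity (q + 1) F) : kap n F q (sc n F q c) = 1 := by
  refine H886.FC.cj_scalar (c := ((c : Fˣ) : F)) ?_
  show E n F (Matrix.diagonal fun _ => ((c : Fˣ) : F)) = ((c : Fˣ) : F) • (1 : R F (V n F))
  rw [← Matrix.smul_one_eq_diagonal, map_smul, map_one]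

include hF in
/-- **a nontrivial element of `A0` comes from `SU`** -/
theorem exists_cs (hn : 3 ≤ n) {Γ : Subgroup (MulAut (Cfsg.PSU n F q))} {A0 : Subgroup (Equiv.Perm (R F (V n F)))}
    {r a : ℕ} (hC : C6Data (SS Γ) A0 r a) : ∃ s : Cfsg.SU n F q, cs s ∈ A0 ∧ cs s ≠ 1 := by
  have : NeZero n := ⟨by omega⟩
  have : Finite (GL (Fin n) F) := inferInstance
  have : Finite (Cfsg.GU n F q) := inferInstance
  have hA0 : A0 ≤ SS Γ := hC.2.2.2.1
  have hAI : A0 ≤ IN F (V n F) := hC.2.2.2.2.1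
  have hfr : Module.finrank F (V n F) = n := by rw [Module.finrank_fin_fun]
  have hnr : n = r ^ a := by rw [← hC.2.2.1, hfr]
  let P : Subgroup (Cfsg.GU n F q) := A0.comap (kap n F q)
  let κ : P →* Equiv.Perm (R F (V n F)) := (kap n F q).comp P.subtype
  let D : P →* rootsOfUnity (q + 1) F := (detHom n hF).comp P.subtype
  have hκ : κ.range = A0 := by
    apply le_antisymm
    · rintro _ ⟨x, rfl⟩
      exact x.2
    · intro f hf
      obtain ⟨g, hg⟩ := exists_gu hn (hA0 hf) (hAI hf)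
      exact ⟨⟨g, by rw [Subgroup.mem_comap, hg]; exact hf⟩, hg⟩
  have h1 := card_range_mul κ
  rw [hκ] at h1
  have h2 := card_range_mul D
  have h3 : Nat.card (rootsOfUnity (q + 1) F) ≤ Nat.card κ.ker := by
    refine Nat.card_le_card_of_injective (fun c => (⟨⟨sc n F q c, by
      rw [Subgroup.mem_comap, kap_sc]; exact A0.one_mem⟩, kap_sc c⟩ : κ.ker)) ?_
    intro c d hcd
    exact sc_inj hn (congrArg (fun x : κ.ker => ((x : P) : Cfsg.GU n F q)) hcd)
  have h4 : Nat.card D.range ≤ Nat.card (rootsOfUnity (q + 1) F) :=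
    Nat.card_le_card_of_injective _ Subtype.val_injective
  have hpos : 0 < Nat.card (rootsOfUnity (q + 1) F) := Nat.card_pos
  have h5 : Nat.card A0 ≤ Nat.card D.ker := by
    have h6 : Nat.card A0 * Nat.card (rootsOfUnity (q + 1) F) ≤ Nat.card (rootsOfUnity (q + 1) F) * Nat.card D.ker :=
      calc Nat.card A0 * Nat.card (rootsOfUnity (q + 1) F) ≤ Nat.card A0 * Nat.card κ.ker := Nat.mul_le_mul_left _ h3
        _ = Nat.card D.range * Nat.card D.ker := by rw [← h1, h2]
        _ ≤ _ := Nat.mul_le_mul_right _ h4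
    rw [mul_comm] at h6
    exact Nat.le_of_mul_le_mul_left h6 hpos
  -- not all elements of the kernel of `D` are scalars
  by_contra hcon
  push Not at hcon
  have h6 : ∀ x : D.ker, ∃ c : rootsOfUnity n F,
      ((U n F ((x : P) : Cfsg.GU n F q) : (R F (V n F))ˣ) : R F (V n F)) = ((c : Fˣ) : F) • (1 : R F (V n F)) := by
    intro x
    have hdet : (gm ((x : P) : Cfsg.GU n F q)).det = 1 := by
      have h7 : detHom n hF ((x : P) : Cfsg.GU n F q) = 1 := x.2
      have h8 := coe_detHom n hF ((x : P) : Cfsg.GU n F q)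
      rw [h7] at h8
      exact h8.symm
    have h10 : LinearMap.det ((U n F ((x : P) : Cfsg.GU n F q) : (R F (V n F))ˣ) : R F (V n F)) = 1 := by
      rw [coe_U]
      exact (LinearMap.det_toLin' _).trans hdet
    obtain ⟨s, hs⟩ := exists_su hF h10 (gu_isom hF ((x : P) : Cfsg.GU n F q))
    have hus : us s = U n F ((x : P) : Cfsg.GU n F q) := Units.ext hs
    have h9 : cs s = 1 := by
      apply hcon s
      show H198.FC.cj F (V n F) (us s) ∈ A0
      rw [hus]
      exact (x : P).2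
    obtain ⟨c, hc⟩ := H886.FC.cj_eq_one h9
    rw [hus] at hc
    have hc0 : c ≠ 0 := by
      rintro rfl
      rw [zero_smul] at hc
      exact (U n F ((x : P) : Cfsg.GU n F q)).ne_zero hc
    refine ⟨⟨Units.mk0 c hc0, ?_⟩, hc⟩
    rw [mem_rootsOfUnity]
    apply Units.ext
    rw [Units.val_pow_eq_pow_val, Units.val_mk0, Units.val_one]
    rw [hc, LinearMap.det_smul, map_one, mul_one, hfr] at h10
    exact h10
  choose c hc using h6
  have h7 : Nat.card D.ker ≤ Nat.card (rootsOfUnity n F) := by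
    refine Nat.card_le_card_of_injective c fun x y hxy => ?_
    have h8 : U n F ((x : P) : Cfsg.GU n F q) = U n F ((y : P) : Cfsg.GU n F q) := by
      apply Units.ext
      rw [hc, hc, hxy]
    have h9 : (((x : P) : Cfsg.GU n F q) : GL (Fin n) F) = (((y : P) : Cfsg.GU n F q) : GL (Fin n) F) := by
      apply Units.ext
      apply (E n F).injective
      rw [← coe_U, ← coe_U, h8]
    exact Subtype.ext (Subtype.ext (Subtype.ext h9))
  have h8 : Nat.card (rootsOfUnity n F) ≤ n := by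
    exact card_rootsOfUnity F n
  have h9 : r ^ (2 * a) ≤ r ^ a := by
    rw [← hC.2.2.2.2.2.1, ← hnr]
    exact h5.trans (h7.trans h8)
  have h10 : a < 2 * a := by have := hC.2.1; omega
  exact absurd h9 (not_le.2 (Nat.pow_lt_pow_right hC.1.one_lt h10))

include hF in
theorem pr_eq_one [IsSimpleGroup (Cfsg.PSU n F q)] {A : Subgroup (Cfsg.PSU n F q)}
    {Γ : Subgroup (MulAut (Cfsg.PSU n F q))} (h : IF A Γ) {s : Cfsg.SU n F q} (hs : cs s = 1) : pr n F q s = 1 := by
  have h1 := pair_mem s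
  rw [hs] at h1
  have h2 := eq_of_fst h1 (one_mem (HU n F q))
  apply center_bot h
  intro y
  have h3 : MulAut.conj (pr n F q s) y = y := by rw [h2]; rfl
  rw [MulAut.conj_apply, mul_inv_eq_iff_eq_mul] at h3
  exact h3

include hF in
/-- **The case C6.** -/
theorem case_C6 [IsSimpleGroup (Cfsg.PSU n F q)] (hn : 3 ≤ n) (h32 : ¬ (n = 3 ∧ q = 2)) {A : Subgroup (Cfsg.PSU n F q)}
    {Γ : Subgroup (MulAut (Cfsg.PSU n F q))} (h : IF A Γ) (hodd : Odd (Nat.card A))
    {A0 : Subgroup (Equiv.Perm (R F (V n F)))} {r a : ℕ} (hC : C6Data (SS Γ) A0 r a) : False := by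
  obtain ⟨s, hs, hs1⟩ := exists_cs hF hn hC
  have hA0 : A0 ≤ SS Γ := hC.2.2.2.1
  have hps : pr n F q s ≠ 1 := fun h1 => hs1 (cs_eq_one hF hn h1)
  have hpow : ∀ s : Cfsg.SU n F q, cs s ∈ A0 → pr n F q s ^ r = 1 := by
    intro s hs
    rw [← map_pow]
    apply pr_eq_one hF h
    rw [cs_pow]
    exact hC.2.2.2.2.2.2.1 _ hs
  by_cases hr2 : r = 2
  · -- an involution of `A`
    subst hr2
    have h1 := hpow s hs
    have h2 : orderOf (pr n F q s) = 2 := by
      rcases (Nat.dvd_prime Nat.prime_two).1 (orderOf_dvd_of_pow_eq_one h1) with h3 | h3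
      · exact absurd (orderOf_eq_one_iff.1 h3) hps
      · exact h3
    exact odd_of_mem hodd ((cs_mem_SS h).1 (hA0 hs)) (by rw [h2]; exact even_two)
  have hSB : SS Γ ≤ RB (hb n hF) := SS_le hF
  obtain ⟨g, hgg, hgd, hgi, hginv⟩ := CSix.c6_inv_isom hSB hC hr2
  obtain ⟨t, ht⟩ := exists_su hF hgd hgi
  have hut : us t = g := Units.ext ht
  -- the group of the elements over `A0`
  let K : Subgroup (Cfsg.PSU n F q) := (A0.comap ((H198.FC.cj F (V n F)).comp us)).map (pr n F q)
  have hK : K ≤ A := by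
    rintro _ ⟨s, hs, rfl⟩
    exact (cs_mem_SS h).1 (hA0 hs)
  have hKne : K ≠ ⊥ := by
    intro h1
    have h2 : pr n F q s ∈ K := ⟨s, hs, rfl⟩
    rw [h1, mem_bot] at h2
    exact hps h2
  have hKinv : ∀ σ ∈ Γ, ∀ k ∈ K, σ k ∈ K := by
    rintro σ hσ _ ⟨s, hs, rfl⟩
    obtain ⟨p, hp, hp2⟩ := exists_pairU hF hn h32 σ
    obtain ⟨t, ht⟩ := pr_surjective (σ (pr n F q s))
    have h1 : ((p.1, σ) : GGU n F q) ∈ HU n F q := by rw [← hp2]; exact hp
    have h2 := conj_cs hF hn h1 ht
    have h3 : p.1 ∈ SS Γ := mem_SS.2 ⟨σ, hσ, h1⟩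
    refine ⟨t, ?_, ht⟩
    show cs t ∈ A0
    rw [← h2]
    exact hC.2.2.2.2.2.2.2.2.2.1 _ h3 _ hs
  have hinv : ∀ s : Cfsg.SU n F q, cs s ∈ A0 → pr n F q t * pr n F q s * (pr n F q t)⁻¹ = (pr n F q s)⁻¹ := by
    intro s hs
    have h1 : cs (t * s * t⁻¹ * s) = 1 := by
      rw [cs_mul, cs_mul, cs_mul, cs_inv]
      have h2 := hginv _ hs
      have h3 : cs t = H198.FC.cj F (V n F) g := by
        show H198.FC.cj F (V n F) (us t) = _
        rw [hut]
      rw [h3, h2, inv_mul_cancel]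
    have h2 := pr_eq_one hF h h1
    rw [map_mul, map_mul, map_mul, map_inv] at h2
    exact (eq_inv_of_mul_eq_one_left h2 :)
  have hnorm : ∀ k ∈ K, pr n F q t * k * (pr n F q t)⁻¹ ∈ K := by
    rintro _ ⟨s, hs, rfl⟩
    rw [hinv s hs, ← map_inv]
    refine ⟨s⁻¹, ?_, rfl⟩
    show cs s⁻¹ ∈ A0
    rw [cs_inv]
    exact A0.inv_mem hs
  have h1 := H447.IFO.odd_orderOf h hodd hK hKne hKinv hnorm
  have h2 := H447.IFO.even_orderOf_of_inv hps (hC.1.odd_of_ne_two hr2) (hpow s hs) (hinv s hs)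
  exact (Nat.not_even_iff_odd.2 h1) h2

end

end Cfsg.Agent.H204.IFO
end

-- part: H62/IFO/SingLowU
section
/-!
# S5719, `PSU_n(q)`, `|A|` odd: the lower bound of `|A|` in the Singer case (helper62)

`E` a field of degree `n` (an odd prime) over `F` in `End V`, stable under the adjoint and normalised by `Γ`.  Then `A`
contains the image of the group of norm one elements of `E` of determinant `1`, so
`q ^ n + 1 ≤ (q + 1) * gcd (n, q + 1) * |A|`.
-/

set_option autoImplicit false
set_option linter.unusedSectionVars false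
set_option linter.style.haveILetI false

universe u v

namespace Cfsg.Agent.H62.IFO

open Matrix Subgroup Cfsg.Agent.H198.FC Cfsg.Agent.LieClassical.HermBasic Cfsg.Agent.LieClassical.HermSiegel
  Cfsg.Agent.ClassicalGeometry.PSUAutCount Cfsg.Agent.Schreier.PSU Cfsg.Agent.H602.FC Cfsg.Agent.H209.Fxy
open Cfsg.Agent.ClassicalGeometry.UnitAutBasic (pr pr_surjective exists_ne_zero_orth)
open Cfsg.Agent.H574.IFO

section fld

variable {E : Type*} [Field E] [Finite E]

/-- the involution of a finite field of order `m ^ 2` is `x ↦ x ^ m` -/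
theorem invol_eq_pow {J : E ≃+* E} (hJ : ∀ a, J (J a) = a) (hJ1 : ∃ a, J a ≠ a) {m : ℕ} (hm : Nat.card E = m ^ 2) (x : E) :
    J x = x ^ m := by
  classical
  letI := Fintype.ofFinite E
  obtain ⟨p, hp⟩ := CharP.exists E
  haveI := hp
  haveI hpp : Fact p.Prime := ⟨(CharP.char_is_prime_or_zero E p).resolve_right (CharP.char_ne_zero_of_finite E p)⟩
  obtain ⟨k, hk, hcard⟩ := FiniteField.card E p
  have h1 : m ∣ p ^ (k : ℕ) := by
    rw [← hcard, ← Nat.card_eq_fintype_card, hm]
    exact Dvd.intro_left (m ^ 1) (by ring)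
  obtain ⟨j, -, hj⟩ := (Nat.dvd_prime_pow hpp.out).1 h1
  haveI : ExpChar E p := ExpChar.prime hpp.out
  have hap : ∀ x : E, iterateFrobeniusEquiv E p j x = x ^ m := by
    intro x
    rw [iterateFrobeniusEquiv_def, hj]
  rw [← hap]
  have hmm : ∀ x : E, (x ^ m) ^ m = x := by
    intro x
    rw [← pow_mul, ← sq, ← hm, Nat.card_eq_fintype_card, FiniteField.pow_card]
  have h2 : J = iterateFrobeniusEquiv E p j := by
    refine H567.FC.invol_unique hJ ?_ hJ1 ?_
    · intro a
      rw [hap, hap, hmm]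
    · by_contra hcon
      push Not at hcon
      obtain ⟨g, hg⟩ := IsCyclic.exists_generator (α := Eˣ)
      have hm1 : 1 < Nat.card E := Finite.one_lt_card
      have hm2 : 2 ≤ m := by
        by_contra h3
        have h4 : m = 0 ∨ m = 1 := by omega
        rcases h4 with rfl | rfl
        · rw [hm] at hm1; omega
        · rw [hm] at hm1; omega
      have ho : orderOf g = m ^ 2 - 1 := by
        rw [orderOf_eq_card_of_forall_mem_zpowers hg, Nat.card_units, hm]
      have h3 : g ^ (m - 1) = 1 := by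
        have h4 := hcon (g : E)
        rw [hap] at h4
        apply Units.ext
        rw [Units.val_pow_eq_pow_val, Units.val_one]
        apply mul_right_cancel₀ g.ne_zero
        rw [← pow_succ, Nat.sub_add_cancel (by omega), h4, one_mul]
      have h4 := Nat.le_of_dvd (by omega) (orderOf_dvd_of_pow_eq_one h3)
      rw [ho] at h4
      have h5 : m * 2 ≤ m ^ 2 := by rw [sq]; exact Nat.mul_le_mul_left m hm2
      omega
  rw [h2]

/-- the subgroup of order `m + 1` -/
theorem exists_norm_group {J : E ≃+* E} (hJ : ∀ a, J (J a) = a) (hJ1 : ∃ a, J a ≠ a) {m : ℕ} (hm : Nat.card E = m ^ 2) :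
    ∃ T : Subgroup Eˣ, Nat.card T = m + 1 ∧ ∀ x ∈ T, (x : E) * J x = 1 := by
  obtain ⟨g, hg⟩ := IsCyclic.exists_generator (α := Eˣ)
  have hm1 : 1 < Nat.card E := Finite.one_lt_card
  have hm2 : 2 ≤ m := by
    by_contra h3
    have h4 : m = 0 ∨ m = 1 := by omega
    rcases h4 with rfl | rfl
    · rw [hm] at hm1; omega
    · rw [hm] at hm1; omega
  have ho : orderOf g = m ^ 2 - 1 := by
    rw [orderOf_eq_card_of_forall_mem_zpowers hg, Nat.card_units, hm]
  have hqq : m ^ 2 - 1 = (m - 1) * (m + 1) := by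
    obtain ⟨k, rfl⟩ := Nat.exists_eq_add_of_le hm2
    have e : 2 + k - 1 = k + 1 := by omega
    rw [e]
    have : (2 + k) ^ 2 = (k + 1) * (2 + k + 1) + 1 := by ring
    omega
  have ho2 : orderOf (g ^ (m - 1)) = m + 1 := by
    rw [orderOf_pow_of_dvd (by omega) (by rw [ho, hqq]; exact Dvd.intro _ rfl), ho, hqq, Nat.mul_div_cancel_left _ (by omega)]
  refine ⟨Subgroup.zpowers (g ^ (m - 1)), ?_, ?_⟩
  · rw [Nat.card_zpowers, ho2]
  · intro x hx
    rw [invol_eq_pow hJ hJ1 hm, ← pow_succ']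
    have h1 : x ^ (m + 1) = 1 := by
      obtain ⟨k, rfl⟩ := Subgroup.mem_zpowers_iff.1 hx
      rw [← zpow_natCast, ← _root_.zpow_mul, mul_comm k, _root_.zpow_mul, zpow_natCast, ← ho2, pow_orderOf_eq_one, _root_.one_zpow]
    rw [← Units.val_pow_eq_pow_val, h1, Units.val_one]

end fld

section herm

variable {K : Type u} [Field K] {V : Type v} [AddCommGroup V] [Module K V] {b : Cl K V}

/-- the group of the elements of norm one of `E` -/
theorem exists_T [Finite K] [Module.Finite K V] [Nontrivial V] (hU : b.IsU) (E : Subalgebra K (R K V)) (hE : IsField E)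
    (hadj : ∀ X ∈ E, ∃ Y ∈ E, b.Adj X Y) {m : ℕ} (hm : Nat.card E = m ^ 2) :
    ∃ T : Subgroup (R K V)ˣ, Nat.card T = m + 1 ∧ ∀ x ∈ T, (x : R K V) ∈ E ∧ b.Isom x := by
  letI : Field E := hE.toField
  haveI : Finite (R K V) := Module.finite_of_finite K
  haveI : Finite E := inferInstance
  obtain ⟨H⟩ := H567.FC.exists_Hm (E := E) hU (by
    intro a
    obtain ⟨Y, hY, hY'⟩ := hadj a a.2
    exact ⟨⟨Y, hY⟩, hY'⟩)
  have hJ1 : ∃ a, H.J a ≠ a := by
    obtain ⟨a₀, ha₀⟩ := hU.1
    refine ⟨algebraMap K E a₀, fun h => ha₀ ?_⟩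
    rw [H.J_alg] at h
    exact FaithfulSMul.algebraMap_injective K E h
  obtain ⟨T, hT, hTn⟩ := exists_norm_group H.J_invol hJ1 hm
  have hsm : ∀ (z : E) (v : V), z • v = (z : R K V) v := fun z v => rfl
  let φ : Eˣ →* (R K V)ˣ := (Units.map (E.val : E →* R K V) :)
  have hφ : ∀ x : Eˣ, ((φ x : (R K V)ˣ) : R K V) = (x : E) := fun x => rfl
  have hinj : Function.Injective φ := by
    intro x y hxy
    apply Units.ext
    apply Subtype.ext
    rw [← hφ, ← hφ, hxy]
  refine ⟨T.map φ, ?_, ?_⟩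
  · rw [Subgroup.card_map_of_injective hinj, hT]
  · rintro _ ⟨x, hx, rfl⟩
    rw [hφ]
    refine ⟨SetLike.coe_mem _, ?_⟩
    intro v w
    simp only [← hsm, ← hsm, H.tr, H.tr, H.smul_left, H.smul_right, ← mul_assoc, hTn x hx, one_mul]

end herm

variable {n : ℕ} {F : Type} [Field F] {q : ℕ} [Fintype F] (hF : Fintype.card F = q ^ 2)
  {A : Subgroup (Cfsg.PSU n F q)} {Γ : Subgroup (MulAut (Cfsg.PSU n F q))}

include hF in
/-- the elements over `E` are over `A` -/
theorem mem_of_mem_E [IsSimpleGroup (Cfsg.PSU n F q)] (hn : 3 ≤ n) (h32 : ¬ (n = 3 ∧ q = 2)) (h : IF A Γ)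
    (E : Subalgebra F (R F (V n F))) (hE : IsField E) (hd : Module.finrank F E ≠ 1)
    (hSE : ∀ f ∈ SS Γ, ∀ X ∈ E, f X ∈ E) {s : Cfsg.SU n F q} (hs : ((us s : (R F (V n F))ˣ) : R F (V n F)) ∈ E) :
    pr n F q s ∈ A := by
  rcases max_stab hF hn h32 h (le_SetStab (D := (E : Set (R F (V n F)))) hSE) with h1 | h1
  · exfalso
    letI : Field E := (hE.toField : _)
    haveI : Finite (R F (V n F)) := Module.finite_of_finite F
    haveI : Finite E := inferInstance
    -- the action on `E`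
    have hst : ∀ (t : Cfsg.SU n F q) (X : E), cs t X ∈ E := fun t X => (mem_SetStab.1 (h1 t) X).2 X.2
    have hst' : ∀ (t : Cfsg.SU n F q) (X : E), (cs t)⁻¹ X ∈ E := fun t X => (mem_SetStab.1 (inv_mem (h1 t)) X).2 X.2
    let ac : Cfsg.SU n F q → (E ≃+* E) := fun t =>
      { toFun := fun X => ⟨cs t X, hst t X⟩
        invFun := fun X => ⟨(cs t)⁻¹ X, hst' t X⟩
        left_inv := fun X => Subtype.ext (pia _ _)
        right_inv := fun X => Subtype.ext (pai _ _)
        map_add' := fun X Y => Subtype.ext ((cj_mem_RP (us t)).1 X Y)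
        map_mul' := fun X Y => Subtype.ext ((cj_mem_RP (us t)).2 X Y) }
    have hac : ∀ (t : Cfsg.SU n F q) (X : E), ((ac t X : E) : R F (V n F)) = cs t X := fun t X => rfl
    have hcomm : ∀ (s t : Cfsg.SU n F q) (X : E), cs s (cs t X) = cs t (cs s X) := by
      intro s t X
      rw [← hac, ← hac, ← hac, ← hac]
      exact congrArg Subtype.val (H567.FC.aut_comm (ac s) (ac t) X)
    let N : Subgroup (Cfsg.SU n F q) :=
      { carrier := {t | ∀ x ∈ (E : Set (R F (V n F))), cs t x = x}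
        one_mem' := fun x _ => by rw [cs_one]; rfl
        mul_mem' := by
          intro s t hs ht x hx
          rw [cs_mul, Equiv.Perm.mul_apply, ht x hx, hs x hx]
        inv_mem' := by
          intro s hs x hx
          rw [cs_inv, Equiv.Perm.inv_eq_iff_eq]
          exact (hs x hx).symm }
    have hN : N.Normal := by
      constructor
      intro t ht g x hx
      rw [cs_mul, cs_mul, Equiv.Perm.mul_apply, Equiv.Perm.mul_apply, cs_inv]
      have h2 : (cs g)⁻¹ x ∈ (E : Set (R F (V n F))) := (mem_SetStab.1 (inv_mem (h1 g)) x).2 hx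
      rw [ht _ h2, pai]
    have hN2 : (N.map (pr n F q)).Normal := hN.map _ pr_surjective
    rcases hN2.eq_bot_or_eq_top with h2 | h2
    · obtain ⟨a, b, hab⟩ := not_comm h
      apply hab
      obtain ⟨s, rfl⟩ := pr_surjective a
      obtain ⟨t, rfl⟩ := pr_surjective b
      have h3 : (t * s)⁻¹ * (s * t) ∈ N := by
        intro x hx
        rw [cs_mul, cs_inv, Equiv.Perm.mul_apply, Equiv.Perm.inv_eq_iff_eq, cs_mul, cs_mul, Equiv.Perm.mul_apply,
          Equiv.Perm.mul_apply]
        exact (hcomm t s ⟨x, hx⟩).symm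
      have h4 : pr n F q ((t * s)⁻¹ * (s * t)) ∈ N.map (pr n F q) := ⟨_, h3, rfl⟩
      rw [h2, Subgroup.mem_bot, map_mul, map_inv, inv_mul_eq_one] at h4
      rw [← map_mul, ← map_mul]
      exact h4.symm
    · apply hd
      have h3 : E = ⊥ := by
        rw [eq_bot_iff]
        intro X hX
        have h5 : ∀ Y, X * Y = Y * X := by
          apply cent hF hn
          intro t
          have h3 : pr n F q t ∈ N.map (pr n F q) := by rw [h2]; exact mem_top _
          obtain ⟨u, hu, hut⟩ := h3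
          have h4 : pr n F q (u⁻¹ * t) = 1 := by rw [map_mul, map_inv, hut, inv_mul_cancel]
          have h5 := cs_eq_one hF hn h4
          have h6 : cs t = cs u := by
            have h7 : cs u * cs (u⁻¹ * t) = cs t := by
              rw [← cs_mul, mul_inv_cancel_left]
            rw [← h7, h5, mul_one]
          rw [h6]
          exact hu X hX
        obtain ⟨c, hc⟩ := scalar_of_comm h5
        rw [hc, ← Algebra.algebraMap_eq_smul_one]
        exact Subalgebra.algebraMap_mem _ _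
      have hfr : Module.finrank F (V n F) = n := by simp only [V, _root_.Module.finrank_fintype_fun_eq_card, _root_.Fintype.card_fin]
      have hnt : Nontrivial (V n F) := Module.nontrivial_of_finrank_pos (R := F) (by rw [hfr]; omega)
      have hnt2 : Nontrivial (R F (V n F)) := by
        refine ⟨⟨1, 0, fun h => ?_⟩⟩
        obtain ⟨v, hv⟩ := exists_ne (0 : V n F)
        exact hv (LinearMap.congr_fun h v)
      rw [h3, Subalgebra.finrank_bot]
  · apply h1
    have h2 : ∀ X ∈ (E : Set (R F (V n F))), cs s X = X := by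
      intro X hX
      rw [cs_fix_iff]
      exact congrArg Subtype.val (hE.mul_comm ⟨_, hs⟩ ⟨X, hX⟩)
    rw [mem_SetStab]
    intro X
    constructor
    · intro h3
      have h4 := (cs s).injective (h2 _ h3)
      rwa [h4] at h3
    · intro h3
      rw [h2 X h3]
      exact h3

/-- bounded image -/
theorem card_le_mul_ker {G : Type*} [Group G] [Finite G] {K : Type*} [Field K] (f : G →* Kˣ) {k : ℕ} (hk : 0 < k)
    (hf : ∀ x, f x ^ k = 1) : Nat.card G ≤ k * Nat.card f.ker := by
  haveI : NeZero k := ⟨hk.ne'⟩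
  rw [← Subgroup.card_mul_index f.ker, Subgroup.index_ker, mul_comm]
  refine Nat.mul_le_mul_right _ ?_
  have h1 : f.range ≤ rootsOfUnity k K := by
    rintro _ ⟨x, rfl⟩
    rw [mem_rootsOfUnity]
    exact hf x
  have h2 := Nat.card_le_card_of_injective _ (Subgroup.inclusion_injective h1)
  exact h2.trans (card_rootsOfUnity K k)

include hF in
theorem pow_qn {x : Fˣ} (hn : Odd n) : x ^ (q ^ n) = x ^ q := by
  obtain ⟨k, rfl⟩ := hn
  apply Units.ext
  rw [Units.val_pow_eq_pow_val, Units.val_pow_eq_pow_val]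
  have h1 : q ^ (2 * k + 1) = (q ^ 2) ^ k * q := by rw [pow_succ, pow_mul]
  rw [h1, pow_mul, ← hF, FiniteField.pow_card_pow]

include hF in
/-- **The lower bound in the Singer case.** -/
theorem sing_low [IsSimpleGroup (Cfsg.PSU n F q)] (hn : 3 ≤ n) (h32 : ¬ (n = 3 ∧ q = 2)) (h : IF A Γ)
    (hodd : Odd (Nat.card A)) (E : Subalgebra F (R F (V n F))) (hE : IsField E) (hd : Module.finrank F E = n)
    (hp : n.Prime) (hadj : ∀ X ∈ E, ∃ Y ∈ E, (hb n hF).Adj X Y) (hSE : ∀ f ∈ SS Γ, ∀ X ∈ E, f X ∈ E) :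
    q ^ n + 1 ≤ (q + 1) * n.gcd (q + 1) * Nat.card A := by
  have hU := hb_isU (n := n) hF
  have hfr : Module.finrank F (V n F) = n := by simp only [V, _root_.Module.finrank_fintype_fun_eq_card, _root_.Fintype.card_fin]
  haveI hnt : Nontrivial (V n F) := Module.nontrivial_of_finrank_pos (R := F) (by rw [hfr]; omega)
  haveI : Finite (Cfsg.SU n F q) := inferInstance
  haveI : Finite (R F (V n F)) := Module.finite_of_finite F
  have hno : Odd n := hp.odd_of_ne_two (by omega)
  have hcard : Nat.card E = (q ^ n) ^ 2 := by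
    rw [Module.natCard_eq_pow_finrank (K := F), hd, Nat.card_eq_fintype_card, hF, ← pow_mul, ← pow_mul, mul_comm]
  obtain ⟨T, hT, hTE⟩ := exists_T hU E hE hadj hcard
  haveI : Finite T := Nat.finite_of_card_ne_zero (by rw [hT]; omega)
  -- determinants
  let dt : (R F (V n F))ˣ →* Fˣ := Units.map (LinearMap.det (M := V n F) (A := F))
  have hdt : ∀ x : (R F (V n F))ˣ, ((dt x : Fˣ) : F) = LinearMap.det (x : R F (V n F)) := fun x => rfl
  let f : T →* Fˣ := dt.comp T.subtype
  have hf : ∀ x, f x ^ (q + 1) = 1 := by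
    intro x
    have h1 : x ^ (q ^ n + 1) = 1 := by rw [← hT]; exact pow_card_eq_one'
    rw [pow_succ, ← pow_qn hF hno, ← pow_succ, ← map_pow, h1, map_one]
  have h1 := card_le_mul_ker f (Nat.succ_pos q) hf
  rw [hT] at h1
  refine h1.trans ?_
  rw [mul_assoc]
  refine Nat.mul_le_mul_left _ ?_
  -- the elements of `SU`
  have hex : ∀ x : f.ker, ∃ s : Cfsg.SU n F q, ((us s : (R F (V n F))ˣ) : R F (V n F)) = ((x : T) : (R F (V n F))ˣ) := by
    intro x
    refine exists_su hF ?_ (hTE _ x.1.2).2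
    rw [← hdt]
    have h2 : f x = 1 := x.2
    have h3 : dt ((x : T) : (R F (V n F))ˣ) = 1 := h2
    rw [h3, Units.val_one]
  choose g hg using hex
  have hgA : ∀ x, pr n F q (g x) ∈ A := by
    intro x
    refine mem_of_mem_E hF hn h32 h E hE (by rw [hd]; omega) hSE ?_
    rw [hg]
    exact (hTE _ x.1.2).1
  have hginj : Function.Injective g := by
    intro x y hxy
    apply Subtype.ext
    apply Subtype.ext
    apply Units.ext
    rw [← hg, ← hg, hxy]
  -- counting
  let S : Subgroup (Cfsg.SU n F q) := A.comap (pr n F q)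
  have h2 : Nat.card f.ker ≤ Nat.card S :=
    Nat.card_le_card_of_injective (fun x => (⟨g x, hgA x⟩ : S)) fun x y hxy => hginj (congrArg Subtype.val hxy)
  refine h2.trans ?_
  let k : S →* Cfsg.PSU n F q := (pr n F q).comp S.subtype
  have h3 : Nat.card k.ker ≤ n.gcd (q + 1) := by
    rw [← S0279.result hF n hn]
    refine Nat.card_le_card_of_injective (fun x => (⟨((x : S) : Cfsg.SU n F q), ?_⟩ : center (Cfsg.SU n F q))) ?_
    · have h4 : pr n F q ((x : S) : Cfsg.SU n F q) = 1 := x.2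
      exact (QuotientGroup.eq_one_iff _).1 h4
    · intro x y hxy
      have h6 := congrArg (fun z : center (Cfsg.SU n F q) => (z : Cfsg.SU n F q)) hxy
      exact Subtype.ext (Subtype.ext h6)
  have h4 : Nat.card k.range ≤ Nat.card A := by
    have h5 : k.range ≤ A := by
      rintro _ ⟨x, rfl⟩
      exact x.2
    exact Nat.card_le_card_of_injective _ (Subgroup.inclusion_injective h5)
  rw [← Subgroup.card_mul_index k.ker, Subgroup.index_ker]
  exact Nat.mul_le_mul h3 h4

end Cfsg.Agent.H62.IFO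
end

-- part: H14/IFO/GraphU
section
/-!
# S5719, `PSU_n(q)`, `|A|` odd, `n` odd (helper14 for helper574): the involutions of `Γ` are graph automorphisms
-/

set_option autoImplicit false
set_option linter.unusedSectionVars false

namespace Cfsg.Agent.H14.IFO

open Matrix Subgroup Cfsg.Agent.H198.FC Cfsg.Agent.LieClassical.HermBasic Cfsg.Agent.LieClassical.HermSiegel
  Cfsg.Agent.ClassicalGeometry.PSUAutCount Cfsg.Agent.Schreier.PSU Cfsg.Agent.H602.FC Cfsg.Agent.H209.Fxy
  Cfsg.Agent.H574.IFO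
open Cfsg.Agent.ClassicalGeometry.UnitAutBasic (pr pr_surjective)

section

variable {n : ℕ} {F : Type} [Field F] [Fintype F] {q : ℕ} (hF : Fintype.card F = q ^ 2)

include hF in
/-- a linear involution is inner (`n` odd) -/
theorem inner_of_lin (hn : 3 ≤ n) (hodd' : Odd n) {g : Cfsg.GU n F q} (h2 : (toAut g 1 : MulAut (Cfsg.PSU n F q)) ^ 2 = 1) :
    ∃ s : Cfsg.SU n F q, (toAut g 1 : MulAut (Cfsg.PSU n F q)) = MulAut.conj (pr n F q s) := by
  have h3 : (toAut (1 : Cfsg.GU n F q) 1 : MulAut (Cfsg.PSU n F q)) = toAut (g * g) 1 := by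
    have e1 : (toAut (g * g) 1 : MulAut (Cfsg.PSU n F q)) = toAut g 1 ^ 2 := by
      rw [pow_two]
      exact map_mul (f₁ (F := F) (n := n) (q := q)) g g
    rw [e1, h2]
    exact map_one (f₁ (F := F) (n := n) (q := q))
  obtain ⟨-, c, hc, hcg⟩ := eq_of_toAut_eq hF hn h3
  rw [gm_mul, gm_one] at hcg
  obtain ⟨k, hk⟩ := hodd'
  set d := (gm g).det with hd
  have hdd : d * d = c ^ n := by
    have h4 := congrArg Matrix.det hcg
    rw [Matrix.det_mul, Matrix.det_smul, Matrix.det_one, mul_one, Fintype.card_fin] at h4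
    exact h4
  have hdq : d ^ (q + 1) = 1 := ClassicalGeometry.GUBasic.det_pow hF ((ClassicalGeometry.GUBasic.mem_GU_iff _).1 g.2)
  have hcq : c ^ (q + 1) = 1 := by rw [pow_succ', hc]
  let z : F := d * (c ^ q) ^ (k + 1)
  have hzd : z ^ n * d = 1 := by
    change (d * (c ^ q) ^ (k + 1)) ^ n * d = 1
    have e1 : (d * (c ^ q) ^ (k + 1)) ^ n * d = (d * d) ^ (k + 1) * ((c ^ q) ^ n) ^ (k + 1) := by
      rw [mul_pow, hk]
      ring
    rw [e1, hdd, ← mul_pow, ← mul_pow, hc, one_pow, one_pow]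
  have hzq : z * z ^ q = 1 := by
    rw [← pow_succ']
    change (d * (c ^ q) ^ (k + 1)) ^ (q + 1) = 1
    have e1 : (d * (c ^ q) ^ (k + 1)) ^ (q + 1) = d ^ (q + 1) * ((c ^ (q + 1)) ^ q) ^ (k + 1) := by ring
    rw [e1, hdq, hcq, one_pow, one_pow, mul_one]
  let g' : Cfsg.GU n F q := sc n ⟨z, hzq⟩ * g
  have hg' : gm g' = z • gm g := gm_sc_mul ⟨z, hzq⟩ g
  have hdet : LinearMap.det ((U n F (g' : GL (Fin n) F) : (R F (V n F))ˣ) : R F (V n F)) = 1 := by
    rw [coe_U]
    change LinearMap.det (Matrix.toLin' (gm g')) = 1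
    rw [LinearMap.det_toLin', hg', Matrix.det_smul, Fintype.card_fin]
    exact hzd
  obtain ⟨s, hs⟩ := exists_su hF hdet (gu_isom hF g')
  refine ⟨s, ?_⟩
  have h5 : gm g' = mat s := by
    apply (E n F).injective
    rw [← coe_us, hs]
    rfl
  rw [← f₁_eq_conj g' s h5]
  exact (toAut_sc_mul ⟨z, hzq⟩ g 1).symm

include hF in
/-- **the involutions of `Γ` are graph automorphisms** -/
theorem graph_of [IsSimpleGroup (Cfsg.PSU n F q)] (hn : 3 ≤ n) (h32 : ¬ (n = 3 ∧ q = 2))
    {A : Subgroup (Cfsg.PSU n F q)} {Γ : Subgroup (MulAut (Cfsg.PSU n F q))} (h : IF A Γ) (hodd : Odd (Nat.card A))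
    (hodd' : Odd n) {σ : MulAut (Cfsg.PSU n F q)} (hσ : σ ∈ Γ) (ho : orderOf σ = 2) :
    IsGraphAutClassPSU σ ∧ ∃ f, ((f, σ) : GGU n F q) ∈ HU n F q ∧
      ∃ c : F, f (c • (1 : R F (V n F))) ≠ c • (1 : R F (V n F)) := by
  obtain ⟨g, ρ, rfl⟩ := ClassicalGeometry.PSUAutMain.exists_toAut hF hn h32 σ
  have h2 : (toAut g ρ : MulAut (Cfsg.PSU n F q)) ^ 2 = 1 := by rw [← ho, pow_orderOf_eq_one]
  obtain ⟨hρ2, -⟩ := Cfsg.Agent.CpAutU.Desc.exists_scalar hF hn h2
  have hρ : ρ ≠ 1 := by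
    rintro rfl
    obtain ⟨s, hs⟩ := inner_of_lin hF hn hodd' h2
    rw [hs] at hσ h2 ho
    have h3 := (h.conj _).1 hσ
    have h4 : pr n F q s ^ 2 = 1 := by
      apply center_bot h
      intro y
      rw [← map_pow] at h2
      have h5 := DFunLike.congr_fun h2 y
      rw [MulAut.conj_apply, MulAut.one_apply, mul_inv_eq_iff_eq_mul] at h5
      exact h5
    have h5 : pr n F q s ≠ 1 := by
      intro h6
      rw [h6, map_one, orderOf_one] at ho
      omega
    have h6 : orderOf (pr n F q s) = 2 := orderOf_eq_prime h4 h5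
    exact odd_of_mem hodd h3 (by rw [h6]; exact even_two)
  have hρo : orderOf ρ = 2 := orderOf_eq_prime hρ2 hρ
  refine ⟨⟨hn, f₁ g, f₂ ρ, ρ, by rw [hρo]; exact even_two, (Cfsg.Agent.H202.Psu.inndiag_iff _).2 ⟨g, rfl⟩,
    (Cfsg.Agent.H202.Psu.isFieldAut_iff _ _).2 rfl, toAut_eq g ρ⟩, (AU n F q g * BU n F q ρ).1, ?_, ?_⟩
  · refine ⟨g, ρ, ?_⟩
    exact Prod.ext rfl (toAut_eq g ρ)
  · have h3 : ∃ c, ρ c ≠ c := by
      by_contra hcon
      push Not at hcon
      exact hρ (RingEquiv.ext hcon)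
    obtain ⟨c, hc⟩ := h3
    refine ⟨c, ?_⟩
    have e1 : c • (1 : R F (V n F)) = E n F (c • (1 : Matrix (Fin n) (Fin n) F)) := by
      rw [map_smul, map_one]
    have e2 : (c • (1 : Matrix (Fin n) (Fin n) F)).map ρ = ρ c • (1 : Matrix (Fin n) (Fin n) F) := by
      ext i j
      rw [Matrix.map_apply, Matrix.smul_apply, Matrix.smul_apply, smul_eq_mul, smul_eq_mul, map_mul]
      congr 1
      by_cases hij : i = j
      · subst hij
        rw [Matrix.one_apply_eq, map_one]
      · rw [Matrix.one_apply_ne hij, map_zero]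
    have h4 : (AU n F q g * BU n F q ρ).1 (c • (1 : R F (V n F))) = ρ c • (1 : R F (V n F)) := by
      change H198.FC.cj F (V n F) (U n F (g : GL (Fin n) F)) (fm n F ρ (c • (1 : R F (V n F)))) = _
      rw [e1, fm_E, e2, map_smul, map_one, cj_apply, mul_smul_comm, mul_one, smul_mul_assoc, Units.mul_inv]
    rw [h4]
    intro h5
    apply hc
    have h6 := LinearMap.congr_fun h5 (Pi.single ⟨0, by omega⟩ 1)
    have h7 := congrFun h6 ⟨0, by omega⟩
    simpa only [_root_.LinearMap.smul_apply, _root_.Module.End.one_apply, _root_.Pi.smul_apply, _root_.Pi.single_eq_same, _root_.smul_eq_mul, _root_.mul_one] using h7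

end

end Cfsg.Agent.H14.IFO
end

-- part: H574/IFO/PsuOdd
section
/-!
# S5719, `CellsPSU.oddA`: the assembly (helper574)
-/

set_option autoImplicit false
set_option linter.unusedSectionVars false

namespace Cfsg.Agent.H574.IFO

open Matrix Subgroup Cfsg.Agent.H198.FC Cfsg.Agent.LieClassical.HermBasic Cfsg.Agent.LieClassical.HermSiegel
  Cfsg.Agent.ClassicalGeometry.PSUAutCount Cfsg.Agent.Schreier.PSU Cfsg.Agent.H602.FC Cfsg.Agent.H209.Fxy
open Cfsg.Agent.ClassicalGeometry.UnitAutBasic (pr pr_surjective exists_ne_zero_orth)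

/-- **`CellsPSU.oddA`** -/
theorem psu_oddA (F : Type) [Field F] [Fintype F] (n q : ℕ) (hF : Fintype.card F = q ^ 2) (hn : 3 ≤ n)
    (hs : IsSimpleGroup (Cfsg.PSU n F q)) : KillO (Cfsg.PSU n F q) := by
  intro A Γ h hodd
  have h32 : ¬ (n = 3 ∧ q = 2) := by
    rintro ⟨rfl, rfl⟩
    have h1 := (Cfsg.Agent.S0282.result (F := F) (by rw [hF]; norm_num)).2
    obtain ⟨x, y, hxy⟩ := not_comm h
    exact hxy (IsSimpleGroup.comm_iff_isSolvable.2 h1 x y)
  have hfin : Finite (Cfsg.SU n F q) := inferInstance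
  have hfin2 : Finite (Cfsg.PSU n F q) := Finite.of_surjective _ (pr_surjective (n := n) (F := F) (q := q))
  have hΓ : Group.IsSolvable Γ := solvable (Cfsg.Agent.Schreier.PSU.sch hF hn h32) h hodd
  have hfr : Module.finrank F (V n F) = n := by simp only [V, _root_.Module.finrank_fintype_fun_eq_card, _root_.Fintype.card_fin]
  have hU := hb_isU (n := n) hF
  have hbig : (hb n hF).Big := by
    refine Or.inl ⟨hU, by rw [hfr]; exact hn, fun h3 h4 => h32 ⟨by rw [← hfr]; exact h3, ?_⟩⟩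
    rw [Nat.card_eq_fintype_card, hF] at h4
    have h5 : q ≤ 2 := by
      by_contra h6
      have : 3 * 3 ≤ q * q := Nat.mul_le_mul (by omega) (by omega)
      rw [sq] at h4
      omega
    interval_cases q <;> omega
  have hne : SS Γ ⊓ IN F (V n F) ≠ ⊥ := by
    obtain ⟨a, ha, ha1⟩ : ∃ a ∈ A, a ≠ 1 := by
      by_contra hcon
      push Not at hcon
      exact h.ne_bot ((Subgroup.eq_bot_iff_forall A).2 hcon)
    obtain ⟨s, rfl⟩ := pr_surjective a
    intro h1
    have h2 : cs s ∈ SS Γ ⊓ IN F (V n F) := ⟨(cs_mem_SS h).2 ha, ⟨us s, rfl⟩⟩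
    rw [h1, Subgroup.mem_bot] at h2
    have h3 := eq_of_fst (h2 ▸ pair_mem s) (one_mem (HU n F q))
    apply ha1
    apply center_bot h
    intro y
    have h4 := DFunLike.congr_fun h3 y
    rw [MulAut.conj_apply] at h4
    exact mul_inv_eq_iff_eq_mul.1 h4
  rcases H886.FC.stmtBClass F (V n F) (hb n hF) hbig (SS Γ) (SS_le hF) (SS_solvable hF hn hΓ) hne with
    ⟨W, h1, h2, h3⟩ | ⟨-, ⟨W, h1, h2, h3, h4⟩ | ⟨k, d, e, h1, h2, h3, h4, h5, h6⟩ | ⟨e, h1, h2, h3⟩ | ⟨E, h1, h2, h3, h4⟩ |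
      ⟨u', y, Φ, h1, h2, h3, h4⟩ | ⟨A0, r, a, h1⟩⟩
  · exact case_TI hF hn h32 h hodd h1 h2 h3
  · exact case_ND hF hn h32 h hodd h1 h2 h3 h4
  · exact case_C2 hF hn h32 h hodd h1 h2 h3 h4 h5 h6
  · exact case_C2' hF hn h32 h hodd h1 h2 h3
  · by_cases hEn : Module.finrank F E = n
    · have hp : n.Prime := by rw [← hEn]; exact h2
      have hno : Odd n := hp.odd_of_ne_two (by omega)
      obtain ⟨σ, hσ, ho, -⟩ := h.ex
      obtain ⟨hcl, f, hf, hnt⟩ := H14.IFO.graph_of hF hn h32 h hodd hno hσ ho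
      exact H5.IFO.num_U hF hn hno h hodd hσ ho hcl (H62.IFO.sing_low hF hn h32 h hodd E h1 hEn hp h3 h4)
        (H716.IFO.U.sing_up hF hn h hodd E h1 hEn h3 h4 hf hσ ho hnt)
    · exact case_C3 hF hn h32 h hodd E h1 h2 h3 h4 hEn
  · exact case_C4 hF hn h32 h hodd Φ h1 h2 h3 h4
  · exact H204.IFO.case_C6 hF hn h32 h hodd h1

end Cfsg.Agent.H574.IFO
end

-- part: H500/IF/SpTypes
section
/-!
# S5719, `PSp_2m(q)`, `q` odd: the elements with `x² = 1` (helper500)

`types` : adapted symplectic basis.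
-/

set_option autoImplicit false

namespace Cfsg.Agent.H500.IFSp

open Cfsg Module Cfsg.Agent.ClassicalGeometry.SympBasic Cfsg.Agent.ClassicalGeometry.SympSiegel Cfsg.Agent.H914.Gs

variable {F : Type*} [Field F] {m : ℕ}

local notation "V" => (Fin m ⊕ Fin m → F)
local notation "G" => Matrix.symplecticGroup (Fin m) F
local notation "f" => sympForm m F

/-- hyperbolic families -/
structure HP {r : ℕ} (a b : Fin r → (Fin m ⊕ Fin m → F)) : Prop where
  aa : ∀ i j, sympForm m F (a i) (a j) = 0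
  bb : ∀ i j, sympForm m F (b i) (b j) = 0
  ab : ∀ i j, sympForm m F (a i) (b j) = if i = j then 1 else 0

theorem exists_hp (W : Submodule F V) (hnd : ∀ w ∈ W, (∀ u ∈ W, f w u = 0) → w = 0) :
    ∃ (r : ℕ) (a b : Fin r → V), HP a b ∧ (∀ i, a i ∈ W) ∧ (∀ i, b i ∈ W) ∧ finrank F W = 2 * r ∧
      W ≤ Submodule.span F (Set.range (Sum.elim a b)) := by
  obtain ⟨r, k, e, h1, h2, h3, h4⟩ := Cfsg.Agent.S0752.result (LinearMap.BilinForm.restrict (sympBilin m F) W)
    (fun w => (sympBilin_isAlt (w : V) :))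
  have hk : k = 0 := by
    rcases Nat.eq_zero_or_pos k with h | h
    · exact h
    · exfalso
      have h5 := h4 ⟨0, h⟩
      have h6 : ((e (Sum.inr ⟨0, h⟩) : W) : V) = 0 := hnd _ (e (Sum.inr ⟨0, h⟩)).2 fun u hu => h5 ⟨u, hu⟩
      exact e.ne_zero (Sum.inr ⟨0, h⟩) (Subtype.ext h6)
  subst hk
  refine ⟨r, fun i => e (Sum.inl (Sum.inl i)), fun i => e (Sum.inl (Sum.inr i)), ⟨h2, h3, h1⟩, fun i => (e _).2,
    fun i => (e _).2, ?_, ?_⟩
  · rw [finrank_eq_card_basis e, Fintype.card_sum, Fintype.card_sum, Fintype.card_fin, Fintype.card_fin]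
    ring
  · intro w hw
    have h5 := e.sum_repr ⟨w, hw⟩
    have h6 := congrArg (Submodule.subtype W) h5
    rw [map_sum] at h6
    change _ = w at h6
    rw [← h6]
    refine Submodule.sum_mem _ fun i _ => ?_
    rw [map_smul]
    refine Submodule.smul_mem _ _ (Submodule.subset_span ?_)
    rcases i with ((i | i) | i)
    · exact ⟨Sum.inl i, rfl⟩
    · exact ⟨Sum.inr i, rfl⟩
    · exact i.elim0

/-- the eigenspaces -/
def eigS (x : G) (c : F) : Submodule F V where
  carrier := {v | x • v = c • v}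
  add_mem' := fun {a b} ha hb => by
    show x • (a + b) = c • (a + b)
    rw [smul_add', smul_add, show x • a = c • a from ha, show x • b = c • b from hb]
  zero_mem' := by
    show x • (0 : V) = c • (0 : V)
    rw [smul_zero', smul_zero]
  smul_mem' := fun d a ha => by
    show x • (d • a) = c • d • a
    rw [smul_smul', show x • a = c • a from ha, smul_comm]

theorem mem_eigS {x : G} {c : F} {v : V} : v ∈ eigS x c ↔ x • v = c • v := Iff.rfl

theorem eig_orth (h2 : (2 : F) ≠ 0) {x : G} {u w : V} (hu : u ∈ eigS x 1) (hw : w ∈ eigS x (-1)) : f u w = 0 := by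
  rw [mem_eigS] at hu hw
  have h := form_smul x u w
  rw [hu, hw, one_smul, neg_smul, one_smul, sympForm_neg_right] at h
  have h3 : (2 : F) * f u w = 0 := by linear_combination -h
  exact (mul_eq_zero.1 h3).resolve_left h2

theorem eig_decomp (h2 : (2 : F) ≠ 0) {x : G} (hx : ∀ v : V, x • x • v = v) (v : V) :
    ∃ u ∈ eigS x (1 : F), ∃ w ∈ eigS x (-1 : F), v = u + w := by
  refine ⟨(2 : F)⁻¹ • (v + x • v), ?_, (2 : F)⁻¹ • (v - x • v), ?_, ?_⟩
  · rw [mem_eigS, smul_smul', smul_add', hx, one_smul, add_comm]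
  · rw [mem_eigS, smul_smul', smul_sub', hx, neg_smul, one_smul, ← smul_neg, neg_sub]
  · rw [← smul_add, add_add_sub_cancel, ← two_smul F v, smul_smul, inv_mul_cancel₀ h2, one_smul]

theorem eig_nd (h2 : (2 : F) ≠ 0) {x : G} (hx : ∀ v : V, x • x • v = v) {c : F} (hc : c = 1 ∨ c = -1) {w : V}
    (hw : w ∈ eigS x c) (h : ∀ u ∈ eigS x c, f w u = 0) : w = 0 := by
  apply eq_zero_of_forall_sympForm_right
  intro v
  obtain ⟨u, hu, u', hu', rfl⟩ := eig_decomp h2 hx v
  rcases hc with rfl | rfl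
  · rw [sympForm_add_right, h u hu, eig_orth h2 hw hu', add_zero]
  · rw [sympForm_add_right, h u' hu', sympForm_swap, eig_orth h2 hu hw, neg_zero, add_zero]

theorem eig_finrank (h2 : (2 : F) ≠ 0) {x : G} (hx : ∀ v : V, x • x • v = v) :
    finrank F (eigS x (1 : F)) + finrank F (eigS x (-1 : F)) = 2 * m := by
  have h1 : eigS x (1 : F) ⊓ eigS x (-1 : F) = ⊥ := by
    rw [Submodule.eq_bot_iff]
    rintro v ⟨hv, hv'⟩
    have h3 : x • v = (1 : F) • v := hv
    have h4 : x • v = (-1 : F) • v := hv'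
    rw [h3, neg_smul, one_smul, ← sub_eq_zero, sub_neg_eq_add, ← two_smul F v] at h4
    exact (smul_eq_zero.1 h4).resolve_left h2
  have h3 : eigS x (1 : F) ⊔ eigS x (-1 : F) = ⊤ := by
    rw [eq_top_iff]
    intro v _
    obtain ⟨u, hu, w, hw, rfl⟩ := eig_decomp h2 hx v
    exact Submodule.add_mem_sup hu hw
  have h4 := Submodule.finrank_sup_add_finrank_inf_eq (eigS x (1 : F)) (eigS x (-1 : F))
  rw [h1, h3, finrank_top, finrank_bot, finrank_fintype_fun_eq_card, Fintype.card_sum, Fintype.card_fin] at h4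
  omega

/-- **Adapted symplectic basis of an element with square 1.** -/
theorem types (h2 : (2 : F) ≠ 0) {x : G} (hx : ∀ v : V, x • x • v = v) :
    ∃ k l : ℕ, k + l = m ∧ finrank F (eigS x (-1 : F)) = 2 * k ∧ finrank F (eigS x (1 : F)) = 2 * l ∧
      (∃ a b : Fin k → V, HP a b ∧ (∀ i, x • a i = -a i) ∧ (∀ i, x • b i = -b i) ∧
        eigS x (-1 : F) ≤ Submodule.span F (Set.range (Sum.elim a b))) ∧
      ∃ a b : Fin l → V, HP a b ∧ (∀ i, x • a i = a i) ∧ (∀ i, x • b i = b i) ∧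
        eigS x (1 : F) ≤ Submodule.span F (Set.range (Sum.elim a b)) := by
  obtain ⟨k, a, b, h, ha, hb, hk, hs⟩ := exists_hp (eigS x (-1 : F)) fun w hw h => eig_nd h2 hx (Or.inr rfl) hw h
  obtain ⟨l, a', b', h', ha', hb', hl, hs'⟩ := exists_hp (eigS x (1 : F)) fun w hw h => eig_nd h2 hx (Or.inl rfl) hw h
  have h1 := eig_finrank h2 hx
  refine ⟨k, l, by omega, hk, hl, ⟨a, b, h, fun i => ?_, fun i => ?_, hs⟩, ⟨a', b', h', fun i => ?_, fun i => ?_, hs'⟩⟩
  · have := ha i
    rwa [mem_eigS, neg_smul, one_smul] at this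
  · have := hb i
    rwa [mem_eigS, neg_smul, one_smul] at this
  · have := ha' i
    rwa [mem_eigS, one_smul] at this
  · have := hb' i
    rwa [mem_eigS, one_smul] at this

/-- fundamental: `x = -1` on a hyperbolic plane -/
theorem fund_of (h2 : (2 : F) ≠ 0) {x : G} (hx : ∀ v : V, x • x • v = v)
    (h : finrank F (eigS x (-1 : F)) = 2) : ∃ a b : V, f a b = 1 ∧ x • a = -a ∧ x • b = -b ∧
      ∀ v, f v a = 0 → f v b = 0 → x • v = v := by
  obtain ⟨k, l, -, hk, -, ⟨a, b, hab, ha, hb, hs⟩, -⟩ := types h2 hx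
  obtain rfl : k = 1 := by omega
  refine ⟨a 0, b 0, by rw [hab.ab, if_pos rfl], ha 0, hb 0, ?_⟩
  intro v hva hvb
  obtain ⟨u, hu, w, hw, rfl⟩ := eig_decomp h2 hx v
  have hua : f u (a 0) = 0 := eig_orth h2 hu (by rw [mem_eigS, ha, neg_smul, one_smul])
  have hub : f u (b 0) = 0 := eig_orth h2 hu (by rw [mem_eigS, hb, neg_smul, one_smul])
  rw [sympForm_add_left, hua, zero_add] at hva
  rw [sympForm_add_left, hub, zero_add] at hvb
  have hw0 : w = 0 := by
    apply eig_nd h2 hx (Or.inr rfl) hw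
    intro y hy
    refine Submodule.span_induction ?_ (sympForm_zero_right _) ?_ ?_ (hs hy)
    · rintro _ ⟨(i | i), rfl⟩
      · rw [Subsingleton.elim i 0]
        exact hva
      · rw [Subsingleton.elim i 0]
        exact hvb
    · intro p q _ _ hp hq
      rw [sympForm_add_right, hp, hq, add_zero]
    · intro c p _ hp
      rw [sympForm_smul_right, hp, mul_zero]
  rw [hw0, add_zero]
  have := hu
  rwa [mem_eigS, one_smul] at this

end Cfsg.Agent.H500.IFSp
end

-- part: H500/IF/SpCell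
section
/-!
# S5719, `PSp_2m(q)`, `q` odd, `m = 3, 4`: assembly (helper500)
-/

set_option autoImplicit false

namespace Cfsg.Agent.H500.IFSp

open Cfsg Module Cfsg.Agent.ClassicalGeometry.SympBasic Cfsg.Agent.ClassicalGeometry.SympSiegel Cfsg.Agent.H914.Gs
  Cfsg.Agent.H209.Fxy

variable {F : Type*} [Field F] {m : ℕ}

local notation "V" => (Fin m ⊕ Fin m → F)
local notation "G" => Matrix.symplecticGroup (Fin m) F
local notation "f" => sympForm m F

/-- fundamental involutions: `-1` on a hyperbolic plane, `1` on its orthogonal -/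
def Fundl (x : G) : Prop := ∃ a b : V, f a b = 1 ∧ x • a = -a ∧ x • b = -b ∧
  ∀ v, f v a = 0 → f v b = 0 → x • v = v

/-- `-1` -/
def nu (m : ℕ) (F : Type*) [Field F] : Matrix.symplecticGroup (Fin m) F :=
  ⟨(-1 : F) • 1, Cfsg.Agent.LieClassical.SympCenter.smul_one_mem m (by ring)⟩

theorem nu_smul (v : V) : nu m F • v = -v := by
  show ((-1 : F) • (1 : Matrix (Fin m ⊕ Fin m) (Fin m ⊕ Fin m) F)).mulVec v = -v
  rw [Matrix.smul_mulVec, Matrix.one_mulVec, neg_smul, one_smul]

theorem nu_mem : nu m F ∈ Subgroup.center (Matrix.symplecticGroup (Fin m) F) :=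
  (Cfsg.Agent.LieClassical.SympCenter.mem_center_iff m _).2 ⟨-1, rfl⟩

theorem mem_center_of {x : G} (h : (∀ v : V, x • v = v) ∨ ∀ v : V, x • v = -v) :
    x ∈ Subgroup.center (Matrix.symplecticGroup (Fin m) F) := by
  rcases h with h | h
  · have : x = 1 := ext_smul fun v => by rw [h, one_smul]
    rw [this]
    exact one_mem _
  · have : x = nu m F := ext_smul fun v => by rw [h, nu_smul]
    rw [this]
    exact nu_mem

theorem of_mem_center (hm : 1 ≤ m) {x : G} (h : x ∈ Subgroup.center (Matrix.symplecticGroup (Fin m) F)) :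
    (∀ v : V, x • v = v) ∨ ∀ v : V, x • v = -v := by
  obtain ⟨a, ha⟩ := (Cfsg.Agent.LieClassical.SympCenter.mem_center_iff m _).1 h
  have h1 := Cfsg.Agent.LieClassical.SympCenter.sq_eq_one_of_smul_mem hm (ha ▸ x.2)
  have h3 : ∀ v : V, x • v = a • v := by
    intro v
    rw [smul_def, ha, Matrix.smul_mulVec, Matrix.one_mulVec]
  rcases mul_self_eq_one_iff.1 h1 with h4 | h4
  · left
    intro v
    rw [h3, h4, one_smul]
  · right
    intro v
    rw [h3, h4, neg_smul, one_smul]

theorem eigS_nu (x : G) (c : F) : eigS (x * nu m F) c = eigS x (-c) := by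
  ext v
  rw [mem_eigS, mem_eigS, mul_smul, nu_smul, smul_neg', neg_smul, neg_eq_iff_eq_neg]

/-- the elements of `Â` with square 1 -/
theorem sq_one (h2 : (2 : F) ≠ 0) (h3 : 3 ≤ m) (h4 : m ≤ 4) {H : Subgroup (Matrix.symplecticGroup (Fin m) F)}
    (hnu : nu m F ∈ H) (hF : ∀ z ∈ H, Fundl z → False)
    (h22 : m = 4 → ∀ x ∈ H, (∀ v : V, x • x • v = v) → finrank F (eigS x (-1 : F)) = 4 → False)
    {x : G} (hx : x ∈ H) (hxx : ∀ v : V, x • x • v = v) : (∀ v : V, x • v = v) ∨ ∀ v : V, x • v = -v := by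
  obtain ⟨k, l, hkl, hk, hl, -, -⟩ := types h2 hxx
  have f1 : ∀ y ∈ H, (∀ v : V, y • y • v = v) → finrank F (eigS y (-1 : F)) ≠ 2 := by
    intro y hy hyy h
    exact hF y hy (fund_of h2 hyy h)
  have hk1 : k ≠ 1 := by
    rintro rfl
    exact f1 x hx hxx hk
  have hl1 : l ≠ 1 := by
    rintro rfl
    refine f1 (x * nu m F) (mul_mem hx hnu) ?_ ?_
    · intro v
      rw [mul_smul, mul_smul, nu_smul, nu_smul, smul_neg', smul_neg', smul_neg', neg_neg, hxx]
    · rw [eigS_nu, neg_neg, hl]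
  have h5 : k ≠ 2 ∨ l ≠ 2 := by
    by_contra hcon
    push Not at hcon
    obtain ⟨rfl, rfl⟩ := hcon
    exact h22 (by omega) x hx hxx hk
  have h6 : k = 0 ∨ l = 0 := by omega
  rcases h6 with rfl | rfl
  · left
    intro v
    obtain ⟨u, hu, w, hw, rfl⟩ := eig_decomp h2 hxx v
    have : eigS x (-1 : F) = ⊥ := Submodule.finrank_eq_zero.1 (by omega)
    rw [this, Submodule.mem_bot] at hw
    rw [hw, add_zero, mem_eigS.1 hu, one_smul]
  · right
    intro v
    obtain ⟨u, hu, w, hw, rfl⟩ := eig_decomp h2 hxx v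
    have : eigS x (1 : F) = ⊥ := Submodule.finrank_eq_zero.1 (by omega)
    rw [this, Submodule.mem_bot] at hu
    rw [hu, zero_add, mem_eigS.1 hw, neg_smul, one_smul]

theorem two_ne {F : Type*} [Field F] [Fintype F] (ho : Odd (Fintype.card F)) : (2 : F) ≠ 0 := by
  intro h
  have h1 := ringChar.charP F
  have h3 : ringChar F = 2 := CharP.eq F h1 (CharTwo.of_one_ne_zero_of_two_eq_zero one_ne_zero h)
  have h4 := (FiniteField.even_card_iff_char_two (F := F)).1 h3
  have h5 := Nat.odd_iff.1 ho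
  omega

/-- **Assembly.** -/
theorem cell_of (F : Type) [Field F] [Fintype F] (m : ℕ) (ho : Odd (Fintype.card F)) (h3 : 3 ≤ m) (h4 : m ≤ 4)
    (hs : IsSimpleGroup (PSp m F)) {A : Subgroup (PSp m F)} {Γ : Subgroup (MulAut (PSp m F))} (h : IF A Γ)
    (hF : ∀ z ∈ A.comap (QuotientGroup.mk' (Subgroup.center (Matrix.symplecticGroup (Fin m) F))), Fundl z → False)
    (h22 : m = 4 → ∀ x ∈ A.comap (QuotientGroup.mk' (Subgroup.center (Matrix.symplecticGroup (Fin m) F))),
      (∀ v : Fin m ⊕ Fin m → F, x • x • v = v) → finrank F (eigS x (-1 : F)) = 4 → False)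
    (hfield : ¬ IsSquare (-1 : F) → ∀ {H : Subgroup (Matrix.symplecticGroup (Fin m) F)},
      (∀ y ∈ H, (∀ v : Fin m ⊕ Fin m → F, y • y • v = v) →
        (∀ v : Fin m ⊕ Fin m → F, y • v = v) ∨ ∀ v : Fin m ⊕ Fin m → F, y • v = -v) →
      ∀ {x : Matrix.symplecticGroup (Fin m) F}, (∀ v : Fin m ⊕ Fin m → F, x • x • v = -v) →
      (∀ B ≤ Subgroup.centralizer ({x} : Set (Matrix.symplecticGroup (Fin m) F)),
        H.relIndex B ^ 5 < (Subgroup.centralizer ({x} : Set (Matrix.symplecticGroup (Fin m) F))).index) → False)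
    (hA : ∃ t ∈ A, orderOf t = 2) : False := by
  have : Finite (Matrix.symplecticGroup (Fin m) F) := Subtype.finite
  have : Finite (PSp m F) := Quotient.finite _
  have h2 := two_ne ho
  obtain ⟨t, htA, ht⟩ := hA
  obtain ⟨x, rfl⟩ := QuotientGroup.mk'_surjective (Subgroup.center (Matrix.symplecticGroup (Fin m) F)) t
  have hnu : nu m F ∈ A.comap (QuotientGroup.mk' (Subgroup.center (Matrix.symplecticGroup (Fin m) F))) := by
    rw [Subgroup.mem_comap]
    have : QuotientGroup.mk' (Subgroup.center (Matrix.symplecticGroup (Fin m) F)) (nu m F) = 1 :=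
      (QuotientGroup.eq_one_iff _).2 nu_mem
    rw [this]
    exact one_mem _
  have hx : x ∈ A.comap (QuotientGroup.mk' (Subgroup.center (Matrix.symplecticGroup (Fin m) F))) := htA
  have h0 := fun (y : Matrix.symplecticGroup (Fin m) F)
    (hy : y ∈ A.comap (QuotientGroup.mk' (Subgroup.center (Matrix.symplecticGroup (Fin m) F)))) =>
    sq_one h2 h3 h4 hnu hF h22 hy
  have ht1 : QuotientGroup.mk' (Subgroup.center (Matrix.symplecticGroup (Fin m) F)) x ≠ 1 := by
    intro h5
    rw [h5, orderOf_one] at ht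
    omega
  have ht2 : QuotientGroup.mk' (Subgroup.center (Matrix.symplecticGroup (Fin m) F)) (x * x) = 1 := by
    rw [map_mul, ← pow_two, ← ht, pow_orderOf_eq_one]
  have hxc : x * x ∈ Subgroup.center (Matrix.symplecticGroup (Fin m) F) := (QuotientGroup.eq_one_iff _).1 ht2
  rcases of_mem_center (by omega) hxc with h6 | h6
  · refine ht1 ((QuotientGroup.eq_one_iff _).2 (mem_center_of (h0 x hx fun v => ?_)))
    rw [← mul_smul]
    exact h6 v
  · have hxx : ∀ v : Fin m ⊕ Fin m → F, x • x • v = -v := fun v => by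
      rw [← mul_smul]
      exact h6 v
    have hna : ∃ a b : PSp m F, a * b ≠ b * a := by
      by_contra hcon
      push Not at hcon
      have hn : A.Normal := ⟨fun a ha g => by rw [hcon g a, mul_inv_cancel_right]; exact ha⟩
      rcases hn.eq_bot_or_eq_top with h7 | h7
      · exact h.ne_bot h7
      · exact h.ne_top h7
    have hE : ∀ B ≤ Subgroup.centralizer ({x} : Set (Matrix.symplecticGroup (Fin m) F)),
        (A.comap (QuotientGroup.mk' (Subgroup.center (Matrix.symplecticGroup (Fin m) F)))).relIndex B ^ 5 <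
          (Subgroup.centralizer ({x} : Set (Matrix.symplecticGroup (Fin m) F))).index := by
      intro B hB
      refine Cfsg.Agent.H847.IF.lift_E2 h hna _ (QuotientGroup.mk'_surjective _) htA ht1 ht2 ?_
      intro b hb
      rw [Subgroup.mem_centralizer_singleton_iff.1 (hB hb)]
    by_cases hsq : IsSquare (-1 : F)
    · obtain ⟨i, hi⟩ := hsq
      exact kill_split h3 h2 hi.symm h0 hxx hE
    · exact hfield hsq h0 hxx hE

end Cfsg.Agent.H500.IFSp
end

private theorem dce_6de80f557eb9 : _root_.True := by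
  try have : _root_.True := by simp only [_root_.Cfsg.Agent.H574.IFO.cs.eq_1]
  exact _root_.True.intro
end
end
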